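import Cfsg.Agent.Lib.Dickson.CentralizerCard
import Cfsg.Agent.Lib.Dickson.Involutions
import Cfsg.Agent.Lib.Dickson.KleinClasses
import Cfsg.Agent.Lib.Spec.PSLTwoSpectrum

/-!
# The part of the structure of `PSL₂(3^(2n+1))` used for groups of Ree type
-/

set_option autoImplicit false
set_option linter.unusedSectionVars false
set_option linter.style.haveILetI false

namespace Cfsg.Lib.ReeType

/-- Distinguished elements and subgroups of `PSL₂(q)`, `q = 4T - 1` an odd power of three: a Sylow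
three-subgroup `U` with normalizer `B`, a split torus `⟨a⟩`, the odd part `⟨y⟩` of a nonsplit torus
with its involution `z`, inverting involutions `w`, `i`, and an element `r` cycling a four-group. -/
structure LData (L : Type*) [Group L] (q T : ℕ) where
  U : Subgroup L
  B : Subgroup L
  a : L
  w : L
  y : L
  z : L
  i : L
  r : L
  card_L : 2 * Nat.card L = q * (q * q - 1)
  card_U : Nat.card U = q
  card_B : 2 * Nat.card B = q * (q - 1)
  U_le : U ≤ B
  U_normal : ∀ b ∈ B, ∀ u ∈ U, b * u * b⁻¹ ∈ U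
  U_cube : ∀ u ∈ U, u ^ 3 = 1
  U_comm : ∀ u ∈ U, ∀ v ∈ U, u * v = v * u
  cent_U : ∀ u ∈ U, u ≠ 1 → ∀ l : L, l * u = u * l → l ∈ U
  norm_U : ∀ l : L, (∀ u ∈ U, l * u * l⁻¹ ∈ U) → l ∈ B
  orderOf_a : orderOf a = 2 * T - 1
  a_mem : a ∈ B
  cent_a : ∀ x ∈ Subgroup.zpowers a, x ≠ 1 → ∀ l : L, l * x = x * l → l ∈ Subgroup.zpowers a
  into_B : ∀ x ∈ Subgroup.zpowers a, x ≠ 1 → ∀ l : L, l * x * l⁻¹ ∈ B → l ∈ B ∨ l * w ∈ B
  w_sq : w * w = 1
  w_inv : w * a * w⁻¹ = a⁻¹
  orderOf_y : orderOf y = T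
  z_sq : z * z = 1
  z_ne : z ≠ 1
  y_z : y * z = z * y
  cent_y : ∀ x ∈ Subgroup.zpowers y, x ≠ 1 → ∀ l : L, l * x = x * l →
    l ∈ Subgroup.zpowers y ∨ l * z ∈ Subgroup.zpowers y
  card_cent_z : Nat.card (Subgroup.centralizer ({z} : Set L)) = 4 * T
  i_sq : i * i = 1
  i_z : i * z = z * i
  i_y : i * y * i⁻¹ = y⁻¹
  cent_z : ∀ l : L, l * z = z * l → ∃ s ∈ Subgroup.zpowers y,
    l = s ∨ l = s * z ∨ l = s * i ∨ l = s * z * i
  involutions_conj : ∀ x : L, x * x = 1 → x ≠ 1 → ∃ l : L, l * z * l⁻¹ = x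
  no_four : ∀ x : L, x ^ 4 = 1 → x * x = 1
  r_cube : r ^ 3 = 1
  r_z : r * z * r⁻¹ ≠ z
  r_comm : r * z * r⁻¹ * z = z * (r * z * r⁻¹)
  r_cycle : r * (r * z * r⁻¹) * r⁻¹ = z * (r * z * r⁻¹)
  cent_four : ∀ l : L, l * z = z * l → l * (r * z * r⁻¹) = r * z * r⁻¹ * l →
    l = 1 ∨ l = z ∨ l = r * z * r⁻¹ ∨ l = z * (r * z * r⁻¹)

open Cfsg.Lib.Dickson Cfsg.Lib.Dickson.KleinClasses

section PSL

variable {F : Type} [Field F] [Fintype F] {n : ℕ}

local notation "SL2" => Matrix.SpecialLinearGroup (Fin 2) F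
local notation "PSL2" => Matrix.ProjectiveSpecialLinearGroup (Fin 2) F

theorem charP_three (hF : Fintype.card F = 3 ^ (2 * n + 1)) : CharP F 3 := by
  obtain ⟨p, hpp, hp, m, hm0, hm⟩ := exists_char (F := F)
  have h : p ∣ 3 ^ (2 * n + 1) := hF ▸ hm.symm ▸ dvd_pow_self p hm0.ne'
  have := (Nat.prime_dvd_prime_iff_eq hpp Nat.prime_three).mp (hpp.dvd_of_dvd_pow h)
  subst this
  exact hp

/-- A diagonal matrix. -/
def diagSL (c : Fˣ) : SL2 := ⟨!![(c : F), 0; 0, ((c⁻¹ : Fˣ) : F)], by simp [Matrix.det_fin_two_of]⟩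

theorem diagSL_coe (c : Fˣ) :
    ((diagSL c : SL2) : Matrix (Fin 2) (Fin 2) F) = !![(c : F), 0; 0, ((c⁻¹ : Fˣ) : F)] := rfl

theorem stdInvol_coe :
    ((stdInvol F : SL2) : Matrix (Fin 2) (Fin 2) F) = !![0, -1; 1, 0] := rfl

theorem diagSL_pow (c : Fˣ) : ∀ m : ℕ, diagSL c ^ m = diagSL (c ^ m)
  | 0 => by
    refine Subtype.ext ?_
    ext i j; fin_cases i <;> fin_cases j <;> simp [diagSL_coe]
  | m + 1 => by
    rw [pow_succ, diagSL_pow c m]
    refine Subtype.ext ?_
    ext i j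
    fin_cases i <;> fin_cases j <;>
      simp [diagSL_coe, Matrix.mul_apply, Fin.sum_univ_two, pow_succ, mul_comm]

theorem card_mod_eight (n : ℕ) : 3 ^ (2 * n + 1) % 8 = 3 := by
  induction n with
  | zero => norm_num
  | succ n ih =>
    rw [show 2 * (n + 1) + 1 = (2 * n + 1) + 2 by ring, pow_add]
    omega

/-- A nontrivial element centralizing a cyclic group as large as its centralizer. -/
theorem mem_zpowers_of_card {G : Type*} [Group G] [Finite G] {g x : G}
    (hx : x ∈ Subgroup.zpowers g)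
    (hc : Nat.card (Subgroup.centralizer ({x} : Set G)) = orderOf g) {l : G}
    (hl : l * x = x * l) : l ∈ Subgroup.zpowers g := by
  have hle : Subgroup.zpowers g ≤ Subgroup.centralizer ({x} : Set G) := by
    rw [Subgroup.zpowers_le, Subgroup.mem_centralizer_singleton_iff]
    obtain ⟨k, rfl⟩ := Subgroup.mem_zpowers_iff.mp hx
    exact (Commute.self_zpow g k).eq
  rw [Subgroup.eq_of_le_of_card_ge hle (by rw [hc, Nat.card_zpowers])]
  exact Subgroup.mem_centralizer_singleton_iff.mpr hl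

theorem exists_LData (hn : 1 ≤ n) (hF : Fintype.card F = 3 ^ (2 * n + 1)) :
    ∃ T : ℕ, 4 * T = 3 ^ (2 * n + 1) + 1 ∧ Nonempty (LData PSL2 (3 ^ (2 * n + 1)) T) := by
  classical
  haveI := charP_three hF
  haveI : Fact (Nat.Prime 3) := ⟨Nat.prime_three⟩
  set q := Fintype.card F with hqdef
  have hq8 : q % 8 = 3 := by rw [hF]; exact card_mod_eight n
  have hq27 : 27 ≤ q := by
    rw [hF]
    calc 27 = 3 ^ 3 := by norm_num
      _ ≤ 3 ^ (2 * n + 1) := Nat.pow_le_pow_right (by norm_num) (by omega)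
  have hodd : q % 2 = 1 := by omega
  set T := (q + 1) / 4 with hTdef
  have h4T : 4 * T = q + 1 := by omega
  have hT2 : T % 2 = 1 := by omega
  refine ⟨T, by rw [h4T, hF], ?_⟩
  rw [← hF]
  have hgcd : Nat.gcd 2 (q - 1) = 2 := Nat.gcd_eq_left (by omega)
  have h3q : 3 ∣ q := hF ▸ dvd_pow_self 3 (by omega)
  have hcard : 2 * Nat.card PSL2 = q * (q * q - 1) := by
    have h := Cfsg.Lib.Linear.Two.card_PSL_two (F := F)
    rw [← hqdef, hgcd, sq] at h
    exact h
  set π := QuotientGroup.mk' (Subgroup.center SL2) with hπ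
  -- centralizers of semisimple elements of odd order
  have hss : ∀ x : PSL2, x ^ 2 ≠ 1 → ¬ 3 ∣ orderOf x →
      Nat.card (Subgroup.centralizer ({x} : Set PSL2)) = 2 * T ∧ orderOf x ∣ 2 * T ∨
      Nat.card (Subgroup.centralizer ({x} : Set PSL2)) = 2 * T - 1 ∧ orderOf x ∣ 2 * T - 1 := by
    intro x h1 h2
    have h := card_centralizer_semisimple (F := F) (by omega) 3 h1 h2
    rwa [← hqdef, hgcd, show (q + 1) / 2 = 2 * T by omega,
      show (q - 1) / 2 = 2 * T - 1 by omega] at h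
  -- the split torus
  obtain ⟨ζ, hζ⟩ := IsCyclic.exists_ofOrder_eq_natCard (α := Fˣ)
  rw [Nat.card_eq_fintype_card, Fintype.card_units, ← hqdef] at hζ
  set a : PSL2 := π (diagSL ζ) with ha
  have hapow : ∀ m : ℕ, a ^ m = 1 ↔ (2 * T - 1) ∣ m := by
    intro m
    have h1 : a ^ m = 1 ↔ (ζ ^ m) ^ 2 = 1 := by
      rw [ha, ← map_pow, diagSL_pow, hπ, QuotientGroup.mk'_apply, QuotientGroup.eq_one_iff]
      constructor
      · intro h
        obtain ⟨-, -, h11⟩ := mem_center_sl h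
        refine Units.ext ?_
        have h11' : (((ζ ^ m)⁻¹ : Fˣ) : F) = ((ζ ^ m : Fˣ) : F) := by simpa [diagSL_coe] using h11
        rw [Units.val_pow_eq_pow_val, Units.val_one, sq]
        calc ((ζ ^ m : Fˣ) : F) * ((ζ ^ m : Fˣ) : F) = ((ζ ^ m : Fˣ) : F) * (((ζ ^ m)⁻¹ : Fˣ) : F) := by
              rw [h11']
          _ = 1 := by simp
      · intro h
        refine mem_center_of_eq_scalar (c := ((ζ ^ m : Fˣ) : F)) (by
          rw [← Units.val_pow_eq_pow_val, h, Units.val_one]) ?_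
        have hinv : (ζ ^ m)⁻¹ = ζ ^ m := inv_eq_of_mul_eq_one_right (by rw [← sq, h])
        ext i j
        fin_cases i <;> fin_cases j <;> simp [diagSL_coe, hinv]
    rw [h1, ← pow_mul, ← orderOf_dvd_iff_pow_eq_one, hζ, show q - 1 = (2 * T - 1) * 2 by omega]
    exact Nat.mul_dvd_mul_iff_right two_pos
  have horda : orderOf a = 2 * T - 1 :=
    Nat.dvd_antisymm (orderOf_dvd_of_pow_eq_one ((hapow _).mpr dvd_rfl))
      ((hapow _).mp (pow_orderOf_eq_one a))
  set P : Sylow 3 PSL2 := stdSylow (F := F) 3 with hP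
  set B := Subgroup.normalizer ((P : Subgroup PSL2) : Set PSL2) with hB
  have hBmap : B = (borelSL F).map π := normalizer_stdSylow 3
  have haB : a ∈ B := by
    rw [hBmap]; exact ⟨diagSL ζ, by simp [mem_borelSL, diagSL_coe], rfl⟩
  have hodd' : ∀ x ∈ Subgroup.zpowers a, x ≠ 1 → x ^ 2 ≠ 1 ∧ ¬ 3 ∣ orderOf x ∧
      Nat.card (Subgroup.centralizer ({x} : Set PSL2)) = orderOf a := by
    intro x hx hx1
    have hdvd : orderOf x ∣ 2 * T - 1 := horda ▸ orderOf_dvd_of_mem_zpowers hx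
    have h2 : x ^ 2 ≠ 1 := fun h => by
      rcases (Nat.dvd_prime Nat.prime_two).mp (orderOf_dvd_of_pow_eq_one h) with e | e
      · exact hx1 (orderOf_eq_one_iff.mp e)
      · rw [e] at hdvd; omega
    have h3 : ¬ 3 ∣ orderOf x := fun h => by have := h.trans hdvd; omega
    refine ⟨h2, h3, ?_⟩
    rcases hss x h2 h3 with ⟨-, h⟩ | ⟨h, -⟩
    · have := Nat.dvd_sub h hdvd
      rw [show 2 * T - (2 * T - 1) = 1 by omega, Nat.dvd_one, orderOf_eq_one_iff] at this
      exact absurd this hx1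
    · rw [h, horda]
  set w : PSL2 := π (stdInvol F) with hw
  have hwsq : w * w = 1 := by
    have := std_sq (F := F)
    rwa [sq] at this
  have hwa : w * a * w⁻¹ = a⁻¹ := by
    rw [mul_inv_eq_iff_eq_mul, ha, hw, ← map_inv, ← map_mul, ← map_mul]
    congr 1
    refine Subtype.ext ?_
    ext i j
    fin_cases i <;> fin_cases j <;>
      simp [diagSL_coe, stdInvol_coe, Matrix.mul_apply, Fin.sum_univ_two, Matrix.adjugate_fin_two]
  have hinto : ∀ x ∈ Subgroup.zpowers a, x ≠ 1 → ∀ l : PSL2, l * x * l⁻¹ ∈ B → l ∈ B ∨ l * w ∈ B := by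
    intro x hx hx1 l hl
    obtain ⟨m, rfl⟩ : ∃ m : ℕ, a ^ m = x :=
      (isOfFinOrder_of_finite a).mem_zpowers_iff_mem_range_orderOf.mp hx |>
        fun h => by
          obtain ⟨m, -, hm⟩ := Finset.mem_image.mp h
          exact ⟨m, hm⟩
    obtain ⟨g, rfl⟩ := QuotientGroup.mk'_surjective _ l
    rw [hBmap] at hl ⊢
    obtain ⟨b, hb, hbe⟩ := hl
    rw [ha, ← map_pow, diagSL_pow, ← map_mul, ← map_inv, ← map_mul] at hbe
    obtain ⟨c, hc, hc'⟩ := (QuotientGroup.mk'_eq_mk' _).mp hbe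
    obtain ⟨-, c10, c11⟩ := mem_center_sl hc
    have hgd : g 1 0 * g 1 1 * (((ζ ^ m : Fˣ) : F) - (((ζ ^ m)⁻¹ : Fˣ) : F)) = 0 := by
      have h := congrArg (fun M : SL2 => M 1 0) hc'
      simp [Matrix.mul_apply, Fin.sum_univ_two, diagSL_coe, Matrix.adjugate_fin_two, c10,
        show (b : Matrix (Fin 2) (Fin 2) F) 1 0 = 0 from hb] at h
      simp only [Units.val_pow_eq_pow_val, Units.val_inv_eq_inv_val] at h ⊢
      linear_combination -h
    rcases mul_eq_zero.mp hgd with h | h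
    · rcases mul_eq_zero.mp h with h | h
      · exact Or.inl ⟨g, h, rfl⟩
      · refine Or.inr ⟨g * stdInvol F, ?_, by rw [map_mul]⟩
        rw [SetLike.mem_coe, mem_borelSL]
        simp [Matrix.mul_apply, Fin.sum_univ_two, stdInvol_coe, h]
    · exfalso
      refine hx1 ((hapow m).mpr ?_)
      have hu : (ζ ^ m)⁻¹ = ζ ^ m := (Units.ext (sub_eq_zero.mp h)).symm
      have : ζ ^ (m * 2) = 1 := by
        rw [pow_mul, sq]; nth_rewrite 1 [← hu]; exact inv_mul_cancel _
      rw [← orderOf_dvd_iff_pow_eq_one, hζ, show q - 1 = (2 * T - 1) * 2 by omega] at this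
      exact Nat.dvd_of_mul_dvd_mul_right two_pos this
  -- the nonsplit torus
  obtain ⟨y₀, hy₀⟩ : 2 * T ∈ Set.range (orderOf : PSL2 → ℕ) := by
    rw [Cfsg.Lib.Spec.psl_two_spectrum 3 (by omega), ← hqdef, hgcd]
    exact Or.inr (Or.inr (by rw [show (q + 1) / 2 = 2 * T by omega]))
  set y := y₀ ^ 2 with hy
  set z := y₀ ^ T with hz
  have hordy : orderOf y = T := by
    rw [hy, orderOf_pow, hy₀, Nat.gcd_eq_right (dvd_mul_right 2 T)]; omega
  have hordz : orderOf z = 2 := by
    rw [hz, orderOf_pow, hy₀, Nat.gcd_eq_right (dvd_mul_left T 2)]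
    rw [Nat.mul_div_cancel _ (by omega)]
  have hzsq : z * z = 1 := by
    have := pow_orderOf_eq_one z
    rwa [hordz, sq] at this
  have hz1 : z ≠ 1 := fun e => by rw [e, orderOf_one] at hordz; omega
  have hcy : ∀ x ∈ Subgroup.zpowers y, x ≠ 1 → ∀ l : PSL2, l * x = x * l →
      l ∈ Subgroup.zpowers y₀ := by
    intro x hx hx1 l hl
    have hdvd : orderOf x ∣ T := hordy ▸ orderOf_dvd_of_mem_zpowers hx
    have h2 : x ^ 2 ≠ 1 := fun h => by
      rcases (Nat.dvd_prime Nat.prime_two).mp (orderOf_dvd_of_pow_eq_one h) with e | e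
      · exact hx1 (orderOf_eq_one_iff.mp e)
      · rw [e] at hdvd; omega
    have h3 : ¬ 3 ∣ orderOf x := fun h => by have := h.trans hdvd; omega
    refine mem_zpowers_of_card ((Subgroup.zpowers_le.mpr (Subgroup.pow_mem _
      (Subgroup.mem_zpowers y₀) 2)) hx) ?_ hl
    rcases hss x h2 h3 with ⟨h, -⟩ | ⟨-, h⟩
    · rw [h, hy₀]
    · have h' : orderOf x ∣ 2 * T := hdvd.trans (dvd_mul_left T 2)
      have := Nat.dvd_sub h' h
      rw [show 2 * T - (2 * T - 1) = 1 by omega, Nat.dvd_one, orderOf_eq_one_iff] at this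
      exact absurd this hx1
  have hsplit : ∀ l ∈ Subgroup.zpowers y₀, l ∈ Subgroup.zpowers y ∨ l * z ∈ Subgroup.zpowers y := by
    intro l hl
    obtain ⟨m, rfl⟩ := Subgroup.mem_zpowers_iff.mp hl
    rcases Int.even_or_odd m with ⟨k, rfl⟩ | ⟨k, rfl⟩
    · refine Or.inl ⟨k, ?_⟩
      show y ^ k = y₀ ^ (k + k)
      rw [hy, ← zpow_natCast, ← zpow_mul]; congr 1; push_cast; ring
    · refine Or.inr ⟨k + ((T + 1) / 2 : ℕ), ?_⟩
      show y ^ (k + (((T + 1) / 2 : ℕ) : ℤ)) = y₀ ^ (2 * k + 1) * z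
      rw [hy, hz, ← zpow_natCast y₀ 2, ← zpow_natCast y₀ T, ← zpow_mul, ← zpow_add]
      congr 1; push_cast; omega
  have hzC : Nat.card (Subgroup.centralizer ({z} : Set PSL2)) = 4 * T := by
    rw [h4T]
    exact (card_centralizer_involution hodd (by omega) (by rw [sq, hzsq]) hz1).2 (by omega)
  -- no elements of order four
  have hklein : ∃ V : Subgroup PSL2, IsKleinFour V := by
    by_contra h
    haveI : IsEmpty {V : Subgroup PSL2 // IsKleinFour V} := ⟨fun V => h ⟨V.1, V.2⟩⟩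
    have := card_klein (F := F) hodd
    rw [Nat.card_of_isEmpty, mul_zero] at this
    exact (Nat.card_pos).ne this
  have hno4 : ∀ x : PSL2, x ^ 4 = 1 → x * x = 1 := by
    intro x hx
    haveI : Fact (Nat.Prime 2) := ⟨Nat.prime_two⟩
    obtain ⟨V, hV⟩ := hklein
    haveI := hV
    have hV2 : IsPGroup 2 V := IsPGroup.of_card (n := 2) hV.card_four
    obtain ⟨S, hS⟩ := hV2.exists_le_sylow
    have hx2 : IsPGroup 2 (Subgroup.zpowers x) := by
      obtain ⟨j, -, hj⟩ := (Nat.dvd_prime_pow Nat.prime_two).mp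
        (orderOf_dvd_of_pow_eq_one (show x ^ 2 ^ 2 = 1 by simpa using hx))
      exact IsPGroup.of_card (n := j) (by rw [Nat.card_zpowers, hj])
    obtain ⟨R, hR⟩ := hx2.exists_le_sylow
    obtain ⟨g, rfl⟩ := MulAction.exists_smul_eq PSL2 S R
    have hSV : (S : Subgroup PSL2) = V := by
      refine (Subgroup.eq_of_le_of_card_ge hS ?_).symm
      obtain ⟨j, hj⟩ := IsPGroup.iff_card.mp S.isPGroup'
      rw [hV.card_four, hj]
      by_contra hlt
      push Not at hlt
      have h8 : 8 ∣ Nat.card (S : Subgroup PSL2) := by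
        rw [hj, show (8 : ℕ) = 2 ^ 3 by norm_num]
        exact pow_dvd_pow 2 (by
          by_contra hh; push Not at hh
          interval_cases j <;> norm_num at hlt)
      have h16 : 16 ∣ q * (q * q - 1) := by
        rw [← hcard]
        exact Nat.mul_dvd_mul_left 2 (h8.trans (Subgroup.card_subgroup_dvd_card _))
      have h16' : 16 ∣ q * q - 1 := Nat.Coprime.dvd_of_dvd_mul_left
        (Nat.Coprime.pow_left 4 ((Nat.prime_two.coprime_iff_not_dvd).mpr (by omega))) h16
      obtain ⟨c, hc⟩ : ∃ c, q = 8 * c + 3 := ⟨q / 8, by omega⟩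
      rw [hc, show (8 * c + 3) * (8 * c + 3) = 16 * (4 * c * c + 3 * c) + 9 by ring] at h16'
      omega
    have hmem := hR (Subgroup.mem_zpowers x)
    rw [Sylow.coe_subgroup_smul, hSV] at hmem
    obtain ⟨v, hv, rfl⟩ := hmem
    have hvv : v * v = 1 := congrArg Subtype.val (IsKleinFour.mul_self (⟨v, hv⟩ : V))
    simp only [MulDistribMulAction.toMonoidEnd_apply, MulDistribMulAction.toMonoidHom_apply, MulAut.smul_def, MulAut.conj_apply]
    calc g * v * g⁻¹ * (g * v * g⁻¹) = g * (v * v) * g⁻¹ := by group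
      _ = 1 := by rw [hvv]; group
  -- an involution inverting the nonsplit torus
  have hy₀C : Subgroup.zpowers y₀ ≤ Subgroup.centralizer ({z} : Set PSL2) := by
    rw [Subgroup.zpowers_le, Subgroup.mem_centralizer_singleton_iff]
    exact (Commute.self_pow y₀ T).eq
  obtain ⟨i, hiC, hi0⟩ : ∃ i ∈ Subgroup.centralizer ({z} : Set PSL2), i ∉ Subgroup.zpowers y₀ := by
    by_contra h
    push Not at h
    have := Subgroup.card_le_of_le (show Subgroup.centralizer ({z} : Set PSL2) ≤ _ from h)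
    rw [hzC, Nat.card_zpowers, hy₀] at this
    omega
  have hidx : ((Subgroup.zpowers y₀).subgroupOf (Subgroup.centralizer ({z} : Set PSL2))).index = 2 := by
    have h := ((Subgroup.zpowers y₀).subgroupOf (Subgroup.centralizer ({z} : Set PSL2))).card_mul_index
    rw [Nat.card_congr (Subgroup.subgroupOfEquivOfLe hy₀C).toEquiv, Nat.card_zpowers, hy₀, hzC] at h
    exact Nat.eq_of_mul_eq_mul_left (show 0 < 2 * T by omega) (by omega)
  haveI := Subgroup.normal_of_index_eq_two hidx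
  have hnorm : ∀ l ∈ Subgroup.centralizer ({z} : Set PSL2), ∀ x ∈ Subgroup.zpowers y₀,
      l * x * l⁻¹ ∈ Subgroup.zpowers y₀ := fun l hl x hx =>
    Subgroup.mem_subgroupOf.mp (this.conj_mem ⟨x, hy₀C hx⟩ (Subgroup.mem_subgroupOf.mpr hx) ⟨l, hl⟩)
  have hmul : ∀ l ∈ Subgroup.centralizer ({z} : Set PSL2), l ∉ Subgroup.zpowers y₀ →
      l * i ∈ Subgroup.zpowers y₀ := by
    intro l hl hl0
    have h := (Subgroup.mul_mem_iff_of_index_two hidx (a := ⟨l, hl⟩) (b := ⟨i, hiC⟩)).mpr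
      ⟨fun h => absurd (Subgroup.mem_subgroupOf.mp h) hl0, fun h => absurd (Subgroup.mem_subgroupOf.mp h) hi0⟩
    exact Subgroup.mem_subgroupOf.mp h
  have hyy₀ : y ∈ Subgroup.zpowers y₀ := Subgroup.pow_mem _ (Subgroup.mem_zpowers y₀) 2
  have hy1 : y ≠ 1 := fun e => by rw [e, orderOf_one] at hordy; omega
  have hTodd_eq_one : ∀ v ∈ Subgroup.zpowers y, v * v = 1 → v = 1 := by
    intro v hv h
    rcases (Nat.dvd_prime Nat.prime_two).mp (orderOf_dvd_of_pow_eq_one (show v ^ 2 = 1 by rw [sq]; exact h)) with e | e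
    · exact orderOf_eq_one_iff.mp e
    · have := orderOf_dvd_of_mem_zpowers hv
      rw [e, hordy] at this
      omega
  have hi_iy : i * y * i⁻¹ = y⁻¹ := by
    have hy' : i * y * i⁻¹ ∈ Subgroup.zpowers y := by
      rcases hsplit _ (hnorm i hiC y hyy₀) with h | h
      · exact h
      · exfalso
        have h1 : orderOf (i * y * i⁻¹) ∣ T := by
          rw [← MulAut.conj_apply i y, MulEquiv.orderOf_eq, hordy]
        have h2 : orderOf (i * y * i⁻¹ * z) ∣ T := hordy ▸ orderOf_dvd_of_mem_zpowers h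
        have hzT : z ^ T = z := by
          rw [show T = 2 * (T / 2) + 1 by omega, pow_succ, pow_mul, sq, hzsq, one_pow, one_mul]
        have hcomm : Commute (i * y * i⁻¹) z :=
          Subgroup.mem_centralizer_singleton_iff.mp (hy₀C (hnorm i hiC y hyy₀))
        have := orderOf_dvd_iff_pow_eq_one.mp h2
        rw [hcomm.mul_pow, orderOf_dvd_iff_pow_eq_one.mp h1, one_mul, hzT] at this
        exact hz1 this
    have hcomm : ∀ s ∈ Subgroup.zpowers y₀, ∀ s' ∈ Subgroup.zpowers y₀, s * s' = s' * s := fun s hs s' hs' => by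
      obtain ⟨k, rfl⟩ := Subgroup.mem_zpowers_iff.mp hs
      obtain ⟨k', rfl⟩ := Subgroup.mem_zpowers_iff.mp hs'
      exact (Commute.zpow_zpow_self y₀ k k').eq
    by_contra hne
    have hv : i * y * i⁻¹ * y ∈ Subgroup.zpowers y := mul_mem hy' (Subgroup.mem_zpowers y)
    have hv1 : i * y * i⁻¹ * y ≠ 1 := fun h => hne (eq_inv_of_mul_eq_one_left h)
    refine hi0 (hcy _ hv hv1 i ?_)
    have hii : i * i ∈ Subgroup.zpowers y₀ := hmul i hiC hi0
    have h2 : i * i * y = y * (i * i) := hcomm _ hii _ hyy₀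
    have h3 : i * y * i⁻¹ * y = y * (i * y * i⁻¹) := hcomm _ (hnorm i hiC y hyy₀) _ hyy₀
    calc i * (i * y * i⁻¹ * y) = (i * i * y) * (i * i)⁻¹ * i * y := by group
      _ = y * i * y := by rw [h2]; group
      _ = y * (i * y * i⁻¹) * i := by group
      _ = i * y * i⁻¹ * y * i := by rw [h3]
  have hisq : i * i = 1 := by
    refine hno4 i ?_
    have hii : i * i ∈ Subgroup.zpowers y₀ := hmul i hiC hi0
    have h4 : (i * i) ^ 2 ∈ Subgroup.zpowers y := by
      obtain ⟨k, hk⟩ := Subgroup.mem_zpowers_iff.mp hii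
      refine ⟨k, ?_⟩
      show y ^ k = (i * i) ^ 2
      rw [← hk, hy, ← zpow_natCast, ← zpow_mul, ← zpow_natCast, ← zpow_mul, mul_comm]
    have hfix : i * ((i * i) ^ 2) * i⁻¹ = (i * i) ^ 2 :=
      mul_inv_eq_iff_eq_mul.mpr (((Commute.refl i).mul_right (Commute.refl i)).pow_right 2).eq
    obtain ⟨k, hk⟩ := Subgroup.mem_zpowers_iff.mp h4
    rw [← hk, ← MulAut.conj_apply, map_zpow, MulAut.conj_apply, hi_iy, inv_zpow, inv_eq_iff_mul_eq_one, hk] at hfix
    rw [show i ^ 4 = (i * i) ^ 2 by simp [pow_succ, mul_assoc]]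
    exact hTodd_eq_one _ h4 hfix
  have hiz : i * z = z * i := Subgroup.mem_centralizer_singleton_iff.mp hiC
  -- the four-group
  have hi1 : i ≠ 1 := fun e => hi0 (e ▸ Subgroup.one_mem _)
  have hiz' : i ≠ z := fun e => hi0 (e ▸ Subgroup.pow_mem _ (Subgroup.mem_zpowers y₀) T)
  set V := fourGroup z i (by rw [sq, hzsq]) (by rw [sq, hisq]) hiz with hVdef
  haveI hVK : IsKleinFour V := isKleinFour_fourGroup (by rw [sq, hzsq]) (by rw [sq, hisq]) hiz hz1 hi1 hiz'
  obtain ⟨⟨r, hrN⟩, hr⟩ := exists_prime_orderOf_dvd_card'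
    (G := Subgroup.normalizer (V : Set PSL2)) 3 (card_normalizer_klein hodd V).2
  rw [Subgroup.orderOf_mk] at hr
  have hr3 : r ^ 3 = 1 := hr ▸ pow_orderOf_eq_one r
  have hrne : ∀ x : PSL2, x * x = 1 → x ≠ 1 → r * x * r⁻¹ ≠ x := by
    intro x hx hx1 h
    have hxC : Nat.card (Subgroup.centralizer ({x} : Set PSL2)) = 4 * T := by
      rw [h4T]
      exact (card_centralizer_involution hodd (by omega) (by rw [sq, hx]) hx1).2 (by omega)
    have := Subgroup.orderOf_dvd_natCard (Subgroup.centralizer ({x} : Set PSL2))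
      (Subgroup.mem_centralizer_singleton_iff.mpr (mul_inv_eq_iff_eq_mul.mp h))
    rw [hr, hxC, h4T] at this
    omega
  have hzV : z ∈ V := Or.inr (Or.inl rfl)
  set z' := r * z * r⁻¹ with hz'
  have hz'V : z' ∈ V := (Subgroup.mem_normalizer_iff.mp hrN z).mp hzV
  set z'' := r * z' * r⁻¹ with hz''
  have hz''V : z'' ∈ V := (Subgroup.mem_normalizer_iff.mp hrN z').mp hz'V
  have hcommV : ∀ s ∈ V, ∀ s' ∈ V, s * s' = s' * s := fun s hs s' hs' => by
    have h := fun (v : PSL2) (hv : v ∈ V) =>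
      inv_eq_of_mul_eq_one_right (congrArg Subtype.val (IsKleinFour.mul_self (⟨v, hv⟩ : V)) : v * v = 1)
    calc s * s' = (s * s')⁻¹ := (h _ (mul_mem hs hs')).symm
      _ = s' * s := by rw [mul_inv_rev, h s hs, h s' hs']
  have hz'1 : z' ≠ 1 := fun e => hz1 (conj_eq_one_iff.mp e)
  have hz'sq : z' * z' = 1 := congrArg Subtype.val (IsKleinFour.mul_self (⟨z', hz'V⟩ : V))
  have hcyc : z'' = z * z' := by
    have h0 : z'' ≠ 1 := fun e => hz'1 (conj_eq_one_iff.mp e)
    have h1 : z'' ≠ z' := hrne z' hz'sq hz'1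
    have h2 : z'' ≠ z := fun e => hrne z hzsq hz1 (by
      calc r * z * r⁻¹ = r * z'' * r⁻¹ := by rw [e]
        _ = r ^ 3 * z * (r ^ 3)⁻¹ := by
          rw [hz'', hz', show r ^ 3 = r * r * r by simp [pow_succ]]; group
        _ = z := by rw [hr3]; group)
    haveI : Finite V := IsKleinFour.instFinite
    have hle := IsKleinFour.eq_mul_of_ne_all (G := V) (x := ⟨z, hzV⟩) (y := ⟨z', hz'V⟩)
      (z := ⟨z'', hz''V⟩) (fun e => hz1 (congrArg Subtype.val e))
      (fun e => hz'1 (congrArg Subtype.val e)) (fun e => hrne z hzsq hz1 (congrArg Subtype.val e).symm)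
      (fun e => h0 (congrArg Subtype.val e)) (fun e => h2 (congrArg Subtype.val e))
      (fun e => h1 (congrArg Subtype.val e))
    exact congrArg Subtype.val hle
  refine ⟨{
    U := P, B := B, a := a, w := w, y := y, z := z, i := i, r := r
    card_L := hcard
    card_U := card_sylow_psl 3 P
    card_B := ?_, U_le := Subgroup.le_normalizer
    U_normal := fun b hb u hu => (Subgroup.mem_normalizer_iff.mp hb u).mp hu
    U_cube := ?_, U_comm := ?_, cent_U := ?_, norm_U := ?_
    orderOf_a := horda, a_mem := haB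
    cent_a := fun x hx hx1 l hl => mem_zpowers_of_card hx (hodd' x hx hx1).2.2 hl
    into_B := hinto, w_sq := hwsq, w_inv := hwa
    orderOf_y := hordy, z_sq := hzsq, z_ne := hz1
    y_z := Subgroup.mem_centralizer_singleton_iff.mp (hy₀C hyy₀)
    cent_y := fun x hx hx1 l hl => hsplit l (hcy x hx hx1 l hl)
    card_cent_z := hzC, i_sq := hisq, i_z := hiz, i_y := hi_iy
    cent_z := ?_, involutions_conj := ?_, no_four := hno4
    r_cube := hr3, r_z := hrne z hzsq hz1
    r_comm := hcommV _ hz'V _ hzV, r_cycle := hcyc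
    cent_four := ?_ }⟩
  · have := card_normalizer_sylow_psl 3 P
    rwa [← hqdef, hgcd] at this
  · intro u hu
    rw [hP, stdSylow_coe] at hu
    obtain ⟨_, ⟨c, rfl⟩, rfl⟩ := hu
    rw [← map_pow, ← map_pow, show c ^ 3 = 1 from ?_, map_one, map_one]
    rw [← Multiplicative.toAdd.injective.eq_iff, toAdd_pow, toAdd_one, nsmul_eq_mul, CharP.cast_eq_zero, zero_mul]
  · intro u hu v hv
    by_cases hu1 : u = 1
    · rw [hu1, one_mul, mul_one]
    · have : v ∈ Subgroup.centralizer ({u} : Set PSL2) := centralizer_eq_sylow 3 P hu hu1 ▸ hv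
      exact (Subgroup.mem_centralizer_singleton_iff.mp this).symm
  · intro u hu hu1 l hl
    exact centralizer_eq_sylow 3 P hu hu1 ▸ Subgroup.mem_centralizer_singleton_iff.mpr hl
  · intro l hl
    haveI : Finite ((P : Subgroup PSL2) : Set PSL2) := inferInstance
    rw [hB, Subgroup.mem_normalizer_iff]
    intro x
    refine ⟨hl x, fun hx => ?_⟩
    have hsurj : Function.Surjective (fun v : (P : Subgroup PSL2) =>
        (⟨l * v * l⁻¹, hl v v.2⟩ : (P : Subgroup PSL2))) :=
      Finite.surjective_of_injective fun v v' e => Subtype.ext (by simpa using congrArg Subtype.val e)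
    obtain ⟨v, hv⟩ := hsurj ⟨_, hx⟩
    have := congrArg Subtype.val hv
    simp only [mul_left_inj, mul_right_inj] at this
    exact this ▸ v.2
  · intro l hl
    have hlC : l ∈ Subgroup.centralizer ({z} : Set PSL2) := Subgroup.mem_centralizer_singleton_iff.mpr hl
    by_cases hl0 : l ∈ Subgroup.zpowers y₀
    · rcases hsplit l hl0 with h | h
      · exact ⟨l, h, Or.inl rfl⟩
      · exact ⟨l * z, h, Or.inr (Or.inl (by rw [mul_assoc, hzsq, mul_one]))⟩
    · rcases hsplit _ (hmul l hlC hl0) with h | h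
      · exact ⟨l * i, h, Or.inr (Or.inr (Or.inl (by rw [mul_assoc, hisq, mul_one])))⟩
      · exact ⟨l * i * z, h, Or.inr (Or.inr (Or.inr (by
          rw [mul_assoc (l * i) z z, hzsq, mul_one, mul_assoc, hisq, mul_one])))⟩
  · intro x hx hx1
    obtain ⟨c, hc⟩ := exists_conj_involution hodd (x := x) (y := z) (by rw [sq, hx]) hx1 (by rw [sq, hzsq]) hz1
    exact ⟨c, by rw [← hc]; group⟩
  · intro l hl hl'
    haveI : Finite V := IsKleinFour.instFinite
    have hlV : l ∈ V := centralizer_klein hodd V (Subgroup.mem_centralizer_iff.mpr fun v hv => by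
      rcases hv with hv | hv | hv | hv <;> rw [hv]
      · rw [one_mul, mul_one]
      · exact hl.symm
      all_goals
        have hiV : i = z' ∨ i = z * z' := by
          by_contra hne
          push Not at hne
          have := IsKleinFour.eq_mul_of_ne_all (G := V) (x := ⟨z, hzV⟩) (y := ⟨z', hz'V⟩)
            (z := ⟨i, Or.inr (Or.inr (Or.inl rfl))⟩) (fun e => hz1 (congrArg Subtype.val e))
            (fun e => hz'1 (congrArg Subtype.val e)) (fun e => hrne z hzsq hz1 (congrArg Subtype.val e).symm)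
            (fun e => hi1 (congrArg Subtype.val e)) (fun e => hiz' (congrArg Subtype.val e))
            (fun e => hne.1 (congrArg Subtype.val e))
          exact hne.2 (congrArg Subtype.val this)
        have hli : Commute l i := by
          rcases hiV with e | e <;> rw [e]
          · exact hl'
          · exact (Commute.mul_right hl hl')
      · exact hli.symm.eq
      · exact ((Commute.mul_right hl hli).symm).eq)
    by_cases h1 : l = 1
    · exact Or.inl h1
    by_cases h2 : l = z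
    · exact Or.inr (Or.inl h2)
    by_cases h3 : l = z'
    · exact Or.inr (Or.inr (Or.inl h3))
    refine Or.inr (Or.inr (Or.inr ?_))
    exact congrArg Subtype.val (IsKleinFour.eq_mul_of_ne_all (G := V) (x := ⟨z, hzV⟩) (y := ⟨z', hz'V⟩)
      (z := ⟨l, hlV⟩) (fun e => hz1 (congrArg Subtype.val e))
      (fun e => hz'1 (congrArg Subtype.val e)) (fun e => hrne z hzsq hz1 (congrArg Subtype.val e).symm)
      (fun e => h1 (congrArg Subtype.val e)) (fun e => h2 (congrArg Subtype.val e))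
      (fun e => h3 (congrArg Subtype.val e)))

end PSL

end Cfsg.Lib.ReeType
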