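import Cfsg.Agent.Lib.ReeType.TorusNormalizer
import Mathlib.GroupTheory.GroupAction.Quotient

/-!
# The number of involutions, and the pairs of involutions with a given product
-/

set_option autoImplicit false
set_option linter.unusedSectionVars false
set_option linter.unusedVariables false
set_option linter.style.haveILetI false

namespace Cfsg.Lib.ReeType

open Subgroup

/-- The size of a conjugacy class, described by a predicate. -/
theorem card_of_transitive {G : Type*} [Group G] (P : G → Prop) (x₀ : G) (h₀ : P x₀)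
    (hc : ∀ g x : G, P x → P (g * x * g⁻¹)) (ht : ∀ x, P x → ∃ g : G, g * x₀ * g⁻¹ = x) :
    Nat.card {x // P x} = (centralizer ({x₀} : Set G)).index := by
  rw [index_eq_card]
  symm
  refine Nat.card_congr (Equiv.ofBijective (fun c : G ⧸ centralizer ({x₀} : Set G) =>
    Quotient.liftOn' c (fun g => (⟨g * x₀ * g⁻¹, hc g x₀ h₀⟩ : {x // P x})) ?_) ⟨?_, ?_⟩)
  · intro a b hab
    rw [QuotientGroup.leftRel_apply, mem_centralizer_singleton_iff] at hab
    refine Subtype.ext ?_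
    calc a * x₀ * a⁻¹ = a * (x₀ * (a⁻¹ * b)) * b⁻¹ := by group
      _ = b * x₀ * b⁻¹ := by rw [← hab]; group
  · intro c c'
    induction c using Quotient.inductionOn' with | h a => ?_
    induction c' using Quotient.inductionOn' with | h b => ?_
    intro h
    refine Quotient.sound' ?_
    rw [QuotientGroup.leftRel_apply, mem_centralizer_singleton_iff]
    have h' : a * x₀ * a⁻¹ = b * x₀ * b⁻¹ := congrArg Subtype.val h
    calc a⁻¹ * b * x₀ = a⁻¹ * (b * x₀ * b⁻¹) * b := by group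
      _ = x₀ * (a⁻¹ * b) := by rw [← h']; group
  · rintro ⟨x, hx⟩
    obtain ⟨g, hg⟩ := ht x hx
    exact ⟨QuotientGroup.mk g, Subtype.ext hg⟩

/-- An involution. -/
def IsInvol {G : Type*} [Group G] (x : G) : Prop := x ≠ 1 ∧ x * x = 1

theorem IsInvol.conj {G : Type*} [Group G] {x : G} (h : IsInvol x) (g : G) :
    IsInvol (g * x * g⁻¹) :=
  ⟨fun e => h.1 (conj_eq_one_iff.mp e), by rw [← conj_mul', h.2]; group⟩

theorem IsInvol.inv_eq {G : Type*} [Group G] {x : G} (h : IsInvol x) : x⁻¹ = x :=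
  inv_eq_of_mul_eq_one_right h.2

/-- The number of involutions. -/
noncomputable def numInvol (G : Type*) [Group G] : ℕ := Nat.card {x : G // IsInvol x}

/-- The number of pairs of involutions with product `g`. -/
noncomputable def pc {G : Type*} [Group G] (g : G) : ℕ :=
  Nat.card {x : G // IsInvol x ∧ IsInvol (x * g)}

theorem inverts_of_pc {G : Type*} [Group G] {x g : G} (hx : IsInvol x) (hxg : IsInvol (x * g)) :
    x * g * x⁻¹ = g⁻¹ := by
  have h := hxg.2
  rw [hx.inv_eq]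
  refine eq_inv_of_mul_eq_one_left ?_
  rwa [mul_assoc]

theorem isInvol_mul_of_inverts {G : Type*} [Group G] {x g : G} (hx : IsInvol x)
    (h : x * g * x⁻¹ = g⁻¹) (hne : x * g ≠ 1) : IsInvol (x * g) := by
  refine ⟨hne, ?_⟩
  rw [hx.inv_eq] at h
  calc x * g * (x * g) = x * g * x * g := by group
    _ = 1 := by rw [h, inv_mul_cancel]

namespace Setup

variable {G L : Type*} [Group G] [Group L] [Finite G] {n T : ℕ} (S : Setup G L n T)
include S

theorem t_invol : IsInvol S.t := ⟨S.t_ne, S.t_sq⟩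

theorem card_invol_L : Nat.card {l : L // IsInvol l} * (4 * T) = Nat.card L := by
  rw [card_of_transitive IsInvol S.D.z ⟨S.D.z_ne, S.D.z_sq⟩ (fun g x h => h.conj g)
    (fun x hx => S.D.involutions_conj x hx.2 hx.1), ← S.D.card_cent_z, mul_comm,
    card_mul_index]

theorem two_mul_card_invol_L :
    2 * Nat.card {l : L // IsInvol l} = 3 ^ (2 * n + 1) * (3 ^ (2 * n + 1) - 1) := by
  have h := S.card_invol_L
  have hL := S.D.card_L
  have hT := S.hT
  have hq := S.q_facts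
  have : 2 * Nat.card {l : L // IsInvol l} * (4 * T) =
      3 ^ (2 * n + 1) * (3 ^ (2 * n + 1) - 1) * (4 * T) := by
    rw [mul_assoc, h, hL, hT, show 3 ^ (2 * n + 1) * 3 ^ (2 * n + 1) - 1 =
      (3 ^ (2 * n + 1) + 1) * (3 ^ (2 * n + 1) - 1) by rw [← sq]; simpa using Nat.sq_sub_sq (3 ^ (2 * n + 1)) 1]
    ring
  exact Nat.eq_of_mul_eq_mul_right (by omega) this

/-- The involutions of the centralizer of `t`. -/
theorem card_invol_cent :
    Nat.card {x : G // IsInvol x ∧ x * S.t = S.t * x} =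
      3 ^ (2 * n + 1) * (3 ^ (2 * n + 1) - 1) + 1 := by
  classical
  haveI := S.finite_L
  rw [← S.two_mul_card_invol_L, two_mul, ← Nat.card_sum, ← Nat.card_unique (α := Unit),
    ← Nat.card_sum]
  symm
  refine Nat.card_eq_of_bijective (Sum.elim (Sum.elim
    (fun l => ⟨S.φ l.1, ⟨fun e => l.2.1 (S.inj (e.trans (map_one _).symm)),
      by rw [← map_mul, l.2.2, map_one]⟩, (S.comm _).symm⟩)
    (fun l => ⟨S.t * S.φ l.1, ⟨fun e => S.t_mul_φ_ne l.1 1 (e.trans (map_one _).symm),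
      by rw [S.t_φ_pow_two, l.2.2, map_one]⟩, S.mem_cent _ ⟨_, Or.inr rfl⟩⟩))
    (fun _ => ⟨S.t, S.t_invol, rfl⟩)) ⟨?_, ?_⟩
  · rintro ((⟨l, hl⟩ | ⟨l, hl⟩) | u) ((⟨l', hl'⟩ | ⟨l', hl'⟩) | u') e <;>
      have e' := congrArg Subtype.val e <;> simp only [Sum.elim_inl, Sum.elim_inr] at e'
    · obtain rfl := S.inj e'; rfl
    · exact absurd e'.symm (S.t_mul_φ_ne _ _)
    · exact absurd e' (S.not_mem _)
    · exact absurd e' (S.t_mul_φ_ne _ _)
    · obtain rfl := S.inj (mul_left_cancel e'); rfl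
    · exact absurd (S.inj ((mul_left_cancel (e'.trans (mul_one _).symm)).trans (map_one _).symm)) hl.1
    · exact absurd e'.symm (S.not_mem _)
    · exact absurd (S.inj ((mul_left_cancel (e'.symm.trans (mul_one _).symm)).trans (map_one _).symm)) hl'.1
    · rfl
  · rintro ⟨x, hx, hxt⟩
    obtain ⟨l, hl2, h⟩ := S.involution_cent hxt hx.2
    by_cases hl1 : l = 1
    · rcases h with h | h
      · exact absurd (by rw [h, hl1, map_one]) hx.1
      · exact ⟨Sum.inr (), Subtype.ext (by simp [h, hl1])⟩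
    · rcases h with h | h
      · exact ⟨Sum.inl (Sum.inl ⟨l, hl1, hl2⟩), Subtype.ext h.symm⟩
      · exact ⟨Sum.inl (Sum.inr ⟨l, hl1, hl2⟩), Subtype.ext h.symm⟩

theorem pc_t : pc S.t = 3 ^ (2 * n + 1) * (3 ^ (2 * n + 1) - 1) := by
  classical
  have e : Nat.card ({x : G // IsInvol x ∧ IsInvol (x * S.t)} ⊕ Unit) =
      Nat.card {x : G // IsInvol x ∧ x * S.t = S.t * x} := by
    have key : ∀ x : G, IsInvol x → IsInvol (x * S.t) → x * S.t = S.t * x := fun x hx hxt => by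
      have := inverts_of_pc hx hxt
      rw [S.t_inv] at this
      exact mul_inv_eq_iff_eq_mul.mp this
    refine Nat.card_eq_of_bijective (Sum.elim (fun x => ⟨x.1, x.2.1, key _ x.2.1 x.2.2⟩)
      (fun _ => ⟨S.t, S.t_invol, rfl⟩)) ⟨?_, ?_⟩
    · rintro (⟨x, hx⟩ | u) (⟨y, hy⟩ | u') e <;> have e' := congrArg Subtype.val e <;>
        simp only [Sum.elim_inl, Sum.elim_inr] at e'
      · subst e'; rfl
      · exact absurd (show x * S.t = 1 by rw [e', S.t_sq]) hx.2.1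
      · exact absurd (show y * S.t = 1 by rw [← e', S.t_sq]) hy.2.1
      · rfl
    · rintro ⟨x, hx, hxt⟩
      by_cases hx1 : x = S.t
      · exact ⟨Sum.inr (), Subtype.ext hx1.symm⟩
      · refine ⟨Sum.inl ⟨x, hx, isInvol_mul_of_inverts hx ?_ ?_⟩, rfl⟩
        · rw [S.t_inv, hxt, mul_inv_cancel_right]
        · exact fun e => hx1 (by rw [eq_inv_of_mul_eq_one_left e, S.t_inv])
  rw [Nat.card_sum, Nat.card_unique (α := Unit), S.card_invol_cent] at e
  exact Nat.add_right_cancel e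

/-- Pairs of involutions with product `t φ u`, `u` of order three. -/
theorem pc_t_three (hI : NoInv G) {u : L} (hu : u ∈ S.D.U) (hu1 : u ≠ 1) : pc (S.t * S.φ u) = 0 := by
  rw [pc, Nat.card_eq_zero]
  refine Or.inl ⟨fun ⟨x, hx, hxg⟩ => ?_⟩
  have h := inverts_of_pc hx hxg
  have hg : S.t * S.φ u * (S.t * S.φ u) = S.φ (u * u) := S.t_φ_pow_two u
  have h2 : x * S.φ (u * u) * x⁻¹ = (S.φ (u * u))⁻¹ := by rw [← hg, conj_mul', h, ← mul_inv_rev]
  refine hu1 ?_
  have h3 := hI x _ hx.2 h2 (by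
    rw [← map_pow, ← sq, ← pow_mul, mul_comm, pow_mul, S.D.U_cube u hu, one_pow, map_one])
  have h4 : u * u = 1 := S.inj (h3.trans (map_one _).symm)
  calc u = u ^ 3 * (u * u)⁻¹ := by group
    _ = 1 := by rw [S.D.U_cube u hu, h4]; group

/-- An element of `B` outside `U` is conjugate into the torus `⟨a⟩` by an element of `U`. -/
theorem B_decomp {b : L} (hb : b ∈ S.D.B) : ∃ u ∈ S.D.U, ∃ s ∈ zpowers S.D.a, b = u * s := by
  haveI := S.finite_L
  have hint : ∀ s ∈ zpowers S.D.a, s ∈ S.D.U → s = 1 := fun s hs hsu => by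
    have h1 : orderOf s ∣ 2 * T - 1 := S.D.orderOf_a ▸ orderOf_dvd_of_mem_zpowers hs
    have h2 : orderOf s ∣ 3 := orderOf_dvd_of_pow_eq_one (S.D.U_cube s hsu)
    rw [← orderOf_eq_one_iff]
    rcases (Nat.dvd_prime Nat.prime_three).mp h2 with h | h
    · exact h
    · exfalso
      rw [h] at h1
      have := S.hT
      have := S.q_facts
      omega
  have hle : zpowers S.D.a ≤ S.D.B := zpowers_le.mpr S.D.a_mem
  let f : S.D.U × zpowers S.D.a → S.D.B := fun p => ⟨p.1 * p.2, mul_mem (S.D.U_le p.1.2) (hle p.2.2)⟩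
  have hf : Function.Injective f := by
    rintro ⟨⟨u, hu⟩, ⟨s, hs⟩⟩ ⟨⟨v, hv⟩, ⟨r, hr⟩⟩ e
    have e' : u * s = v * r := congrArg Subtype.val e
    have hm : v⁻¹ * u = r * s⁻¹ := by
      calc v⁻¹ * u = v⁻¹ * (u * s) * s⁻¹ := by group
        _ = r * s⁻¹ := by rw [e']; group
    have h1 := hint _ (mul_mem hr (inv_mem hs)) (hm ▸ mul_mem (inv_mem hv) hu)
    obtain rfl : r = s := mul_inv_eq_one.mp h1
    obtain rfl : u = v := mul_right_cancel e'
    rfl
  have hcard : Nat.card (S.D.U × zpowers S.D.a) = Nat.card S.D.B := by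
    rw [Nat.card_prod, S.D.card_U, Nat.card_zpowers, S.D.orderOf_a]
    have h := S.D.card_B
    have hT := S.hT
    have : 3 ^ (2 * n + 1) - 1 = 2 * (2 * T - 1) := by omega
    rw [this, ← mul_assoc, mul_comm _ 2, mul_assoc] at h
    omega
  obtain ⟨⟨⟨u, hu⟩, ⟨s, hs⟩⟩, e⟩ := ((Nat.bijective_iff_injective_and_card f).mpr ⟨hf, hcard⟩).2 ⟨b, hb⟩
  exact ⟨u, hu, s, hs, (congrArg Subtype.val e).symm⟩

theorem B_conj {b : L} (hb : b ∈ S.D.B) (hbU : b ∉ S.D.U) :
    ∃ v ∈ S.D.U, ∃ s ∈ zpowers S.D.a, s ≠ 1 ∧ b = v * s * v⁻¹ := by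
  haveI := S.finite_L
  obtain ⟨u, hu, s, hs, rfl⟩ := S.B_decomp hb
  have hs1 : s ≠ 1 := fun e => hbU (by rw [e, mul_one]; exact hu)
  have hsB : s ∈ S.D.B := zpowers_le.mpr S.D.a_mem hs
  let f : S.D.U → S.D.U := fun v =>
    ⟨v.1 * (s * (v.1)⁻¹ * s⁻¹), mul_mem v.2 (S.D.U_normal s hsB _ (inv_mem v.2))⟩
  have hf : Function.Injective f := by
    rintro ⟨v, hv⟩ ⟨w, hw⟩ e
    have e' : v * (s * v⁻¹ * s⁻¹) = w * (s * w⁻¹ * s⁻¹) := congrArg Subtype.val e
    have hc : w⁻¹ * v * s = s * (w⁻¹ * v) := by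
      calc w⁻¹ * v * s = w⁻¹ * (v * (s * v⁻¹ * s⁻¹)) * (s * v) := by group
        _ = s * (w⁻¹ * v) := by rw [e']; group
    have hm := S.D.cent_a s hs hs1 _ hc
    have h1 : w⁻¹ * v = 1 := by
      have h2 : orderOf (w⁻¹ * v) ∣ 3 := orderOf_dvd_of_pow_eq_one (S.D.U_cube _ (mul_mem (inv_mem hw) hv))
      have h1 : orderOf (w⁻¹ * v) ∣ 2 * T - 1 := S.D.orderOf_a ▸ orderOf_dvd_of_mem_zpowers hm
      rw [← orderOf_eq_one_iff]
      rcases (Nat.dvd_prime Nat.prime_three).mp h2 with h | h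
      · exact h
      · exfalso
        rw [h] at h1
        have := S.hT
        have := S.q_facts
        omega
    exact Subtype.ext (inv_mul_eq_one.mp h1).symm
  obtain ⟨⟨v, hv⟩, e⟩ := Finite.surjective_of_injective hf ⟨u, hu⟩
  have e' : v * (s * v⁻¹ * s⁻¹) = u := congrArg Subtype.val e
  exact ⟨v, hv, s, hs, hs1, by rw [← e']; group⟩

theorem torus_a_facts {s : L} (hs : s ∈ zpowers S.D.a) (hs1 : s ≠ 1) :
    s * s ≠ 1 ∧ S.D.w * s * S.D.w⁻¹ = s⁻¹ ∧ s ^ (2 * T - 1) = 1 := by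
  have hp : s ^ (2 * T - 1) = 1 := by
    have h : orderOf s ∣ 2 * T - 1 := S.D.orderOf_a ▸ orderOf_dvd_of_mem_zpowers hs
    exact orderOf_dvd_iff_pow_eq_one.mp h
  refine ⟨fun h => hs1 ?_, ?_, hp⟩
  · obtain ⟨c, hc⟩ : Odd (2 * T - 1) := by
      have := S.q_facts; rw [Nat.odd_iff]; omega
    rw [hc, pow_succ, pow_mul, sq, h, one_pow, one_mul] at hp
    exact hp
  · obtain ⟨k, rfl⟩ := mem_zpowers_iff.mp hs
    rw [← conj_zpow, S.D.w_inv, inv_zpow]

/-- Pairs of involutions with product `t φ s`, `s` in the split torus. -/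
theorem pc_t_torus {s : L} (hs : s ∈ zpowers S.D.a) (hs1 : s ≠ 1) :
    pc (S.t * S.φ s) = 2 * (2 * T - 1) := by
  classical
  haveI := S.finite_L
  obtain ⟨hss, hws, hsp⟩ := S.torus_a_facts hs hs1
  have hww : S.D.w⁻¹ = S.D.w := inv_eq_of_mul_eq_one_right S.D.w_sq
  have ha2 : S.D.a * S.D.a ≠ 1 := fun h => by
    have h' := orderOf_dvd_of_pow_eq_one (n := 2) (x := S.D.a) (by rw [sq, h])
    rw [S.D.orderOf_a] at h'
    have := Nat.le_of_dvd (by norm_num) h'
    have := S.q_facts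
    omega
  have hwa : S.D.w ∉ zpowers S.D.a := fun h => by
    obtain ⟨k, hk⟩ := mem_zpowers_iff.mp h
    have h1 : S.D.w * S.D.a * S.D.w⁻¹ = S.D.a := by
      rw [← hk]; group
    rw [S.D.w_inv] at h1
    exact ha2 (by nth_rewrite 1 [← h1]; exact inv_mul_cancel _)
  have hinvol : ∀ j ∈ zpowers S.D.a, (j * S.D.w) * (j * S.D.w) = 1 ∧ j * S.D.w ≠ 1 ∧
      j * S.D.w * s * (j * S.D.w)⁻¹ = s⁻¹ := by
    intro j hj
    obtain ⟨k, rfl⟩ := mem_zpowers_iff.mp hj
    refine ⟨?_, fun e => hwa (by rw [eq_inv_of_mul_eq_one_right e]; exact inv_mem hj), ?_⟩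
    · calc S.D.a ^ k * S.D.w * (S.D.a ^ k * S.D.w) =
          S.D.a ^ k * (S.D.w * S.D.a ^ k * S.D.w⁻¹) * (S.D.w * S.D.w) := by group
        _ = 1 := by rw [← conj_zpow, S.D.w_inv, inv_zpow, S.D.w_sq]; group
    · rw [show S.D.a ^ k * S.D.w * s * (S.D.a ^ k * S.D.w)⁻¹ =
        S.D.a ^ k * (S.D.w * s * S.D.w⁻¹) * (S.D.a ^ k)⁻¹ by group, hws]
      obtain ⟨i, rfl⟩ := mem_zpowers_iff.mp hs
      group
  rw [pc, ← S.D.orderOf_a, ← Nat.card_zpowers, two_mul, ← Nat.card_sum]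
  symm
  have hφne : ∀ l, l ≠ 1 → S.φ l ≠ 1 := fun l hl e => hl (S.inj (e.trans (map_one _).symm))
  have hg : S.t * S.φ s * (S.t * S.φ s) ≠ 1 := by rw [S.t_φ_pow_two]; exact hφne _ hss
  have hcom : ∀ l, S.φ l * S.t = S.t * S.φ l := fun l => (S.comm l).symm
  have hconjt : ∀ l m : L, S.φ l * (S.t * S.φ m) * (S.φ l)⁻¹ = S.t * S.φ (l * m * l⁻¹) := fun l m => by
    rw [map_mul, map_mul, map_inv, ← mul_assoc, hcom]; group
  have hinvg : (S.t * S.φ s)⁻¹ = S.t * S.φ s⁻¹ := by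
    rw [mul_inv_rev, S.t_inv, ← map_inv, hcom]
  refine Nat.card_eq_of_bijective (Sum.elim
    (fun j => ⟨S.φ (j.1 * S.D.w), ⟨hφne _ (hinvol _ j.2).2.1, by
      rw [← map_mul, (hinvol _ j.2).1, map_one]⟩,
      isInvol_mul_of_inverts ⟨hφne _ (hinvol _ j.2).2.1, by
        rw [← map_mul, (hinvol _ j.2).1, map_one]⟩
      (by rw [hconjt, (hinvol _ j.2).2.2, hinvg])
      (fun e => hg (by
        have h' := eq_inv_of_mul_eq_one_right e
        rw [h', ← mul_inv_rev, ← map_mul, (hinvol _ j.2).1, map_one, inv_one]))⟩)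
    (fun j => ⟨S.t * S.φ (j.1 * S.D.w), ⟨fun e => S.t_mul_φ_ne _ 1 (e.trans (map_one _).symm), by
      rw [S.t_φ_pow_two, (hinvol _ j.2).1, map_one]⟩,
      isInvol_mul_of_inverts ⟨fun e => S.t_mul_φ_ne _ 1 (e.trans (map_one _).symm), by
        rw [S.t_φ_pow_two, (hinvol _ j.2).1, map_one]⟩
      (by rw [show S.t * S.φ (j.1 * S.D.w) * (S.t * S.φ s) * (S.t * S.φ (j.1 * S.D.w))⁻¹ =
            S.t * (S.φ (j.1 * S.D.w) * (S.t * S.φ s) * (S.φ (j.1 * S.D.w))⁻¹) * S.t⁻¹ by group,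
          hconjt, (hinvol _ j.2).2.2, hinvg, S.t_inv, S.t_mul_t_mul, hcom])
      (fun e => hg (by
        have h' := eq_inv_of_mul_eq_one_right e
        rw [h', ← mul_inv_rev, S.t_φ_pow_two, (hinvol _ j.2).1, map_one, inv_one]))⟩)) ⟨?_, ?_⟩
  · rintro (⟨j, hj⟩ | ⟨j, hj⟩) (⟨j', hj'⟩ | ⟨j', hj'⟩) e <;> have e' := congrArg Subtype.val e <;>
      simp only [Sum.elim_inl, Sum.elim_inr] at e'
    · obtain rfl := mul_right_cancel (S.inj e'); rfl
    · exact absurd e'.symm (S.t_mul_φ_ne _ _)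
    · exact absurd e' (S.t_mul_φ_ne _ _)
    · obtain rfl := mul_right_cancel (S.inj (mul_left_cancel e')); rfl
  · rintro ⟨x, hx, hxg⟩
    have h := inverts_of_pc hx hxg
    have hodd : (S.t * S.φ s) ^ (2 * T - 1) = S.t := by
      obtain ⟨c, hc⟩ : Odd (2 * T - 1) := by
        have := S.q_facts; rw [Nat.odd_iff]; omega
      rw [(show Commute S.t (S.φ s) from S.comm s).mul_pow, ← map_pow, hsp, map_one, mul_one, hc,
        pow_succ, pow_mul, sq, S.t_sq, one_pow, one_mul]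
    have hxt : x * S.t = S.t * x := by
      have h2 : x * (S.t * S.φ s) ^ (2 * T - 1) * x⁻¹ = ((S.t * S.φ s) ^ (2 * T - 1))⁻¹ := by
        rw [← conj_pow, h, inv_pow]
      rw [hodd, S.t_inv] at h2
      exact mul_inv_eq_iff_eq_mul.mp h2
    obtain ⟨l, hl⟩ := S.cent x hxt
    have hl' : l * s * l⁻¹ = s⁻¹ := by
      refine S.inj (mul_left_cancel (a := S.t) ?_)
      rw [← hinvg, ← h, ← hconjt]
      rcases hl with rfl | rfl
      · rfl
      · rw [show S.t * S.φ l * (S.t * S.φ s) * (S.t * S.φ l)⁻¹ =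
          S.t * (S.φ l * (S.t * S.φ s) * (S.φ l)⁻¹) * S.t⁻¹ by group, hconjt, S.t_inv, S.t_mul_t_mul, hcom]
    have hm : l * S.D.w * s = s * (l * S.D.w) := by
      refine mul_inv_eq_iff_eq_mul.mp ?_
      rw [show l * S.D.w * s * (l * S.D.w)⁻¹ = l * (S.D.w * s * S.D.w⁻¹) * l⁻¹ by group, hws,
        show l * s⁻¹ * l⁻¹ = (l * s * l⁻¹)⁻¹ by group, hl', inv_inv]
    have hj := S.D.cent_a s hs hs1 _ hm
    have hlw : l * S.D.w * S.D.w = l := by rw [mul_assoc, S.D.w_sq, mul_one]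
    rcases hl with e | e
    · exact ⟨Sum.inl ⟨_, hj⟩, Subtype.ext (show S.φ (l * S.D.w * S.D.w) = x by rw [hlw, e])⟩
    · exact ⟨Sum.inr ⟨_, hj⟩, Subtype.ext (show S.t * S.φ (l * S.D.w * S.D.w) = x by rw [hlw, e])⟩

variable [IsSimpleGroup G] (hna : ¬ IsMulCommutative G)
include hna

theorem N_mul : numInvol G * (3 ^ (2 * n + 1) * (3 ^ (2 * n + 1) * 3 ^ (2 * n + 1) - 1)) = Nat.card G := by
  haveI := S.finite_L
  rw [numInvol, card_of_transitive IsInvol S.t S.t_invol (fun g x h => h.conj g)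
    (fun x hx => S.exists_conj_t hna hx.2 hx.1), ← S.card_cent, mul_comm, card_mul_index]

theorem card_invol_cent_of {e : G} (he : IsInvol e) :
    Nat.card {x : G // IsInvol x ∧ x * e = e * x} =
      3 ^ (2 * n + 1) * (3 ^ (2 * n + 1) - 1) + 1 := by
  obtain ⟨g, rfl⟩ := S.exists_conj_t hna he.2 he.1
  exact (S.conj g).card_invol_cent

theorem N_mod_eight : (numInvol G : ℤ) % 8 = 7 := by
  classical
  let act : MulAction S.elem {x : G // IsInvol x} :=
    { smul := fun e x => ⟨e * x * (e : G)⁻¹, x.2.conj _⟩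
      one_smul := fun x => Subtype.ext (by show ((1 : S.elem) : G) * x * _ = x; simp)
      mul_smul := fun a b x => Subtype.ext (by
        show ((a * b : S.elem) : G) * x * _ = (a : G) * (b * x * (b : G)⁻¹) * _
        simp only [Subgroup.coe_mul]; group) }
  haveI := Fintype.ofFinite S.elem
  haveI : ∀ e : S.elem, Fintype (MulAction.fixedBy {x : G // IsInvol x} e) := fun e => Fintype.ofFinite _
  haveI := Fintype.ofFinite (MulAction.orbitRel.Quotient S.elem {x : G // IsInvol x})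
  have hb := MulAction.sum_card_fixedBy_eq_card_orbits_mul_card_group S.elem {x : G // IsInvol x}
  have hfix : ∀ e : S.elem, Fintype.card (MulAction.fixedBy {x : G // IsInvol x} e) =
      if e = 1 then numInvol G else 3 ^ (2 * n + 1) * (3 ^ (2 * n + 1) - 1) + 1 := by
    intro e
    rw [← Nat.card_eq_fintype_card]
    split_ifs with he
    · subst he
      rw [MulAction.fixedBy_one_eq_univ, Nat.card_congr (Equiv.Set.univ _)]
      rfl
    · have hei : IsInvol (e : G) := ⟨fun h => he (Subtype.ext h), S.elem_sq e.2⟩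
      rw [← S.card_invol_cent_of hna hei]
      refine Nat.card_congr ?_
      refine Equiv.trans (Equiv.subtypeSubtypeEquivSubtypeExists _ _) (Equiv.subtypeEquivRight fun x => ?_)
      constructor
      · rintro ⟨hx, h⟩
        exact ⟨hx, (mul_inv_eq_iff_eq_mul.mp (congrArg Subtype.val h)).symm⟩
      · rintro ⟨hx, h⟩
        exact ⟨hx, Subtype.ext (mul_inv_eq_iff_eq_mul.mpr h.symm)⟩
  rw [Finset.sum_congr rfl fun e _ => hfix e,
    ← Finset.add_sum_erase _ _ (Finset.mem_univ (1 : S.elem)), if_pos rfl,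
    Finset.sum_congr rfl fun e he => if_neg (Finset.ne_of_mem_erase he), Finset.sum_const,
    Finset.card_erase_of_mem (Finset.mem_univ _), Finset.card_univ, ← Nat.card_eq_fintype_card,
    ← Nat.card_eq_fintype_card, S.card_elem, smul_eq_mul] at hb
  obtain ⟨hq8, hq27, -⟩ := S.q_facts
  obtain ⟨c, hc⟩ : ∃ c, 3 ^ (2 * n + 1) = 8 * c + 3 := ⟨3 ^ (2 * n + 1) / 8, by omega⟩
  rw [hc, show (8 * c + 3) * (8 * c + 3 - 1) = 8 * (8 * c * c + 5 * c) + 6 by
    rw [show 8 * c + 3 - 1 = 8 * c + 2 by omega]; ring] at hb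
  omega

theorem not_three_dvd_N (hI : NoInv G) : ¬ 3 ∣ numInvol G := by
  haveI : Fact (Nat.Prime 3) := ⟨Nat.prime_three⟩
  haveI := S.finite_L
  obtain ⟨Q, hQ⟩ := S.exists_sylow_three hI
  intro h
  apply Q.not_dvd_index
  have h1 := (Q : Subgroup G).card_mul_index
  rw [hQ, S.card_threeSub, ← S.N_mul hna] at h1
  obtain ⟨d, hd⟩ := h
  rw [hQ]
  refine ⟨d * (3 ^ (2 * n + 1) * 3 ^ (2 * n + 1) - 1), ?_⟩
  have hq0 : 0 < 3 ^ (2 * n + 1) := by positivity
  refine Nat.eq_of_mul_eq_mul_left hq0 (h1.trans ?_)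
  rw [hd]; ring

variable (hI : NoInv G)
include hI

theorem N_mod_T : (T : ℤ) ∣ (numInvol G : ℤ) - 3 := by
  classical
  let X := {x : G // IsInvol x ∧ x ∉ S.K}
  have hnot : ∀ τ ∈ S.Tsub, ∀ x : G, x ∈ S.K ↔ τ * x * τ⁻¹ ∈ S.K := fun τ hτ x => by
    constructor
    · exact fun h => mul_mem (mul_mem (S.Tsub_le hτ) h) (inv_mem (S.Tsub_le hτ))
    · intro h
      have := mul_mem (mul_mem (inv_mem (S.Tsub_le hτ)) h) (S.Tsub_le hτ)
      rwa [show τ⁻¹ * (τ * x * τ⁻¹) * τ = x by group] at this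
  let act : MulAction S.Tsub X :=
    { smul := fun e x => ⟨e * x * (e : G)⁻¹, x.2.1.conj _, fun h => x.2.2 ((hnot _ e.2 _).mpr h)⟩
      one_smul := fun x => Subtype.ext (by show ((1 : S.Tsub) : G) * x * _ = x; simp)
      mul_smul := fun a b x => Subtype.ext (by
        show ((a * b : S.Tsub) : G) * x * _ = (a : G) * (b * x * (b : G)⁻¹) * _
        simp only [Subgroup.coe_mul]; group) }
  haveI := Fintype.ofFinite S.Tsub
  haveI : ∀ e : S.Tsub, Fintype (MulAction.fixedBy X e) := fun e => Fintype.ofFinite _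
  haveI := Fintype.ofFinite (MulAction.orbitRel.Quotient S.Tsub X)
  have hb := MulAction.sum_card_fixedBy_eq_card_orbits_mul_card_group S.Tsub X
  have hfix : ∀ e : S.Tsub, Fintype.card (MulAction.fixedBy X e) =
      if e = 1 then Nat.card X else 0 := by
    intro e
    rw [← Nat.card_eq_fintype_card]
    split_ifs with he
    · subst he
      rw [MulAction.fixedBy_one_eq_univ, Nat.card_congr (Equiv.Set.univ _)]
    · rw [Nat.card_eq_zero]
      refine Or.inl ⟨fun ⟨x, hx⟩ => x.2.2 ?_⟩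
      have h := mul_inv_eq_iff_eq_mul.mp (congrArg Subtype.val hx)
      exact S.cent_torus hna hI e.2 (fun h' => he (Subtype.ext h')) h.symm
  rw [Finset.sum_congr rfl fun e _ => hfix e, Finset.sum_ite_eq' Finset.univ (1 : S.Tsub),
    if_pos (Finset.mem_univ _), ← Nat.card_eq_fintype_card, ← Nat.card_eq_fintype_card,
    S.card_Tsub] at hb
  obtain ⟨h1, h2, h3, h4, h5, h6⟩ := S.tz_facts
  have hsplit : numInvol G = 3 + Nat.card X := by
    rw [numInvol, ← Nat.card_congr (Equiv.sumCompl fun x : {x : G // IsInvol x} => (x : G) ∈ S.K), Nat.card_sum]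
    congr 1
    · rw [Nat.card_congr (Equiv.subtypeSubtypeEquivSubtypeInter _ (fun x => x ∈ S.K))]
      have hX : {x : G | IsInvol x ∧ x ∈ S.K} =
          ↑({S.t, S.φ S.D.z, S.t * S.φ S.D.z} : Finset G) := by
        ext x
        simp only [Set.mem_ofPred_eq, Finset.coe_insert, Finset.coe_singleton, Set.mem_insert_iff,
          Set.mem_singleton_iff]
        constructor
        · rintro ⟨⟨hx1, hx2⟩, hxK⟩
          exact (S.inV_iff.mpr ⟨hxK, hx2⟩).resolve_left hx1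
        · intro hx
          have hV : S.InV x := Or.inr hx
          refine ⟨⟨?_, hV.sq⟩, hV.mem_K⟩
          rcases hx with rfl | rfl | rfl <;> assumption
      show Nat.card {x : G | IsInvol x ∧ x ∈ S.K} = 3
      rw [hX, Nat.card_coe_set_eq, Set.ncard_coe_finset]
      simp [h4.symm, h5.symm, h6.symm]
    · exact Nat.card_congr (Equiv.subtypeSubtypeEquivSubtypeInter _ (fun x => x ∉ S.K))
  exact ⟨(Nat.card (MulAction.orbitRel.Quotient S.Tsub X) : ℤ), by rw [hsplit, hb]; push_cast; ring⟩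

/-- Pairs of involutions with product in the torus outside the four-group. -/
theorem pc_K {k : G} (hk : k ∈ S.K) (hk2 : k * k ≠ 1) : pc k = 4 * T := by
  classical
  rw [pc, ← S.card_K]
  obtain ⟨ρ, hρN, hρ3, hρ1, hρ2, -⟩ := S.exists_rho hna hI
  obtain ⟨hii, hit, hiz, hiτ⟩ := S.ι_facts
  have hiv : ∀ v, S.InV v → S.φ S.D.i * v * (S.φ S.D.i)⁻¹ = v := by
    rintro v (rfl | rfl | rfl | rfl)
    · group
    · exact hit
    · exact hiz
    · rw [conj_mul', hit, hiz]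
  have hiK : ∀ x ∈ S.K, S.φ S.D.i * x * (S.φ S.D.i)⁻¹ = x⁻¹ := by
    intro x hx
    obtain ⟨v, hv, τ, hτ, rfl⟩ := S.exists_mul_of_mem_K hx
    rw [conj_mul', hiv v hv, hiτ τ hτ, mul_inv_rev, inv_eq_of_mul_eq_one_right hv.sq]
    exact S.K_comm hv.mem_K (inv_mem (S.Tsub_le hτ))
  have hi' : (S.φ S.D.i)⁻¹ = S.φ S.D.i := inv_eq_of_mul_eq_one_right hii
  have hxi : ∀ x ∈ S.K, IsInvol (x * S.φ S.D.i) ∧ IsInvol (x * S.φ S.D.i * k) := by
    intro x hx
    have hinv : ∀ y ∈ S.K, IsInvol (y * S.φ S.D.i) := fun y hy =>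
      ⟨fun e => S.ι_not_mem_K hna hI (by rw [eq_inv_of_mul_eq_one_right e]; exact inv_mem hy), by
        calc y * S.φ S.D.i * (y * S.φ S.D.i) = y * (S.φ S.D.i * y * S.φ S.D.i) := by group
          _ = 1 := by
            nth_rewrite 2 [← hi']
            rw [hiK y hy, mul_inv_cancel]⟩
    refine ⟨hinv x hx, ?_⟩
    have : x * S.φ S.D.i * k = x * k⁻¹ * S.φ S.D.i := by
      rw [← hiK k hk]; group
    rw [this]
    exact hinv _ (mul_mem hx (inv_mem hk))
  symm
  refine Nat.card_eq_of_bijective (fun x => ⟨x.1 * S.φ S.D.i, hxi x.1 x.2⟩) ⟨?_, ?_⟩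
  · intro a b e
    exact Subtype.ext (mul_right_cancel (congrArg Subtype.val e))
  · rintro ⟨x, hx, hxk⟩
    have h := inverts_of_pc hx hxk
    have hNm : x ∈ S.Nm := S.mem_Nm_of_fused hna hI hk hk2 (h ▸ inv_mem hk)
    set τ := k * k with hτdef
    have hτT : τ ∈ S.Tsub := S.sq_mem_Tsub hk
    have hxτ : x * τ * x⁻¹ = τ⁻¹ := by rw [hτdef, conj_mul', h, mul_inv_rev]
    have hK : x * S.φ S.D.i ∈ S.K := S.cent_torus hna hI hτT hk2 (by
      refine mul_inv_eq_iff_eq_mul.mp ?_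
      rw [show x * S.φ S.D.i * τ * (x * S.φ S.D.i)⁻¹ =
        x * (S.φ S.D.i * τ * (S.φ S.D.i)⁻¹) * x⁻¹ by group, hiτ τ hτT,
        show x * τ⁻¹ * x⁻¹ = (x * τ * x⁻¹)⁻¹ by group, hxτ, inv_inv])
    exact ⟨⟨_, hK⟩, Subtype.ext (by simp [mul_assoc, hii])⟩

end Setup

end Cfsg.Lib.ReeType
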