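import Mathlib

/-!
# Arithmetic for the order of a group of Ree type without inverted elements of order three

`q = 3 ^ (2 * n + 1)`, `4 * T = q + 1`, `N` is the number of involutions. The triples
`(xA, yA)`, `(xB, yB)`, `(xC, yC)` are signed degrees and signed values at an involution.
-/

set_option autoImplicit false

namespace Cfsg.Lib.ReeType.Arith

theorem pow_mod_five (n : ℕ) : (3 : ℤ) ^ (2 * n + 1) % 5 = 3 ∨ (3 : ℤ) ^ (2 * n + 1) % 5 = 2 := by
  induction n with
  | zero => norm_num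
  | succ n ih =>
    rw [show 2 * (n + 1) + 1 = (2 * n + 1) + 2 by ring, pow_add]
    omega

theorem pow_mod_seven (n : ℕ) : (3 : ℤ) ^ (2 * n + 1) % 7 = 3 ∨ (3 : ℤ) ^ (2 * n + 1) % 7 = 6 ∨
    (3 : ℤ) ^ (2 * n + 1) % 7 = 5 := by
  induction n with
  | zero => norm_num
  | succ n ih =>
    rw [show 2 * (n + 1) + 1 = (2 * n + 1) + 2 by ring, pow_add]
    omega

theorem pow_mod_eight (n : ℕ) : (3 : ℤ) ^ (2 * n + 1) % 8 = 3 := by
  induction n with
  | zero => norm_num
  | succ n ih =>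
    rw [show 2 * (n + 1) + 1 = (2 * n + 1) + 2 by ring, pow_add]
    omega

theorem twentyseven_le {n : ℕ} (hn : 1 ≤ n) : 27 ≤ (3 : ℤ) ^ (2 * n + 1) := by
  calc (27 : ℤ) = 3 ^ 3 := by norm_num
    _ ≤ 3 ^ (2 * n + 1) := pow_le_pow_right₀ (by norm_num) (by omega)

/-- The standing facts about `q` and `T`. -/
structure Param (n : ℕ) (q T : ℤ) : Prop where
  one_le : 1 ≤ n
  hq : q = 3 ^ (2 * n + 1)
  hT : 4 * T = q + 1

variable {n : ℕ} {q T : ℤ}

theorem Param.seven_le (P : Param n q T) : 7 ≤ T := by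
  have := twentyseven_le P.one_le
  have := P.hq
  have := P.hT
  omega

theorem Param.odd_T (P : Param n q T) : T % 2 = 1 := by
  have := pow_mod_eight n
  have := P.hq
  have := P.hT
  omega

theorem Param.three_dvd (P : Param n q T) : (3 : ℤ) ∣ q := by
  rw [P.hq]
  exact dvd_pow_self 3 (by omega)

/-- A divisor of `(q - 1) / 2` is `±1` or large. -/
theorem Param.divisor_large (P : Param n q T) {d e : ℤ} (h : d * e = 2 * T - 1) :
    d = 1 ∨ d = -1 ∨ 11 ≤ |d| := by
  by_contra hc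
  push Not at hc
  obtain ⟨h1, h2, h3⟩ := hc
  have h5 := pow_mod_five n
  have h7 := pow_mod_seven n
  have h8 := pow_mod_eight n
  have h27 := twentyseven_le P.one_le
  have h3d : (3 : ℤ) ∣ 3 ^ (2 * n + 1) := dvd_pow_self 3 (by omega)
  have hq := P.hq
  have hT := P.hT
  obtain ⟨h4, h6⟩ := abs_lt.mp h3
  interval_cases d <;> omega

/-- The last step: the order formula is incompatible with the congruences. -/
theorem order_formula_false (P : Param n q T) {N κ : ℤ}
    (heq : N * (κ + 1) ^ 2 = q * (q - 1) ^ 2 * κ * (1 + (q + 1) * κ))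
    (h3 : ¬ (3 : ℤ) ∣ N) (hTN : T ∣ N - 3) (h8 : N % 8 = 7) : False := by
  have hq27 := twentyseven_le P.one_le
  have hq8 := pow_mod_eight n
  have hq := P.hq
  have hT := P.hT
  have hT7 := P.seven_le
  have hp : Prime (3 : ℤ) := Int.prime_three
  -- `q` divides `κ + 1`
  have hdiv : ∀ i ≤ 2 * n + 1, (3 : ℤ) ^ i ∣ κ + 1 := by
    intro i
    induction i with
    | zero => simp
    | succ i ih =>
      intro hi
      obtain ⟨a, ha⟩ := ih (by omega)
      obtain ⟨r, hr⟩ : (3 : ℤ) ^ (i + 1) ∣ q := by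
        rw [hq]; exact pow_dvd_pow 3 hi
      have h1 : (3 : ℤ) ^ i * (3 ^ i * (N * a ^ 2)) =
          3 ^ i * (3 ^ i * (3 * (r * (q - 1) ^ 2 * κ * (a + 3 * r * κ)))) := by
        have : 1 + (q + 1) * κ = 3 ^ i * (a + 3 * r * κ) := by
          rw [hr, pow_succ]; linear_combination ha
        rw [this] at heq
        rw [hr, pow_succ] at heq ⊢
        linear_combination heq - N * (κ + 1 + 3 ^ i * a) * ha
      have h2 : (3 : ℤ) ∣ N * a ^ 2 := ⟨_, by
        have h0 : (3 : ℤ) ^ i ≠ 0 := pow_ne_zero _ (by norm_num)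
        exact mul_left_cancel₀ h0 (mul_left_cancel₀ h0 h1)⟩
      obtain ⟨b, hb⟩ := hp.dvd_of_dvd_pow ((hp.dvd_mul.mp h2).resolve_left h3)
      exact ⟨b, by rw [ha, hb, pow_succ]; ring⟩
  obtain ⟨d, hd⟩ : q ∣ κ + 1 := hq ▸ hdiv _ le_rfl
  have hκ : κ = q * d - 1 := by linarith
  have hd0 : d ≠ 0 := by
    rintro rfl
    rw [mul_zero, zero_sub] at hκ
    subst hκ
    exact absurd (show (q * (q - 1)) ^ 2 = 0 by linear_combination -heq)
      (pow_ne_zero 2 (mul_ne_zero (by omega) (by omega)))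
  have hN : N * d ^ 2 = (q - 1) ^ 2 * ((q * d - 1) * (q * d + d - 1)) := by
    refine mul_left_cancel₀ (pow_ne_zero 2 (by omega : q ≠ 0)) ?_
    subst hκ
    linear_combination heq
  have hcop : IsCoprime (d ^ 2) ((q * d - 1) * (q * d + d - 1)) := by
    refine IsCoprime.pow_left (IsCoprime.mul_right ⟨q, -1, by ring⟩ ⟨q + 1, -1, by ring⟩)
  obtain ⟨e, he⟩ : d ∣ q - 1 :=
    (Int.pow_dvd_pow_iff two_ne_zero).mp (hcop.dvd_of_dvd_mul_right ⟨N, by linear_combination -hN⟩)
  have hNe : N = e ^ 2 * ((q * d - 1) * (q * d + d - 1)) := by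
    refine mul_right_cancel₀ (pow_ne_zero 2 hd0) ?_
    rw [hN, he]; ring
  have heodd : e % 2 = 1 := by
    rcases Int.emod_two_eq_zero_or_one e with h | h
    · exfalso
      obtain ⟨c, rfl⟩ := Int.dvd_of_emod_eq_zero h
      have : N % 2 = 0 := by
        rw [hNe, show (2 * c) ^ 2 * ((q * d - 1) * (q * d + d - 1)) =
          2 * (2 * c ^ 2 * ((q * d - 1) * (q * d + d - 1))) by ring]
        exact Int.mul_emod_right _ _
      omega
    · exact h
  obtain ⟨d', rfl⟩ : (2 : ℤ) ∣ d := by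
    obtain ⟨c, hc⟩ : (2 : ℤ) ∣ d * e := ⟨2 * T - 1, by omega⟩
    rcases Int.prime_two.dvd_mul.mp ⟨c, hc⟩ with h | h
    · exact h
    · omega
  have hde : d' * e = 2 * T - 1 := by linarith
  have hd'4 : d' % 4 = 3 := by
    have hz : ((N : ℤ) : ZMod 8) = 7 := by
      rw [← ZMod.intCast_mod N 8]; norm_num [h8]
    have hqz : ((q : ℤ) : ZMod 8) = 3 := by
      rw [← ZMod.intCast_mod q 8, hq]; norm_num [hq8]
    have hes : ((e : ℤ) : ZMod 8) ^ 2 = 1 := by
      obtain ⟨c, rfl⟩ : ∃ c, e = 2 * c + 1 := ⟨e / 2, by omega⟩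
      push_cast
      generalize ((c : ℤ) : ZMod 8) = x
      revert x; decide
    have h := congrArg (Int.cast : ℤ → ZMod 8) hNe
    push_cast at h
    rw [hz, hqz, hes, one_mul] at h
    have : ((d' % 4 : ℤ)) = 3 := by
      have h4 : ((d' : ℤ) : ZMod 8) = 3 ∨ ((d' : ℤ) : ZMod 8) = 7 := by
        generalize ((d' : ℤ) : ZMod 8) = x at h
        revert x; decide
      rcases h4 with h4 | h4
      · have := (ZMod.intCast_eq_intCast_iff' d' 3 8).mp (by simpa using h4)
        omega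
      · have := (ZMod.intCast_eq_intCast_iff' d' 7 8).mp (by simpa using h4)
        omega
    exact this
  obtain ⟨j, hj⟩ : T ∣ (3 * d' + 1) * (d' - 1) := by
    obtain ⟨c, hc⟩ := hTN
    refine ⟨(8 * d' * (8 * T * d' - 2 * d' - 2)) + (4 * T - 4) *
      ((8 * T * d' - 2 * d' - 1) * (8 * T * d' - 1)) - c * d' ^ 2, ?_⟩
    have hde2 : d' ^ 2 * e ^ 2 = (2 * T - 1) ^ 2 := by rw [← hde]; ring
    have hq' : q = 4 * T - 1 := by omega
    rw [hq'] at hNe
    linear_combination (-d' ^ 2) * hc + d' ^ 2 * hNe +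
      ((8 * T * d' - 2 * d' - 1) * (8 * T * d' - 1)) * hde2
  obtain ⟨i, hi⟩ : ∃ i, i = 6 * d' - 4 - j * e := ⟨_, rfl⟩
  have hj2 : j + 2 = d' * i := by
    subst hi; linear_combination -2 * hj + j * hde
  have hi2 : i * (2 * T) = 6 * d' - 4 + 2 * e := by
    linear_combination hi - i * hde - e * hj2
  have habs : |d'| * |e| = 2 * T - 1 := by
    rw [← abs_mul, hde, abs_of_pos (by omega : (0 : ℤ) < 2 * T - 1)]
  have hi0 : i ≠ 0 := by
    rintro rfl
    have he' : e = 2 - 3 * d' := by omega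
    rw [he'] at hde
    nlinarith [sq_nonneg (3 * d' - 1)]
  have hbound : 2 * T ≤ 6 * |d'| + 4 + 2 * |e| := by
    have h1 : 1 ≤ |i| := Int.one_le_abs hi0
    have h2 : |i| * |2 * T| = |6 * d' - 4 + 2 * e| := by rw [← abs_mul, hi2]
    rw [abs_of_pos (by omega : (0 : ℤ) < 2 * T)] at h2
    have h4 : |6 * d' - 4 + 2 * e| ≤ 6 * |d'| + 4 + 2 * |e| := by
      rw [abs_le]
      have := neg_abs_le d'; have := le_abs_self d'
      have := neg_abs_le e; have := le_abs_self e
      omega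
    nlinarith
  rcases P.divisor_large hde with h | h | hD
  · omega
  · subst h
    have h' : j * T = 4 := by linarith
    rcases le_or_gt j 0 with hj0 | hj0
    · nlinarith
    · nlinarith [mul_le_mul_of_nonneg_right (show (1 : ℤ) ≤ j by omega) (show 0 ≤ T by omega)]
  · rcases P.divisor_large (show e * d' = 2 * T - 1 by linarith) with h | h | hE
    · subst h; omega
    · subst h
      have hd' : d' = 1 - 2 * T := by omega
      apply h3
      rw [hNe, hd', show q = 4 * T - 1 by omega]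
      refine dvd_trans P.three_dvd ⟨q * (q ^ 2 - q + 1), ?_⟩
      rw [show q = 4 * T - 1 by omega]
      ring
    · nlinarith [mul_nonneg (sub_nonneg.mpr hD) (sub_nonneg.mpr hE)]

/-- The hypotheses on three signed degrees and signed values. -/
structure Triple (q N xA xB xC yA yB yC : ℤ) : Prop where
  nzA : xA ≠ 0
  nzB : xB ≠ 0
  nzC : xC ≠ 0
  deg : 1 + xA + xB + xC = 0
  val : 1 + yA + yB + yC = 2 * (q + 1)
  pair : N * (xA * xB * xC + yA ^ 2 * xB * xC + yB ^ 2 * xA * xC + yC ^ 2 * xA * xB) =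
    q * (q - 1) * (q ^ 2 - 1) * (xA * xB * xC)

variable {N xA xB xC yA yB yC : ℤ}

/-- Proportional pair, third value `q`. -/
theorem proportional_false (P : Param n q T) (S : Triple q N xA xB xC yA yB yC)
    (h3 : ¬ (3 : ℤ) ∣ N) (hTN : T ∣ N - 3) (h8 : N % 8 = 7)
    (hC : yC = q) {κ : ℤ} (hA : xA = κ * yA) (hB : xB = κ * yB) : False := by
  have hS : yA + yB = q + 1 := by linarith [S.val]
  have hCx : xC = -1 - (q + 1) * κ := by rw [← hS]; linarith [S.deg, mul_add κ yA yB]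
  refine order_formula_false P (κ := κ) ?_ h3 hTN h8
  have h0 : κ * yA * yB * (q + 1) ≠ 0 := by
    have h1 := S.nzA; have h2 := S.nzB
    rw [hA] at h1; rw [hB] at h2
    have := twentyseven_le P.one_le
    have := P.hq
    exact mul_ne_zero (mul_ne_zero h1 (right_ne_zero_of_mul h2)) (by omega)
  refine mul_left_cancel₀ h0 ?_
  have hp := S.pair
  rw [hA, hB, hC, hCx] at hp
  have hyB : yB = q + 1 - yA := by linarith
  subst hyB
  linear_combination -hp

/-- All three values are congruent to units. -/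
theorem units_false (P : Param n q T) (S : Triple q N xA xB xC yA yB yC) (hTN : T ∣ N - 3)
    {a b c : ℤ} (ha : a * a = 1) (hb : b * b = 1) (hc : c * c = 1)
    (hxA : T ∣ xA - a) (hxB : T ∣ xB - b) (hxC : T ∣ xC - c)
    (hyA : T ∣ yA - a) (hyB : T ∣ yB - b) (hyC : T ∣ yC - c) : False := by
  obtain ⟨w, hw⟩ := hTN
  obtain ⟨uA, huA⟩ : T ∣ yA - xA := by simpa using dvd_sub hyA hxA
  obtain ⟨uB, huB⟩ : T ∣ yB - xB := by simpa using dvd_sub hyB hxB
  obtain ⟨uC, huC⟩ : T ∣ yC - xC := by simpa using dvd_sub hyC hxC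
  have hq : q = 4 * T - 1 := by linarith [P.hT]
  have h1 : T * ((16 * N - 4 * q * (q - 1) ^ 2) * (xA * xB * xC) +
      N * T * (uA ^ 2 * xB * xC + uB ^ 2 * xA * xC + uC ^ 2 * xA * xB)) = 0 := by
    have hp := S.pair
    have hd := S.deg
    have hv := S.val
    have e1 : yA = xA + T * uA := by linarith
    have e2 : yB = xB + T * uB := by linarith
    have e3 : yC = xC + T * uC := by linarith
    subst e1 e2 e3
    have hs : T * uA + T * uB + T * uC = 8 * T := by rw [hq] at hv; linarith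
    rw [hq] at hp ⊢
    linear_combination hp - N * (xA * xB * xC) * hd - 2 * N * (xA * xB * xC) * hs
  have hT7 := P.seven_le
  have h2 : T ∣ (16 * N - 4 * q * (q - 1) ^ 2) * (xA * xB * xC) :=
    ⟨-(N * (uA ^ 2 * xB * xC + uB ^ 2 * xA * xC + uC ^ 2 * xA * xB)), by
      linear_combination (mul_eq_zero.mp h1).resolve_left (by omega)⟩
  have hcx : ∀ {x a : ℤ}, a * a = 1 → T ∣ x - a → IsCoprime T x := by
    rintro x a ha ⟨r, hr⟩
    exact ⟨-r * a, a, by linear_combination a * hr + ha⟩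
  obtain ⟨r, hr⟩ := ((hcx ha hxA).mul_right (hcx hb hxB) |>.mul_right (hcx hc hxC)).dvd_of_dvd_mul_right h2
  have h64 : T ∣ 64 := by
    refine ⟨r - 16 * w + 4 * (64 * T ^ 2 - 80 * T + 32), ?_⟩
    rw [hq] at hr
    linear_combination hr - 16 * hw
  have hco : IsCoprime T 2 := ⟨1, -(T / 2), by have := P.odd_T; omega⟩
  have hu : IsUnit T := isUnit_of_dvd_one
    ((hco.pow_right (n := 6)).dvd_of_dvd_mul_right (show T ∣ 1 * 2 ^ 6 by norm_num; exact h64))
  rcases Int.isUnit_iff.mp hu with h | h <;> omega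

/-- A value at the sixth-order element divisible by `T` vanishes. -/
theorem eq_zero_of_budget (P : Param n q T) {a b s : ℤ} (hsum : a + b + s = 2)
    (hb : a ^ 2 + b ^ 2 + s ^ 2 ≤ 8 * T) (hs : T ∣ s) : s = 0 := by
  obtain ⟨r, rfl⟩ := hs
  by_contra h
  have hT7 := P.seven_le
  have hr : 1 ≤ r * r := by
    have : r ≠ 0 := right_ne_zero_of_mul h
    nlinarith [mul_self_pos.mpr this]
  have h1 : (2 - T * r) ^ 2 ≤ 2 * (a ^ 2 + b ^ 2) := by
    rw [show 2 - T * r = a + b by linarith]; nlinarith [sq_nonneg (a - b)]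
  have hrr : r ≤ r * r := by
    rcases le_or_gt r 0 with h' | h' <;> nlinarith
  nlinarith [mul_nonneg (sub_nonneg.mpr hT7) (sub_nonneg.mpr hr)]

/-- Two values congruent to one with sum two are both one. -/
theorem eq_one_of_budget (P : Param n q T) {a b : ℤ} (hsum : a + b = 2)
    (hb : a ^ 2 + b ^ 2 ≤ 8 * T) (ha : T ∣ a - 1) : a = 1 := by
  obtain ⟨r, hr⟩ := ha
  by_contra h
  have hT7 := P.seven_le
  have : r ≠ 0 := fun e => h (by rw [e, mul_zero] at hr; omega)
  have hr1 : 1 ≤ r * r := by nlinarith [mul_self_pos.mpr this]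
  have ea : a = 1 + T * r := by linarith
  have eb : b = 1 - T * r := by linarith
  subst ea eb
  nlinarith [mul_nonneg (sub_nonneg.mpr hT7) (sub_nonneg.mpr hr1)]

/-- Two even values congruent to `-1` and `1` cost too much. -/
theorem false_of_budget (P : Param n q T) {a c : ℤ} (hb : a ^ 2 + c ^ 2 ≤ 8 * T)
    (ha : T ∣ a + 1) (hc : T ∣ c - 1) (ha2 : a % 2 = 0) (hc2 : c % 2 = 0) : False := by
  obtain ⟨r, hr⟩ := ha
  obtain ⟨u, hu⟩ := hc
  have hT7 := P.seven_le
  have hr0 : r ≠ 0 := fun e => by rw [e, mul_zero] at hr; omega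
  have hu0 : u ≠ 0 := fun e => by rw [e, mul_zero] at hu; omega
  have ea : a = T * r - 1 := by linarith
  have ec : c = T * u + 1 := by linarith
  subst ea ec
  have h1 : (T - 1) ^ 2 ≤ (T * r - 1) ^ 2 := by
    rw [sq_le_sq, abs_of_nonneg (by omega : (0 : ℤ) ≤ T - 1), le_abs]
    rcases lt_or_gt_of_ne hr0 with h | h
    · right; nlinarith [mul_le_mul_of_nonneg_left (show r ≤ -1 by omega) (show 0 ≤ T by omega)]
    · left; nlinarith [mul_le_mul_of_nonneg_left (show 1 ≤ r by omega) (show 0 ≤ T by omega)]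
  have h2 : (T - 1) ^ 2 ≤ (T * u + 1) ^ 2 := by
    rw [sq_le_sq, abs_of_nonneg (by omega : (0 : ℤ) ≤ T - 1), le_abs]
    rcases lt_or_gt_of_ne hu0 with h | h
    · right; nlinarith [mul_le_mul_of_nonneg_left (show u ≤ -1 by omega) (show 0 ≤ T by omega)]
    · left; nlinarith [mul_le_mul_of_nonneg_left (show 1 ≤ u by omega) (show 0 ≤ T by omega)]
  nlinarith

end Cfsg.Lib.ReeType.Arith
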