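import Cfsg.Agent.Lib.ReeType.PsiInv
import Cfsg.Agent.Lib.ReeType.Arith

/-!
# In a group of Ree type some involution inverts an element of order three
-/

set_option autoImplicit false
set_option linter.unusedSectionVars false
set_option linter.unusedVariables false
set_option linter.style.haveILetI false

namespace Cfsg.Lib.ReeType

open Subgroup Cfsg Cfsg.Lib.Char
open scoped ComplexConjugate

universe u

theorem perm_sum (F : Fin 3 → ℤ) {i j l : Fin 3} (hij : i ≠ j) (hil : i ≠ l) (hjl : j ≠ l) :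
    F i + F j + F l = F 0 + F 1 + F 2 ∧ F i * F j * F l = F 0 * F 1 * F 2 := by
  fin_cases i <;> fin_cases j <;> fin_cases l <;>
    first
      | exact absurd rfl hij
      | exact absurd rfl hil
      | exact absurd rfl hjl
      | (constructor <;> dsimp <;> ring)

theorem pair_perm (x y : Fin 3 → ℤ) {i j l : Fin 3} (hij : i ≠ j) (hil : i ≠ l) (hjl : j ≠ l) :
    x i * x j * x l + y i ^ 2 * x j * x l + y j ^ 2 * x i * x l + y l ^ 2 * x i * x j =
      x 0 * x 1 * x 2 + y 0 ^ 2 * x 1 * x 2 + y 1 ^ 2 * x 0 * x 2 + y 2 ^ 2 * x 0 * x 1 := by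
  fin_cases i <;> fin_cases j <;> fin_cases l <;>
    first
      | exact absurd rfl hij
      | exact absurd rfl hil
      | exact absurd rfl hjl
      | (dsimp; all_goals ring1)

theorem mult_options : ∀ a b c : Fin 5,
    ((a : ℕ) : ℤ) - 2 + (((b : ℕ) : ℤ) - 2) + (((c : ℕ) : ℤ) - 2) = -1 →
    (((a : ℕ) : ℤ) - 2) ^ 2 + (((b : ℕ) : ℤ) - 2) ^ 2 + (((c : ℕ) : ℤ) - 2) ^ 2 ≤ 6 →
    ((a : ℕ) ≠ 2 ∧ (b : ℕ) ≠ 2 ∧ (c : ℕ) ≠ 2 ∧ (a : ℕ) % 2 = 1 ∧ (b : ℕ) % 2 = 1 ∧ (c : ℕ) % 2 = 1) ∨
      ∃ i j l : Fin 3, i ≠ j ∧ i ≠ l ∧ j ≠ l ∧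
        ((![a, b, c] i = 2 ∧ ![a, b, c] j = 2 ∧ ![a, b, c] l = 1) ∨
          (![a, b, c] i = 0 ∧ ![a, b, c] j = 3 ∧ ![a, b, c] l = 2)) := by
  decide

theorem cross_options : ∀ a b c : Fin 3,
    ((a : ℕ) : ℤ) - 1 + (((b : ℕ) : ℤ) - 1) + (((c : ℕ) : ℤ) - 1) = 0 →
    (a = 1 ∧ b = 1 ∧ c = 1) ∨ ∃ i j l : Fin 3, i ≠ j ∧ i ≠ l ∧ j ≠ l ∧
      ![a, b, c] i = 2 ∧ ![a, b, c] j = 0 ∧ ![a, b, c] l = 1 := by
  decide

namespace Setup

variable {G L : Type u} [Group G] [Group L] [Fintype G] {n T : ℕ} (S : Setup G L n T)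
include S

theorem conj_theta_zero : (fun g => conj (S.theta 0 g)) = S.theta 0 := by
  classical
  funext g
  simp only [theta, indFun, map_mul, map_sum, map_inv₀, map_natCast]
  congr 1
  refine Finset.sum_congr rfl fun x _ => ?_
  by_cases hm : x⁻¹ * g * x ∈ S.Bt
  · rw [extendByZero_of_mem _ _ hm]
    simp only [fk, kap, pow_zero, mul_one, map_sub, map_one]
    congr 1
    show conj (((if _ then (1 : ℂˣ) else -1) : ℂˣ) : ℂ) = (((if _ then (1 : ℂˣ) else -1) : ℂˣ) : ℂ)
    split_ifs <;> simp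
  · rw [extendByZero_of_notMem _ _ hm, map_zero]

variable [IsSimpleGroup G] (hna : ¬ IsMulCommutative G) (hI : NoInv G)
include hna hI

/-- An odd value forces a second constituent with the same invariants. -/
theorem partner (X : Trio S) {m m' : Fin 3 → ℤ} (R : S.Rot) (hm : S.IsMult X false m)
    (hm' : S.IsMult X true m') {i : Fin 3} (hodd : ¬ (2 : ℤ) ∣ X.s i) :
    ∃ j, j ≠ i ∧ X.x j = X.x i ∧ X.y j = X.y i ∧ X.s j = X.s i ∧ m j = m i ∧ m' j = m' i := by
  classical
  set μ : IrrCharacter G := ⟨fun g => conj ((X.X i : G → ℂ) g), isIrrCharacter_conjFn (X.X i).2⟩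
    with hμ
  have hμ1 : (μ : G → ℂ) ≠ fun _ => 1 := fun e => X.ne_one i (funext fun g => by
    have h := congrFun e g
    change conj ((X.X i : G → ℂ) g) = 1 at h
    simpa using congrArg conj h)
  have hc : classInner (S.theta 0) (μ : G → ℂ) = X.ε i := by
    conv_lhs => rw [← S.conj_theta_zero]
    show classInner _ (fun g => conj ((X.X i : G → ℂ) g)) = _
    rw [classInner_conjFn, ← classInner_conj_symm, X.coeff, map_intCast]
  obtain ⟨j, hj⟩ : ∃ j, μ = X.X j := by
    by_contra h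
    push Not at h
    rw [X.coeff_zero μ hμ1 h] at hc
    have hc' : X.ε i = 0 := by exact_mod_cast hc.symm
    rcases X.sign i with e | e <;> omega
  have hε : X.ε j = X.ε i := by
    have h := X.coeff j
    rw [← hj, hc] at h
    exact_mod_cast h.symm
  have hval : ∀ g, (X.X j : G → ℂ) g = conj ((X.X i : G → ℂ) g) := fun g => by rw [← hj]
  have hji : j ≠ i := by
    rintro rfl
    apply hodd
    have hr : (X.X j : G → ℂ) (S.t * S.φ S.u₀⁻¹) = (X.X j : G → ℂ) (S.t * S.φ S.u₀) := by
      rw [← S.conj_tu, (X.X j).2.isCharacter.apply_inv, ← hval]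
    have h := X.hs j
    rw [sval, hr] at h
    obtain ⟨c, hc⟩ := exists_int_of_mul_eq ((X.X j).2.isCharacter.isIntegral (S.t * S.φ S.u₀))
      (a := 2) (b := X.ε j * X.s j) (by norm_num) (by
        push_cast
        rw [← h, ← mul_assoc, S.ε_sq hna hI, one_mul]; ring)
    rw [hc] at h
    have h' : X.ε j * (c + c) = X.s j := by exact_mod_cast h
    exact ⟨X.ε j * c, by rw [← h']; ring⟩
  have hconj : (fun g => conj ((X.X i : G → ℂ) g)) = (X.X j : G → ℂ) := funext fun g => (hval g).symm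
  refine ⟨j, hji, ?_, ?_, ?_, ((S.mult_facts hna hI R X false hm).2.2.2 i j hconj hε.symm).symm,
    ((S.mult_facts hna hI R X true hm').2.2.2 i j hconj hε.symm).symm⟩
  · have h : ((X.x j : ℤ) : ℂ) = X.x i := by
      rw [← X.hx, ← X.hx, hε, hval, ← (X.X i).2.isCharacter.apply_inv, inv_one]
    exact_mod_cast h
  · have h : ((X.y j : ℤ) : ℂ) = X.y i := by
      rw [← X.hy, ← X.hy, hε, hval, ← (X.X i).2.isCharacter.apply_inv, S.t_inv]
    exact_mod_cast h
  · have h : ((X.s j : ℤ) : ℂ) = X.s i := by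
      rw [← X.hs, ← X.hs, hε]
      simp only [sval, hval]
      rw [← (X.X i).2.isCharacter.apply_inv, ← (X.X i).2.isCharacter.apply_inv, S.conj_tu, S.conj_tu,
        inv_inv, add_comm]
    exact_mod_cast h

set_option maxHeartbeats 1000000 in
theorem contradiction_of_noInv : False := by
  classical
  haveI := S.finite_L
  obtain ⟨ρ, hρ, h0, h1, h2, h3⟩ := S.exists_rho hna hI
  let R : S.Rot := ⟨ρ, hρ, h0, h1, h2, h3⟩
  obtain ⟨X⟩ := S.exists_trio hna hI
  obtain ⟨m, hm⟩ := S.mult_const hna hI R X false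
  obtain ⟨m', hm'⟩ := S.mult_const hna hI R X true
  obtain ⟨hsm, hsq, hcg, -⟩ := S.mult_facts hna hI R X false hm
  obtain ⟨hsm', hsq', hcg', -⟩ := S.mult_facts hna hI R X true hm'
  simp only [Bool.false_eq_true, if_false, if_true] at hsm hsq hcg hsm' hsq' hcg'
  obtain ⟨q, hq⟩ : ∃ q : ℤ, q = 3 ^ (2 * n + 1) := ⟨_, rfl⟩
  have hT : 4 * (T : ℤ) = q + 1 := by rw [hq]; exact_mod_cast S.hT
  have P : Arith.Param n q (T : ℤ) := ⟨S.one_le, hq, hT⟩
  have hT7 := P.seven_le
  have hTo := P.odd_T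
  have hN3 : ¬ (3 : ℤ) ∣ (numInvol G : ℤ) := fun h => S.not_three_dvd_N hna hI (by exact_mod_cast h)
  have hNT := S.N_mod_T hna hI
  have hN8 := S.N_mod_eight hna
  have hco : IsCoprime (T : ℤ) 4 := by
    have : IsCoprime (T : ℤ) 2 := ⟨1, -((T : ℤ) / 2), by omega⟩
    simpa using this.pow_right (n := 2)
  have hy : ∀ i, (T : ℤ) ∣ X.y i - (m i - m' i) := fun i => hco.dvd_of_dvd_mul_left (by
    have h := dvd_sub (hcg i) (hcg' i)
    convert h using 1
    ring)
  have hx : ∀ i, (T : ℤ) ∣ X.x i - (m i + 3 * m' i) := fun i => hco.dvd_of_dvd_mul_left (by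
    have h := dvd_add (hcg i) ((hcg' i).mul_left 3)
    convert h using 1
    ring)
  have hrel : ∀ i, X.y i + (2 * (T : ℤ) - 1) * X.s i = q := fun i => by rw [hq]; exact X.relation i
  have hs : ∀ i, (T : ℤ) ∣ X.s i - (1 + (m i - m' i)) := fun i => by
    obtain ⟨w, hw⟩ := hy i
    exact ⟨2 * X.s i + w - 4, by linear_combination -hrel i + hw + hT⟩
  have triple : ∀ i j l : Fin 3, i ≠ j → i ≠ l → j ≠ l →
      Arith.Triple q (numInvol G : ℤ) (X.x i) (X.x j) (X.x l) (X.y i) (X.y j) (X.y l) := by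
    intro i j l hij hil hjl
    refine ⟨X.nz i, X.nz j, X.nz l, ?_, ?_, ?_⟩
    · linarith [(perm_sum X.x hij hil hjl).1, X.deg]
    · rw [hq]; linarith [(perm_sum X.y hij hil hjl).1, X.val]
    · rw [pair_perm X.x X.y hij hil hjl, (perm_sum X.x hij hil hjl).2, hq]
      exact X.pair
  have sums : ∀ i j l : Fin 3, i ≠ j → i ≠ l → j ≠ l → X.s i + X.s j + X.s l = 2 ∧
      X.s i ^ 2 + X.s j ^ 2 + X.s l ^ 2 ≤ 8 * (T : ℤ) ∧ X.y i + X.y j + X.y l = 2 * q + 1 := by
    intro i j l hij hil hjl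
    refine ⟨(perm_sum X.s hij hil hjl).1.trans X.sum_s, ?_, ?_⟩
    · exact ((perm_sum (fun a => X.s a ^ 2) hij hil hjl).1).le.trans X.budget
    · rw [hq]; linarith [(perm_sum X.y hij hil hjl).1, X.val]
  have hm_bound : ∀ i, -2 ≤ m i ∧ m i ≤ 2 := by
    intro i
    have h6 : m i ^ 2 ≤ 6 := by fin_cases i <;> dsimp <;> nlinarith [sq_nonneg (m 0), sq_nonneg (m 1), sq_nonneg (m 2)]
    constructor <;> nlinarith
  have hm'_bound : ∀ i, -1 ≤ m' i ∧ m' i ≤ 1 := by
    intro i
    have h3 : m' i ^ 2 ≤ 3 := by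
      fin_cases i <;> dsimp <;> nlinarith [sq_nonneg (m' 0), sq_nonneg (m' 1), sq_nonneg (m' 2)]
    constructor <;> nlinarith
  choose e' he' using fun i => show ∃ a : Fin 3, m' i = ((a : ℕ) : ℤ) - 1 from
    ⟨⟨(m' i + 1).toNat, by have := hm'_bound i; omega⟩, by have := hm'_bound i; simp; omega⟩
  choose e he using fun i => show ∃ a : Fin 5, m i = ((a : ℕ) : ℤ) - 2 from
    ⟨⟨(m i + 2).toNat, by have := hm_bound i; omega⟩, by have := hm_bound i; simp; omega⟩
  have hvec' : ∀ i, ![e' 0, e' 1, e' 2] i = e' i := fun i => by fin_cases i <;> rfl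
  have hvec : ∀ i, ![e 0, e 1, e 2] i = e i := fun i => by fin_cases i <;> rfl
  rw [he', he', he'] at hsm'
  rw [he, he, he] at hsm hsq
  rcases cross_options _ _ _ hsm' with ⟨z0, z1, z2⟩ | ⟨i, j, l, hij, hil, hjl, hi, hj, hl⟩
  · -- all second multiplicities vanish
    have hz : ∀ i, m' i = 0 := fun i => by
      rw [he' i]; fin_cases i <;> simp [z0, z1, z2]
    have hy0 : ∀ i, (T : ℤ) ∣ X.y i - m i := fun i => by simpa [hz i] using hy i
    have hx0 : ∀ i, (T : ℤ) ∣ X.x i - m i := fun i => by simpa [hz i] using hx i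
    have hs0 : ∀ i, (T : ℤ) ∣ X.s i - (1 + m i) := fun i => by simpa [hz i] using hs i
    rcases mult_options _ _ _ hsm hsq with ⟨a0, a1, a2, b0, b1, b2⟩ | ⟨i, j, l, hij, hil, hjl, h⟩
    · have hu : ∀ i, m i * m i = 1 := fun i => by
        have h5 := (e i).isLt
        have : (e i : ℕ) = 1 ∨ (e i : ℕ) = 3 := by fin_cases i <;> simp_all <;> omega
        rcases this with h | h <;> rw [he i, h] <;> norm_num
      exact Arith.units_false P (triple 0 1 2 (by decide) (by decide) (by decide)) hNT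
        (hu 0) (hu 1) (hu 2) (hx0 0) (hx0 1) (hx0 2) (hy0 0) (hy0 1) (hy0 2)
    obtain ⟨s1, s2, s3⟩ := sums i j l hij hil hjl
    rw [hvec, hvec, hvec] at h
    rcases h with ⟨hi, hj, hl⟩ | ⟨hi, hj, hl⟩
    · have mi : m i = 0 := by rw [he, hi]; rfl
      have mj : m j = 0 := by rw [he, hj]; rfl
      have ml : m l = -1 := by rw [he, hl]; rfl
      have hsl : X.s l = 0 := Arith.eq_zero_of_budget P s1 s2 (by simpa [ml] using hs0 l)
      have hsi : X.s i = 1 := Arith.eq_one_of_budget P (a := X.s i) (b := X.s j) (by omega)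
        (by rw [hsl] at s2; linarith) (by simpa [mi] using hs0 i)
      obtain ⟨k, hk, kx, ky, ks, -, -⟩ := S.partner hna hI X R hm hm' (i := i) (by rw [hsi]; norm_num)
      have hkj : k = j := by
        have hall : ∀ a b c d : Fin 3, a ≠ b → a ≠ c → b ≠ c → d ≠ a → d = b ∨ d = c := by decide
        rcases hall i j l k hij hil hjl hk with h | h
        · exact h
        · rw [h, hsl, hsi] at ks; omega
      subst hkj
      have hyl : X.y l = q := by have := hrel l; rw [hsl] at this; linarith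
      have hyi : X.y i = 2 * (T : ℤ) := by linarith
      obtain ⟨c, hc⟩ : (T : ℤ) ∣ X.x i := by simpa [mi] using hx0 i
      obtain ⟨d, hd⟩ := X.parity i
      rw [hyi] at hd
      obtain ⟨κ, rfl⟩ : (2 : ℤ) ∣ c := by
        refine (show IsCoprime (2 : ℤ) (T : ℤ) from ⟨-((T : ℤ) / 2), 1, by omega⟩).dvd_of_dvd_mul_left
          ⟨d + T, by rw [← hc]; linarith⟩
      exact Arith.proportional_false P (triple i k l hij hil hjl) hN3 hNT hN8 hyl (κ := κ)
        (by rw [hc, hyi]; ring) (by rw [kx, ky, hc, hyi]; ring)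
    · have mi : m i = -2 := by rw [he, hi]; rfl
      have mj : m j = 1 := by rw [he, hj]; rfl
      have ml : m l = 0 := by rw [he, hl]; rfl
      have heven : ∀ a, X.s a % 2 = 0 := by
        intro a
        by_contra hodd
        obtain ⟨k, hk, -, -, -, km, -⟩ := S.partner hna hI X R hm hm' (i := a) (by omega)
        have hall : ∀ a b c d : Fin 3, a ≠ b → a ≠ c → b ≠ c → d = a ∨ d = b ∨ d = c := by decide
        rcases hall i j l a hij hil hjl with e | e | e <;>
          rcases hall i j l k hij hil hjl with e' | e' | e' <;>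
          first | exact hk (e'.trans e.symm) | (rw [e, e'] at km; omega)
      exact Arith.false_of_budget P (a := X.s i) (c := X.s l) (by nlinarith [sq_nonneg (X.s j)])
        (by simpa [mi] using hs0 i) (by simpa [ml] using hs0 l) (heven i) (heven l)
  · -- a pair of opposite second multiplicities
    rw [hvec'] at hi hj hl
    have mi' : m' i = 1 := by rw [he', hi]; rfl
    have mj' : m' j = -1 := by rw [he', hj]; rfl
    have ml' : m' l = 0 := by rw [he', hl]; rfl
    have hcross := S.mult_cross hna hI R X hm' hij mi' mj'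
    have heven : ∀ a, X.s a % 2 = 0 := by
      intro a
      by_contra hodd
      obtain ⟨k, hk, -, -, -, -, km⟩ := S.partner hna hI X R hm hm' (i := a) (by omega)
      have hall : ∀ a b c d : Fin 3, a ≠ b → a ≠ c → b ≠ c → d = a ∨ d = b ∨ d = c := by decide
      rcases hall i j l a hij hil hjl with e | e | e <;>
        rcases hall i j l k hij hil hjl with e' | e' | e' <;>
        first | exact hk (e'.trans e.symm) | (rw [e, e'] at km; omega)
    have hyi := hy i; have hxi := hx i; have hyj := hy j; have hxj := hx j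
    rw [mi'] at hyi hxi
    rw [mj'] at hyj hxj
    have hsum4 : (T : ℤ) ∣ 4 * (m i + m j) := by
      obtain ⟨a, ha⟩ := hyi; obtain ⟨b, hb⟩ := hxi; obtain ⟨c, hc⟩ := hyj; obtain ⟨d, hd⟩ := hxj
      exact ⟨(m i - 1) * d + a * X.x j - ((m j + 1) * b + c * X.x i), by
        linear_combination X.x j * ha + (m i - 1) * hd - X.x i * hc - (m j + 1) * hb - hcross⟩
    have hbi := hm_bound i; have hbj := hm_bound j
    have hmij : m i + m j = 0 := Int.eq_zero_of_dvd_of_natAbs_lt_natAbs (hco.dvd_of_dvd_mul_left hsum4) (by omega)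
    have hsum := (perm_sum m hij hil hjl).1
    have hsq2 := (perm_sum (fun a => m a ^ 2) hij hil hjl).1
    simp only [he] at hsum hsq2
    simp only [← he] at hsum hsq2 hsm hsq
    have ml : m l = -1 := by omega
    have ha : m i = 0 ∨ m i = 1 ∨ m i = -1 := by
      have hj2 : m j = -m i := by omega
      rw [hj2, ml] at hsq2
      have : m i ^ 2 ≤ 2 := by nlinarith
      have : -2 < m i := by nlinarith
      have : m i < 2 := by nlinarith
      omega
    obtain ⟨s1, s2, s3⟩ := sums i j l hij hil hjl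
    have hsl : X.s l = 0 := Arith.eq_zero_of_budget P s1 s2 (by simpa [ml, ml'] using hs l)
    have hyl : X.y l = q := by have := hrel l; rw [hsl] at this; linarith
    have hyij : X.y j = 4 * (T : ℤ) - X.y i := by linarith
    by_cases hmi : m i = 1
    · have hsi : X.s i = 1 := Arith.eq_one_of_budget P (a := X.s i) (b := X.s j) (by omega)
        (by rw [hsl] at s2; linarith) (by simpa [hmi, mi'] using hs i)
      have := heven i
      omega
    · have hodd : IsCoprime (X.y i) (4 : ℤ) := by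
        obtain ⟨c, hc⟩ : (2 : ℤ) ∣ X.s i := Int.dvd_of_emod_eq_zero (heven i)
        have h2 : IsCoprime (X.y i) (2 : ℤ) := by
          refine ⟨1, -(2 * (T : ℤ) - 1 - (2 * (T : ℤ) - 1) * c), ?_⟩
          have h := hrel i
          rw [hc] at h
          linear_combination h - hT
        simpa using h2.pow_right (n := 2)
      have hcoT : IsCoprime (X.y i) (T : ℤ) := by
        obtain ⟨w, hw⟩ := hyi
        rcases ha with h | h | h
        · rw [h] at hw; exact ⟨-1, w, by linarith⟩
        · exact absurd h hmi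
        · rw [h] at hw
          have h2 : IsCoprime (T : ℤ) (-2) := (show IsCoprime (T : ℤ) 2 from ⟨1, -((T : ℤ) / 2), by omega⟩).neg_right
          have : X.y i = -2 + (T : ℤ) * w := by linarith
          rw [this]
          exact h2.symm.add_mul_left_left w
      have hcop : IsCoprime (X.y i) (X.y j) := by
        rw [hyij, sub_eq_add_neg, show -X.y i = X.y i * (-1) by ring]
        exact (hodd.mul_right hcoT).add_mul_left_right (-1)
      obtain ⟨u, v, huv⟩ := hcop
      exact Arith.proportional_false P (triple i j l hij hil hjl) hN3 hNT hN8 hyl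
        (κ := u * X.x i + v * X.x j)
        (by linear_combination -(X.x i) * huv - v * hcross)
        (by linear_combination -(X.x j) * huv + u * hcross)

end Setup

end Cfsg.Lib.ReeType
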