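import Cfsg.Agent.Lib.ReeType.Setup
import Mathlib.GroupTheory.FixedPointFree
import Mathlib.GroupTheory.Nilpotent

/-!
# The three-structure when no involution inverts an element of order three
-/

set_option autoImplicit false
set_option linter.unusedSectionVars false
set_option linter.style.haveILetI false

namespace Cfsg.Lib.ReeType

open Subgroup

/-- No involution inverts an element of order three. -/
def NoInv (G : Type*) [Group G] : Prop :=
  ∀ x y : G, x * x = 1 → x * y * x⁻¹ = y⁻¹ → y ^ 3 = 1 → y = 1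

theorem NoInv.pow {G : Type*} [Group G] (h : NoInv G) {x y : G} (hx : x * x = 1)
    (hy : x * y * x⁻¹ = y⁻¹) : ∀ j : ℕ, y ^ 3 ^ j = 1 → y = 1
  | 0, he => by simpa using he
  | j + 1, he => by
    refine h x y hx hy (NoInv.pow h hx ?_ j ?_)
    · rw [← conj_pow, hy, inv_pow]
    · rw [← pow_mul, ← pow_succ']; exact he

section Small

variable {H : Type*} [Group H] [Finite H] {t : H}

/-- A Sylow two-subgroup of order two has a normal complement of index two and odd order. -/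
theorem exists_odd_complement (P : Sylow 2 H) (hP : (P : Subgroup H) = zpowers t) (ht : orderOf t = 2) :
    ∃ M : Subgroup H, M.Normal ∧ M.index = 2 ∧ Odd (Nat.card M) ∧
      ∀ x : H, Odd (orderOf x) → x ∈ M := by
  classical
  haveI : Fact (Nat.Prime 2) := ⟨Nat.prime_two⟩
  have hN : normalizer ((P : Subgroup H) : Set H) ≤ centralizer ((P : Subgroup H) : Set H) := by
    intro g hg
    rw [mem_centralizer_iff]
    intro v hv
    have hmem : ∀ w ∈ (P : Subgroup H), w = 1 ∨ w = t := by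
      intro w hw
      rw [hP, (isOfFinOrder_of_finite t).mem_zpowers_iff_mem_range_orderOf, ht] at hw
      obtain ⟨i, hi, rfl⟩ := Finset.mem_image.mp hw
      rw [Finset.mem_range] at hi
      interval_cases i <;> simp
    rcases hmem v hv with rfl | rfl
    · rw [one_mul, mul_one]
    · rcases hmem _ ((mem_normalizer_iff.mp hg v).mp hv) with h | h
      · exact absurd (conj_eq_one_iff.mp h) (fun e => by rw [e, orderOf_one] at ht; omega)
      · exact (mul_inv_eq_iff_eq_mul.mp h).symm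
  set f := MonoidHom.transferSylow P hN
  have hc := MonoidHom.ker_transferSylow_isComplement' P hN
  have hidx : f.ker.index = 2 := by
    rw [hc.symm.index_eq_card, hP, Nat.card_zpowers, ht]
  refine ⟨f.ker, inferInstance, hidx, ?_, fun x hx => ?_⟩
  · rw [Nat.odd_iff]
    have : ¬ 2 ∣ Nat.card f.ker := MonoidHom.not_dvd_card_ker_transferSylow P hN
    omega
  · rw [MonoidHom.mem_ker, ← orderOf_eq_one_iff]
    have h1 : orderOf (f x) ∣ orderOf x := orderOf_map_dvd f x
    have h2 : orderOf (f x) ∣ 2 := by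
      have h := orderOf_dvd_natCard (f x)
      have hc2 : Nat.card (P : Subgroup H) = 2 := by rw [hP, Nat.card_zpowers, ht]
      rwa [hc2] at h
    rcases (Nat.dvd_prime Nat.prime_two).mp h2 with h | h
    · exact h
    · rw [h] at h1
      rw [Nat.odd_iff] at hx
      omega

/-- With a Sylow two-subgroup of order two, some Sylow `p`-subgroup is normalized by the involution. -/
theorem exists_sylow_normalized (P : Sylow 2 H) (hP : (P : Subgroup H) = zpowers t) (ht : orderOf t = 2)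
    (p : ℕ) [Fact p.Prime] (hp : p ≠ 2) : ∃ R : Sylow p H, t ∈ normalizer ((R : Subgroup H) : Set H) := by
  classical
  haveI : Fact (Nat.Prime 2) := ⟨Nat.prime_two⟩
  obtain ⟨M, hMn, hMi, hMo, hM⟩ := exists_odd_complement P hP ht
  haveI := hMn
  obtain ⟨R⟩ : Nonempty (Sylow p H) := inferInstance
  have hRM : (R : Subgroup H) ≤ M := fun x hx => hM x (by
    obtain ⟨j, hj⟩ := R.isPGroup' ⟨x, hx⟩
    refine Odd.of_dvd_nat (Odd.pow (n := j) (Nat.Prime.odd_of_ne_two Fact.out hp)) ?_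
    exact orderOf_dvd_of_pow_eq_one (congrArg Subtype.val hj))
  have hsup := Sylow.normalizer_sup_eq_top' R hRM
  obtain ⟨x, hxN, hxM⟩ : ∃ x ∈ normalizer ((R : Subgroup H) : Set H), x ∉ M := by
    by_contra h
    push Not at h
    have hle : (⊤ : Subgroup H) ≤ M := hsup.symm.le.trans (sup_le h le_rfl)
    rw [top_le_iff.mp hle, index_top] at hMi
    omega
  obtain ⟨k, hk⟩ : 2 ∣ orderOf x := by
    by_contra h
    exact hxM (hM x (Nat.odd_iff.mpr (by omega)))
  have ho : orderOf (x ^ k) = 2 := by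
    have hk0 : k ≠ 0 := fun e => (orderOf_pos x).ne' (by rw [hk, e, mul_zero])
    rw [orderOf_pow' x hk0, hk, Nat.gcd_eq_right (dvd_mul_left k 2), Nat.mul_div_cancel _ (by omega)]
  obtain ⟨S, hS⟩ := (IsPGroup.of_card (n := 1) (show Nat.card (zpowers (x ^ k)) = 2 ^ 1 by
    rw [Nat.card_zpowers, ho, pow_one])).exists_le_sylow
  obtain ⟨g, hg⟩ := MulAction.exists_smul_eq H P S
  have hmem := hS (mem_zpowers (x ^ k))
  rw [← hg, Sylow.coe_subgroup_smul, hP] at hmem
  obtain ⟨w, hw, hgw⟩ := hmem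
  rw [SetLike.mem_coe, (isOfFinOrder_of_finite t).mem_zpowers_iff_mem_range_orderOf, ht] at hw
  obtain ⟨i, hi, rfl⟩ := Finset.mem_image.mp hw
  rw [Finset.mem_range] at hi
  have hgt : g * t * g⁻¹ = x ^ k := by
    interval_cases i
    · exfalso
      simp at hgw
      rw [← hgw, orderOf_one] at ho
      omega
    · simpa [MulAut.conj_apply] using hgw
  refine ⟨g⁻¹ • R, ?_⟩
  have hfix : (x ^ k) • R = R := Sylow.smul_eq_iff_mem_normalizer.mpr (pow_mem hxN k)
  refine Sylow.smul_eq_iff_mem_normalizer.mp ?_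
  rw [← mul_smul, show t * g⁻¹ = g⁻¹ * x ^ k by rw [← hgt]; group, mul_smul, hfix]

end Small

namespace Setup

variable {G L : Type*} [Group G] [Group L] [Finite G] {n T : ℕ} (S : Setup G L n T)
include S

/-- The image of the Sylow three-subgroup of `L`. -/
def threeSub : Subgroup G := S.D.U.map S.φ

theorem mem_threeSub {g : G} : g ∈ S.threeSub ↔ ∃ v ∈ S.D.U, S.φ v = g := Iff.rfl

theorem card_threeSub : Nat.card S.threeSub = 3 ^ (2 * n + 1) := by
  rw [threeSub, ← Nat.card_congr (equivMapOfInjective _ _ S.inj).toEquiv, S.D.card_U]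

theorem threeSub_cube {g : G} (hg : g ∈ S.threeSub) : g ^ 3 = 1 := by
  obtain ⟨v, hv, rfl⟩ := hg
  rw [← map_pow, S.D.U_cube v hv, map_one]

theorem threeSub_comm {a b : G} (ha : a ∈ S.threeSub) (hb : b ∈ S.threeSub) : a * b = b * a := by
  obtain ⟨v, hv, rfl⟩ := ha
  obtain ⟨w, hw, rfl⟩ := hb
  rw [← map_mul, S.D.U_comm v hv w hw, map_mul]

theorem t_threeSub {g : G} (hg : g ∈ S.threeSub) : S.t * g = g * S.t := by
  obtain ⟨v, -, rfl⟩ := hg
  exact S.comm v

theorem isPGroup_threeSub : IsPGroup 3 S.threeSub := IsPGroup.of_card S.card_threeSub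

theorem orderOf_t : orderOf S.t = 2 := orderOf_eq_prime (by rw [sq, S.t_sq]) S.t_ne

theorem cent_t_three {g u : G} (hu : u ∈ S.threeSub) (hu1 : u ≠ 1) (hgt : g * S.t = S.t * g)
    (hgu : g * u = u * g) : ∃ v ∈ S.D.U, g = S.φ v ∨ g = S.t * S.φ v := by
  obtain ⟨w, hw, rfl⟩ := hu
  obtain ⟨l, hl⟩ := S.cent g hgt
  refine ⟨l, S.D.cent_U w hw (fun e => hu1 (by rw [e, map_one])) l (S.inj ?_), hl⟩
  rcases hl with rfl | rfl
  · rwa [map_mul, map_mul]
  · rw [map_mul, map_mul]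
    rw [mul_assoc, ← mul_assoc (S.φ w), ← S.comm, mul_assoc] at hgu
    exact mul_left_cancel hgu

theorem exists_ne_one_threeSub : ∃ u ∈ S.threeSub, u ≠ 1 := by
  by_contra h
  push Not at h
  have h1 : S.threeSub = ⊥ := (eq_bot_iff_forall _).mpr h
  have h2 := S.card_threeSub
  have := S.q_facts.2.1
  rw [h1, card_bot] at h2
  omega

/-- A subgroup containing `t` in which only `⟨t⟩ U` centralizes `t` has a Sylow two-subgroup of
order two. -/
theorem sylow_two_order_two (H : Subgroup G) (ht : S.t ∈ H)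
    (hH : ∀ g ∈ H, g * S.t = S.t * g → ∃ v ∈ S.D.U, g = S.φ v ∨ g = S.t * S.φ v) :
    ∃ P : Sylow 2 H, (P : Subgroup H) = zpowers (⟨S.t, ht⟩ : H) := by
  haveI : Fact (Nat.Prime 2) := ⟨Nat.prime_two⟩
  obtain ⟨P, hP⟩ := (IsPGroup.of_card (n := 1) (show Nat.card (zpowers (⟨S.t, ht⟩ : H)) = 2 ^ 1 by
    rw [Nat.card_zpowers, orderOf_mk, S.orderOf_t, pow_one])).exists_le_sylow
  refine ⟨P, le_antisymm (fun x hx => ?_) hP⟩
  obtain ⟨hsq, hcomm, -⟩ := S.isPGroup_sq (P.isPGroup'.map H.subtype)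
  have hxG : (x : G) ∈ (P : Subgroup H).map H.subtype := ⟨x, hx, rfl⟩
  have htG : S.t ∈ (P : Subgroup H).map H.subtype := ⟨_, hP (mem_zpowers _), rfl⟩
  obtain ⟨v, hv, hxv⟩ := hH x x.2 (hcomm _ hxG _ htG)
  have hv1 : v = 1 := by
    have h2 := hsq _ hxG
    have hvv : v * v = 1 := by
      apply S.inj
      rw [map_one]
      rcases hxv with e | e <;> rw [e] at h2
      · rwa [map_mul]
      · rwa [S.t_φ_pow_two] at h2
    calc v = v ^ 3 * (v * v)⁻¹ := by group
      _ = 1 := by rw [S.D.U_cube v hv, hvv]; group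
  subst hv1
  rcases hxv with e | e
  · rw [map_one] at e
    rw [show x = 1 from Subtype.ext e]
    exact one_mem _
  · rw [map_one, mul_one] at e
    rw [show x = ⟨S.t, ht⟩ from Subtype.ext e]
    exact mem_zpowers _

theorem t_mem_centralizer_three : S.t ∈ centralizer (S.threeSub : Set G) :=
  mem_centralizer_iff.mpr fun x hx => (S.t_threeSub hx).symm

theorem centralizer_three_hyp : ∀ g ∈ centralizer (S.threeSub : Set G), g * S.t = S.t * g →
    ∃ v ∈ S.D.U, g = S.φ v ∨ g = S.t * S.φ v := by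
  intro g hg hgt
  obtain ⟨u, hu, hu1⟩ := S.exists_ne_one_threeSub
  exact S.cent_t_three hu hu1 hgt (mem_centralizer_iff.mp hg u hu).symm

/-- The normalizer of the three-subgroup is covered by its centralizer and `B`. -/
theorem normalizer_three {g : G} (hg : g ∈ normalizer (S.threeSub : Set G)) :
    ∃ h ∈ centralizer (S.threeSub : Set G), ∃ b ∈ S.D.B, g = h * S.φ b := by
  classical
  haveI : Fact (Nat.Prime 2) := ⟨Nat.prime_two⟩
  set H := centralizer (S.threeSub : Set G) with hHdef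
  have ht := S.t_mem_centralizer_three
  obtain ⟨P, hP⟩ := S.sylow_two_order_two H ht S.centralizer_three_hyp
  have hgt : g * S.t * g⁻¹ ∈ H := by
    rw [hHdef, mem_centralizer_iff]
    intro x hx
    have hx' : g⁻¹ * x * g ∈ S.threeSub := (mem_normalizer_iff''.mp hg x).mp hx
    have h := (S.t_threeSub hx').symm
    calc x * (g * S.t * g⁻¹) = g * (g⁻¹ * x * g * S.t) * g⁻¹ := by group
      _ = g * S.t * g⁻¹ * x := by rw [h]; group
  have ho : orderOf (⟨_, hgt⟩ : H) = 2 := by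
    rw [orderOf_mk, ← MulAut.conj_apply g S.t, MulEquiv.orderOf_eq, S.orderOf_t]
  obtain ⟨R, hR⟩ := (IsPGroup.of_card (n := 1) (show Nat.card (zpowers (⟨_, hgt⟩ : H)) = 2 ^ 1 by
    rw [Nat.card_zpowers, ho, pow_one])).exists_le_sylow
  obtain ⟨c, hc⟩ := MulAction.exists_smul_eq H R P
  have hmem : c * ⟨_, hgt⟩ * c⁻¹ ∈ (P : Subgroup H) := by
    rw [← hc, Sylow.coe_subgroup_smul]
    exact ⟨_, hR (mem_zpowers _), rfl⟩
  rw [hP, (isOfFinOrder_of_finite _).mem_zpowers_iff_mem_range_orderOf, orderOf_mk, S.orderOf_t] at hmem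
  obtain ⟨i, hi, he⟩ := Finset.mem_image.mp hmem
  rw [Finset.mem_range] at hi
  have hct : (c : G) * g * S.t * ((c : G) * g)⁻¹ = S.t := by
    interval_cases i
    · exfalso
      rw [pow_zero] at he
      rw [conj_eq_one_iff.mp he.symm, orderOf_one] at ho
      omega
    · have := congrArg Subtype.val he
      simp only [pow_one, Subgroup.coe_mul, Subgroup.coe_inv] at this
      rw [mul_inv_rev]
      calc (c : G) * g * S.t * (g⁻¹ * (c : G)⁻¹) = c * (g * S.t * g⁻¹) * (c : G)⁻¹ := by group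
        _ = S.t := this.symm
  obtain ⟨b, hb⟩ := S.cent _ (mul_inv_eq_iff_eq_mul.mp hct)
  have hcinv : (c : G)⁻¹ ∈ H := inv_mem c.2
  have hbB : b ∈ S.D.B := by
    refine S.D.norm_U b fun u hu => ?_
    have hu' : S.φ u ∈ S.threeSub := ⟨u, hu, rfl⟩
    have hg' : g * S.φ u * g⁻¹ ∈ S.threeSub := (mem_normalizer_iff.mp hg _).mp hu'
    have h1 : (c : G) * (g * S.φ u * g⁻¹) * (c : G)⁻¹ = g * S.φ u * g⁻¹ :=
      mul_inv_eq_iff_eq_mul.mpr (mem_centralizer_iff.mp c.2 _ hg').symm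
    have h2 : S.φ (b * u * b⁻¹) = g * S.φ u * g⁻¹ := by
      rw [← h1, map_mul, map_mul, map_inv]
      rw [show (c : G) * (g * S.φ u * g⁻¹) * (c : G)⁻¹ = c * g * S.φ u * ((c : G) * g)⁻¹ by group]
      rcases hb with e | e <;> rw [e]
      calc S.φ b * S.φ u * (S.φ b)⁻¹ = S.φ (b * u * b⁻¹) := by rw [map_mul, map_mul, map_inv]
        _ = S.t * S.φ (b * u * b⁻¹) * S.t⁻¹ := by rw [S.comm]; group
        _ = S.t * S.φ b * S.φ u * (S.t * S.φ b)⁻¹ := by rw [map_mul, map_mul, map_inv]; group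
    obtain ⟨w, hw, hwe⟩ := h2 ▸ hg'
    rwa [← S.inj hwe]
  rcases hb with e | e
  · exact ⟨(c : G)⁻¹, hcinv, b, hbB, by rw [← e]; group⟩
  · exact ⟨(c : G)⁻¹ * S.t, mul_mem hcinv ht, b, hbB, by rw [mul_assoc, ← e]; group⟩

theorem conj_of_decomp {g h : G} {b u : L} (hh : h ∈ centralizer (S.threeSub : Set G)) (hb : b ∈ S.D.B)
    (hu : u ∈ S.D.U) (hg : g = h * S.φ b) : g * S.φ u * g⁻¹ = S.φ (b * u * b⁻¹) := by
  have hu' : S.φ (b * u * b⁻¹) ∈ S.threeSub := ⟨_, S.D.U_normal b hb u hu, rfl⟩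
  calc g * S.φ u * g⁻¹ = h * S.φ (b * u * b⁻¹) * h⁻¹ := by
        rw [hg, map_mul, map_mul, map_inv]; group
    _ = S.φ (b * u * b⁻¹) := mul_inv_eq_iff_eq_mul.mpr (mem_centralizer_iff.mp hh _ hu').symm

/-- An element of three-power order in `B` lies in `U`. -/
theorem mem_U_of_three_pow {b : L} (hb : b ∈ S.D.B) {j : ℕ} (h : b ^ 3 ^ j = 1) : b ∈ S.D.U := by
  haveI := S.finite_L
  haveI : Fact (Nat.Prime 3) := ⟨Nat.prime_three⟩
  obtain ⟨i, -, hi⟩ := (Nat.dvd_prime_pow Nat.prime_three).mp (orderOf_dvd_of_pow_eq_one h)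
  have hU : IsPGroup 3 S.D.U := IsPGroup.of_card S.D.card_U
  have hle : zpowers b ≤ normalizer (S.D.U : Set L) := by
    rw [zpowers_le, mem_normalizer_iff]
    refine fun x => ⟨S.D.U_normal b hb x, fun hx => ?_⟩
    have := S.D.U_normal b⁻¹ (inv_mem hb) _ hx
    rwa [inv_inv, show b⁻¹ * (b * x * b⁻¹) * b = x by group] at this
  have hsup : IsPGroup 3 (zpowers b ⊔ S.D.U : Subgroup L) :=
    (IsPGroup.of_card (n := i) (by rw [Nat.card_zpowers, hi])).to_sup_of_normal_right' hU hle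
  obtain ⟨m, hm⟩ := IsPGroup.iff_card.mp hsup
  have hdvd : 2 * Nat.card (zpowers b ⊔ S.D.U : Subgroup L) ∣
      3 ^ (2 * n + 1) * (3 ^ (2 * n + 1) - 1) := by
    rw [← S.D.card_B]
    exact Nat.mul_dvd_mul_left 2 (card_dvd_of_le (sup_le (zpowers_le.mpr hb) S.D.U_le))
  rw [hm] at hdvd
  have hq := S.q_facts
  have h3 : 3 ^ m ∣ 3 ^ (2 * n + 1) := Nat.Coprime.dvd_of_dvd_mul_right
    (Nat.Coprime.pow_left m (Nat.prime_three.coprime_iff_not_dvd.mpr fun h => by omega))
    ((dvd_mul_left _ 2).trans hdvd)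
  have heq : S.D.U = zpowers b ⊔ S.D.U := eq_of_le_of_card_ge le_sup_right (by
    rw [hm, S.D.card_U]; exact Nat.le_of_dvd (pow_pos (by norm_num) _) h3)
  rw [heq]
  exact mem_sup_left (mem_zpowers b)

theorem exists_sylow_three (hI : NoInv G) :
    ∃ P : Sylow 3 G, (P : Subgroup G) = S.threeSub := by
  haveI : Fact (Nat.Prime 3) := ⟨Nat.prime_three⟩
  obtain ⟨P, hP⟩ := S.isPGroup_threeSub.exists_le_sylow
  refine ⟨P, by_contra fun hne => ?_⟩
  haveI := P.isPGroup'.isNilpotent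
  have hlt : S.threeSub.subgroupOf (P : Subgroup G) < ⊤ := by
    rw [lt_top_iff_ne_top, Ne, subgroupOf_eq_top]
    exact fun h => hne (le_antisymm h hP)
  obtain ⟨g, hgN, hgU⟩ := SetLike.exists_of_lt
    (Group.normalizerCondition_of_isNilpotent (S.threeSub.subgroupOf (P : Subgroup G)) hlt)
  refine hgU (mem_subgroupOf.mpr ?_)
  have hgN' : (g : G) ∈ normalizer (S.threeSub : Set G) := by
    rw [mem_normalizer_iff]
    intro x
    constructor
    · intro hx
      exact mem_subgroupOf.mp ((mem_normalizer_iff.mp hgN ⟨x, hP hx⟩).mp (mem_subgroupOf.mpr hx))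
    · intro hx
      have h2 := (mem_normalizer_iff''.mp hgN ⟨(g : G) * x * (g : G)⁻¹, hP hx⟩).mp (mem_subgroupOf.mpr hx)
      have := mem_subgroupOf.mp h2
      simp only [Subgroup.coe_mul, Subgroup.coe_inv] at this
      rwa [show (g : G)⁻¹ * ((g : G) * x * (g : G)⁻¹) * g = x by group] at this
  obtain ⟨h, hh, b, hb, hg⟩ := S.normalizer_three hgN'
  obtain ⟨j, hj⟩ := P.isPGroup' g
  have hj' : (g : G) ^ 3 ^ j = 1 := congrArg Subtype.val hj
  have hiter : ∀ i : ℕ, ∀ u ∈ S.D.U,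
      (g : G) ^ i * S.φ u * ((g : G) ^ i)⁻¹ = S.φ (b ^ i * u * (b ^ i)⁻¹) := by
    intro i
    induction i with
    | zero => intro u _; simp
    | succ i ih =>
      intro u hu
      rw [pow_succ', pow_succ', show (g : G) * (g : G) ^ i * S.φ u * ((g : G) * (g : G) ^ i)⁻¹ =
        g * ((g : G) ^ i * S.φ u * ((g : G) ^ i)⁻¹) * (g : G)⁻¹ by group, ih u hu,
        S.conj_of_decomp hh hb (S.D.U_normal _ (pow_mem hb i) u hu) hg]
      congr 1
      group
  have hbU : b ∈ S.D.U := by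
    obtain ⟨u, ⟨v, hv, rfl⟩, hu1⟩ := S.exists_ne_one_threeSub
    have hj2 := hiter (3 ^ j) v hv
    rw [hj', one_mul, inv_one, mul_one] at hj2
    have hbj : b ^ 3 ^ j ∈ S.D.U := S.D.cent_U v hv (fun e => hu1 (by rw [e, map_one])) _
      (mul_inv_eq_iff_eq_mul.mp (S.inj hj2).symm)
    refine S.mem_U_of_three_pow hb (j := j + 1) ?_
    rw [pow_succ, pow_mul]
    exact S.D.U_cube _ hbj
  have hgH : (g : G) ∈ centralizer (S.threeSub : Set G) := by
    rw [hg]
    refine mul_mem hh (mem_centralizer_iff.mpr fun x hx => ?_)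
    exact S.threeSub_comm hx ⟨b, hbU, rfl⟩
  -- inside the centralizer every Sylow three-subgroup is `U`
  set H := centralizer (S.threeSub : Set G) with hHdef
  obtain ⟨Q, hQ⟩ := S.sylow_two_order_two H S.t_mem_centralizer_three S.centralizer_three_hyp
  obtain ⟨R, hR⟩ := exists_sylow_normalized Q hQ (by rw [orderOf_mk, S.orderOf_t]) 3 (by norm_num)
  have hRU : ∀ y ∈ (R : Subgroup H), (y : G) ∈ S.threeSub := by
    intro y hy
    set tH : H := ⟨S.t, S.t_mem_centralizer_three⟩ with htH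
    have htt : tH * tH = 1 := Subtype.ext S.t_sq
    have hc : y⁻¹ * (tH * y * tH⁻¹) ∈ (R : Subgroup H) := mul_mem (inv_mem hy) ((mem_normalizer_iff.mp hR y).mp hy)
    obtain ⟨i, hi⟩ := R.isPGroup' ⟨_, hc⟩
    have hti : tH⁻¹ = tH := inv_eq_of_mul_eq_one_right htt
    have hinv : tH * (y⁻¹ * (tH * y * tH⁻¹)) * tH⁻¹ = (y⁻¹ * (tH * y * tH⁻¹))⁻¹ := by
      calc tH * (y⁻¹ * (tH * y * tH⁻¹)) * tH⁻¹ = tH * y⁻¹ * tH * y * (tH⁻¹ * tH⁻¹) := by group
        _ = tH * y⁻¹ * tH⁻¹ * y := by rw [hti, htt, mul_one]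
        _ = (y⁻¹ * (tH * y * tH⁻¹))⁻¹ := by group
    have h1 : (y⁻¹ * (tH * y * tH⁻¹) : H) = 1 := Subtype.ext
      (hI.pow (x := S.t) (y := ((y⁻¹ * (tH * y * tH⁻¹) : H) : G)) S.t_sq (congrArg Subtype.val hinv) i
        (congrArg Subtype.val (congrArg Subtype.val hi)))
    have hyt : (y : G) * S.t = S.t * y := by
      have := congrArg Subtype.val (mul_inv_eq_iff_eq_mul.mp (inv_mul_eq_one.mp h1).symm)
      exact this.symm
    obtain ⟨v, hv, e | e⟩ := S.centralizer_three_hyp y y.2 hyt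
    · exact ⟨v, hv, e.symm⟩
    · exfalso
      obtain ⟨i', hi'⟩ := R.isPGroup' ⟨y, hy⟩
      have h := congrArg Subtype.val (congrArg Subtype.val hi')
      simp only [SubgroupClass.coe_pow] at h
      rw [e, (show Commute S.t (S.φ v) from S.comm v).mul_pow] at h
      rw [← map_pow] at h
      have hodd : Odd (3 ^ i') := Odd.pow ⟨1, rfl⟩
      obtain ⟨c, hc'⟩ := hodd
      rw [hc', pow_succ, pow_mul, sq, S.t_sq, one_pow, one_mul] at h
      exact S.t_mul_φ_ne (v ^ (2 * c + 1)) 1 (by rw [map_one]; exact h)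
  have hgp : IsPGroup 3 (zpowers (⟨g, hgH⟩ : H)) := by
    obtain ⟨i, -, hi⟩ := (Nat.dvd_prime_pow Nat.prime_three).mp
      (orderOf_dvd_of_pow_eq_one (show (⟨g, hgH⟩ : H) ^ 3 ^ j = 1 from Subtype.ext hj'))
    exact IsPGroup.of_card (n := i) (by rw [Nat.card_zpowers, hi])
  obtain ⟨R', hR'⟩ := hgp.exists_le_sylow
  obtain ⟨c, rfl⟩ := MulAction.exists_smul_eq H R R'
  have hmem := hR' (mem_zpowers _)
  rw [Sylow.coe_subgroup_smul] at hmem
  obtain ⟨y, hy, hye⟩ := hmem
  have hval : (c : G) * y * (c : G)⁻¹ = g := congrArg Subtype.val hye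
  rw [← hval, mul_inv_eq_iff_eq_mul.mpr (mem_centralizer_iff.mp c.2 _ (hRU y hy)).symm]
  exact hRU y hy

/-- A nontrivial element of `U` centralizes no element of prime order `r` whose centralizer has small
three-part and cyclic `r`-part. -/
theorem three_cent_contra (hI : NoInv G) {u : L} (hu : u ∈ S.D.U) (hu1 : u ≠ 1) {a : G} {r : ℕ}
    [Fact r.Prime] (hr2 : r ≠ 2) (hr3 : r ≠ 3) (har : a ^ r = 1) (ha1 : a ≠ 1)
    (hau : a * S.φ u = S.φ u * a)
    (hcyc : ∀ h : G, h * a = a * h → h ^ r = 1 → h ∈ zpowers a)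
    (h9 : ¬ 9 ∣ Nat.card (centralizer ({a} : Set G))) : False := by
  classical
  haveI : Fact (Nat.Prime 3) := ⟨Nat.prime_three⟩
  haveI : Fact (Nat.Prime 2) := ⟨Nat.prime_two⟩
  set H := centralizer ({S.φ u} : Set G) with hHdef
  have hu' : S.φ u ∈ S.threeSub := ⟨u, hu, rfl⟩
  have hu1' : S.φ u ≠ 1 := fun e => hu1 (S.inj (by rw [e, map_one]))
  have ht : S.t ∈ H := mem_centralizer_singleton_iff.mpr (S.comm u)
  have hcentH : ∀ g ∈ H, g * S.t = S.t * g → ∃ v ∈ S.D.U, g = S.φ v ∨ g = S.t * S.φ v :=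
    fun g hg hgt => S.cent_t_three hu' hu1' hgt (mem_centralizer_singleton_iff.mp hg)
  obtain ⟨P, hP⟩ := S.sylow_two_order_two H ht hcentH
  obtain ⟨M, hMn, -, hMo, hM⟩ := exists_odd_complement P hP (by rw [orderOf_mk, S.orderOf_t])
  obtain ⟨Q, hQ⟩ := S.exists_sylow_three hI
  have hQH : (Q : Subgroup G) ≤ H := hQ ▸ fun x hx =>
    mem_centralizer_singleton_iff.mpr (S.threeSub_comm hx hu')
  set R : Sylow 3 H := Q.subtype hQH
  have hRmem : ∀ x : H, x ∈ (R : Subgroup H) ↔ (x : G) ∈ S.threeSub := fun x => by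
    rw [← hQ]; rfl
  have hN : normalizer ((R : Subgroup H) : Set H) ≤ centralizer ((R : Subgroup H) : Set H) := by
    intro g hg
    have hgN : (g : G) ∈ normalizer (S.threeSub : Set G) := by
      rw [mem_normalizer_iff]
      intro x
      constructor
      · intro hx
        have hxH : x ∈ H := hQH (hQ.symm ▸ hx)
        exact (hRmem _).mp ((mem_normalizer_iff.mp hg ⟨x, hxH⟩).mp ((hRmem _).mpr hx))
      · intro hx
        have hxH : (g : G) * x * (g : G)⁻¹ ∈ H := hQH (hQ.symm ▸ hx)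
        have h2 := (hRmem _).mp ((mem_normalizer_iff''.mp hg ⟨_, hxH⟩).mp ((hRmem _).mpr hx))
        simp only [Subgroup.coe_mul, Subgroup.coe_inv] at h2
        rwa [show (g : G)⁻¹ * ((g : G) * x * (g : G)⁻¹) * g = x by group] at h2
    obtain ⟨h, hh, b, hb, hgb⟩ := S.normalizer_three hgN
    have hbU : b ∈ S.D.U := by
      have h1 := S.conj_of_decomp hh hb hu hgb
      rw [mul_inv_eq_iff_eq_mul.mpr (mem_centralizer_singleton_iff.mp g.2)] at h1
      exact S.D.cent_U u hu hu1 b (mul_inv_eq_iff_eq_mul.mp (S.inj h1).symm)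
    rw [mem_centralizer_iff]
    intro x hx
    refine Subtype.ext ?_
    show (x : G) * g = g * x
    have hx' := (hRmem x).mp hx
    rw [hgb]
    calc (x : G) * (h * S.φ b) = h * ((x : G) * S.φ b) := by
          rw [← mul_assoc, mem_centralizer_iff.mp hh _ hx', mul_assoc]
      _ = h * S.φ b * x := by rw [S.threeSub_comm hx' ⟨b, hbU, rfl⟩, mul_assoc]
  set f := MonoidHom.transferSylow R hN
  set W := f.ker
  have hW3 : ¬ 3 ∣ Nat.card W := MonoidHom.not_dvd_card_ker_transferSylow R hN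
  haveI := hMn
  set M₂ : Subgroup H := M ⊓ W
  have haH : a ∈ H := mem_centralizer_singleton_iff.mpr hau
  have hao : orderOf a = r := orderOf_eq_prime har ha1
  have haM : (⟨a, haH⟩ : H) ∈ M₂ := by
    refine ⟨hM _ (by rw [orderOf_mk, hao]; exact (Fact.out : r.Prime).odd_of_ne_two hr2), ?_⟩
    show f ⟨a, haH⟩ = 1
    rw [← orderOf_eq_one_iff]
    have h1 : orderOf (f ⟨a, haH⟩) ∣ r := by
      rw [← hao, ← orderOf_mk a haH]; exact orderOf_map_dvd f _
    rcases (Nat.dvd_prime Fact.out).mp h1 with h | h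
    · exact h
    · exfalso
      obtain ⟨i, hi⟩ := R.isPGroup' (f ⟨a, haH⟩)
      have hd : r ∣ 3 ^ i := h ▸ orderOf_dvd_of_pow_eq_one hi
      exact hr3 ((Nat.prime_dvd_prime_iff_eq Fact.out Nat.prime_three).mp
        ((Fact.out : r.Prime).dvd_of_dvd_pow hd))
  -- the involution inverts the intersection
  set tH : H := ⟨S.t, ht⟩
  have htt : tH * tH = 1 := Subtype.ext S.t_sq
  let θ : M₂ →* M₂ := ((MulAut.conjNormal (H := M₂) tH : MulAut M₂) : M₂ →* M₂)
  have hθ : ∀ x : M₂, (θ x : H) = tH * x * tH⁻¹ := fun x => MulAut.conjNormal_apply tH x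
  have hfix : MonoidHom.FixedPointFree θ := by
    intro x hx
    have h := congrArg Subtype.val hx
    rw [hθ] at h
    obtain ⟨v, hv, e⟩ := hcentH _ (x : H).2 (congrArg Subtype.val (mul_inv_eq_iff_eq_mul.mp h)).symm
    have hxM : (x : H) ∈ M := x.2.1
    have ho : ¬ 2 ∣ orderOf (x : H) := fun hd => by
      have := (hd.trans (orderOf_dvd_natCard M hxM))
      rw [Nat.odd_iff] at hMo
      omega
    have ho3 : ¬ 3 ∣ orderOf (x : H) := fun hd => hW3 (hd.trans (orderOf_dvd_natCard W x.2.2))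
    have h6 : (x : H) ^ 6 = 1 := by
      refine Subtype.ext ?_
      show ((x : H) : G) ^ 6 = 1
      rcases e with e | e <;> rw [e]
      · rw [← map_pow, show 6 = 3 * 2 by rfl, pow_mul, S.D.U_cube v hv, one_pow, map_one]
      · rw [(show Commute S.t (S.φ v) from S.comm v).mul_pow, ← map_pow,
          show S.t ^ 6 = (S.t ^ 2) ^ 3 by rw [← pow_mul], sq, S.t_sq, one_pow,
          show v ^ 6 = (v ^ 3) ^ 2 by rw [← pow_mul], S.D.U_cube v hv, one_pow, map_one, one_mul]
    have hd := orderOf_dvd_of_pow_eq_one h6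
    have hc : Nat.Coprime (orderOf (x : H)) (2 * 3) :=
      Nat.Coprime.mul_right ((Nat.prime_two.coprime_iff_not_dvd.mpr ho).symm)
        ((Nat.prime_three.coprime_iff_not_dvd.mpr ho3).symm)
    exact Subtype.ext (orderOf_eq_one_iff.mp (Nat.eq_one_of_dvd_coprimes hc dvd_rfl hd))
  have hθ2 : Function.Involutive θ := fun x => Subtype.ext (by
    rw [hθ, hθ]
    calc tH * (tH * (x : H) * tH⁻¹) * tH⁻¹ = (tH * tH) * x * (tH * tH)⁻¹ := by group
      _ = x := by rw [htt]; group)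
  have hcomm : ∀ x y : M₂, x * y = y * x := fun x y => by
    have h := map_mul θ x y
    rw [hfix.coe_eq_inv_of_involutive hθ2] at h
    simp only at h
    rw [mul_inv_rev] at h
    calc x * y = (y⁻¹ * x⁻¹)⁻¹ := by group
      _ = (x⁻¹ * y⁻¹)⁻¹ := by rw [h]
      _ = y * x := by group
  -- conjugates of `a` under the three-subgroup
  have hk : ∀ v : S.D.U, ∃ k : ℕ, S.φ v * a * (S.φ v)⁻¹ = a ^ k := by
    intro v
    have hvH : S.φ v ∈ H := mem_centralizer_singleton_iff.mpr (S.threeSub_comm ⟨v, v.2, rfl⟩ hu')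
    have hmem : (⟨S.φ v, hvH⟩ : H) * ⟨a, haH⟩ * (⟨S.φ v, hvH⟩ : H)⁻¹ ∈ M₂ :=
      (inferInstance : M₂.Normal).conj_mem _ haM _
    have h1 := congrArg (fun z : M₂ => ((z : H) : G)) (hcomm ⟨_, hmem⟩ ⟨_, haM⟩)
    simp only [Subgroup.coe_mul, Subgroup.coe_inv] at h1
    have h2 := hcyc _ h1 (by rw [conj_pow, har]; group)
    obtain ⟨k, -, hk⟩ := Finset.mem_image.mp
      ((isOfFinOrder_of_finite a).mem_zpowers_iff_mem_range_orderOf.mp h2)
    exact ⟨k, hk.symm⟩
  choose k hk using hk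
  classical
  have hcube : ∀ v : S.D.U, ((k v : ZMod r)) ^ 3 = 1 := by
    intro v
    have hiter : ∀ i : ℕ, S.φ v ^ i * a * (S.φ v ^ i)⁻¹ = a ^ (k v ^ i) := by
      intro i
      induction i with
      | zero => simp
      | succ i ih =>
        rw [pow_succ', show S.φ v * S.φ v ^ i * a * (S.φ v * S.φ v ^ i)⁻¹ =
          S.φ v * (S.φ v ^ i * a * (S.φ v ^ i)⁻¹) * (S.φ v)⁻¹ by group, ih, ← conj_pow, hk v,
          ← pow_mul, pow_succ']
    have h := hiter 3
    rw [← map_pow, S.D.U_cube _ v.2, map_one, one_mul, inv_one, mul_one] at h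
    have h' : a ^ 1 = a ^ (k v ^ 3) := by rw [pow_one]; exact h
    rw [pow_eq_pow_iff_modEq, hao, ← ZMod.natCast_eq_natCast_iff] at h'
    push_cast at h'
    exact h'.symm
  -- count
  haveI := S.finite_L
  haveI := Fintype.ofFinite S.D.U
  set Z : Finset (ZMod r) := (Finset.univ : Finset S.D.U).image fun v => (k v : ZMod r)
  have hZ : Z.card ≤ 3 := by
    have hsub : Z.val ≤ ((Polynomial.X : Polynomial (ZMod r)) ^ 3 - Polynomial.C 1).roots := by
      rw [Finset.val_le_iff_val_subset]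
      intro x hx
      obtain ⟨v, -, rfl⟩ := Finset.mem_image.mp (Finset.mem_val.mp hx)
      rw [Polynomial.mem_roots (Polynomial.X_pow_sub_C_ne_zero (by norm_num) 1)]
      simp [hcube v]
    calc Z.card ≤ _ := Multiset.card_le_card hsub
      _ ≤ _ := Polynomial.card_roots' _
      _ = 3 := Polynomial.natDegree_X_pow_sub_C
  set K : Subgroup G := S.threeSub ⊓ centralizer ({a} : Set G)
  have hKc : Nat.card K ≤ 3 := by
    obtain ⟨i, hi⟩ := IsPGroup.iff_card.mp (S.isPGroup_threeSub.to_le (inf_le_left : K ≤ S.threeSub))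
    rw [hi]
    by_contra hlt
    have h2 : 2 ≤ i := by
      by_contra hh
      push Not at hh
      interval_cases i <;> norm_num at hlt
    exact h9 ((show 9 ∣ Nat.card K from hi ▸ (show 9 = 3 ^ 2 by rfl) ▸ pow_dvd_pow 3 h2).trans
      (card_dvd_of_le inf_le_right))
  have hfib : ∀ z ∈ Z, ((Finset.univ : Finset S.D.U).filter fun v => (k v : ZMod r) = z).card ≤ 3 := by
    intro z hz
    obtain ⟨v₀, -, hv₀⟩ := Finset.mem_image.mp hz
    haveI := Fintype.ofFinite K
    refine le_trans ?_ hKc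
    rw [Nat.card_eq_fintype_card, ← Finset.card_univ]
    have hKmem : ∀ v : S.D.U, (k v : ZMod r) = z → (S.φ v₀)⁻¹ * S.φ v ∈ K := by
      intro v hv
      have e : S.φ v * a * (S.φ v)⁻¹ = S.φ v₀ * a * (S.φ v₀)⁻¹ := by
        rw [hk, hk, pow_eq_pow_iff_modEq, hao, ← ZMod.natCast_eq_natCast_iff, hv, hv₀]
      refine mem_inf.mpr ⟨mul_mem (inv_mem (show S.φ v₀ ∈ S.threeSub from ⟨v₀, v₀.2, rfl⟩))
        (show S.φ v ∈ S.threeSub from ⟨v, v.2, rfl⟩), mem_centralizer_singleton_iff.mpr ?_⟩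
      calc (S.φ v₀)⁻¹ * S.φ v * a = (S.φ v₀)⁻¹ * (S.φ v * a * (S.φ v)⁻¹) * S.φ v := by group
        _ = a * ((S.φ v₀)⁻¹ * S.φ v) := by rw [e]; group
    refine Finset.card_le_card_of_injOn
      (fun v => if hv : (k v : ZMod r) = z then (⟨_, hKmem v hv⟩ : K) else 1)
      (fun v _ => Finset.mem_univ _) ?_
    intro v hv w hw e
    simp only [Finset.coe_filter, Finset.mem_univ, true_and, Set.mem_ofPred_eq] at hv hw
    simp only [dif_pos hv, dif_pos hw] at e
    exact Subtype.ext (S.inj (mul_left_cancel (congrArg Subtype.val e)))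
  have hcard : (Finset.univ : Finset S.D.U).card ≤ 3 * Z.card :=
    Finset.card_le_mul_card_image _ 3 hfib
  rw [Finset.card_univ, ← Nat.card_eq_fintype_card, S.D.card_U] at hcard
  have := S.q_facts.2.1
  omega

end Setup

end Cfsg.Lib.ReeType
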