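import Cfsg.Agent.Lib.ReeType.Torus

/-!
# The normalizer of the torus and the fusion in it
-/

set_option autoImplicit false
set_option linter.unusedSectionVars false
set_option linter.style.haveILetI false
set_option linter.unusedVariables false

namespace Cfsg.Lib.ReeType

open Subgroup

namespace Setup

variable {G L : Type*} [Group G] [Group L] {n T : ℕ} (S : Setup G L n T)
include S

/-- The normalizer of the torus. -/
def Nm : Subgroup G := normalizer (S.K : Set G)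

theorem t_inV : S.InV S.t := Or.inr (Or.inl rfl)

theorem z_inV : S.InV (S.φ S.D.z) := Or.inr (Or.inr (Or.inl rfl))

theorem tz_inV : S.InV (S.t * S.φ S.D.z) := Or.inr (Or.inr (Or.inr rfl))

theorem conj_inV {g v : G} (hg : g ∈ S.Nm) (hv : S.InV v) : S.InV (g * v * g⁻¹) := by
  refine S.inV_iff.mpr ⟨(mem_normalizer_iff.mp hg v).mp hv.mem_K, ?_⟩
  rw [← conj_mul', hv.sq]; group

theorem φy_mem : S.φ S.D.y ∈ S.Tsub := mem_zpowers _

theorem φy_ne : S.φ S.D.y ≠ 1 := fun e => S.y_ne (S.inj (by rw [e, map_one]))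

theorem exists_sq_of_mem_Tsub {τ : G} (hτ : τ ∈ S.Tsub) : ∃ σ ∈ S.Tsub, σ * σ = τ := by
  obtain ⟨c, hc⟩ : Odd T := Nat.odd_iff.mpr S.q_facts.2.2.1
  refine ⟨τ ^ (c + 1), pow_mem hτ _, ?_⟩
  rw [← pow_add, show c + 1 + (c + 1) = T + 1 by omega, pow_succ, S.Tsub_pow hτ, one_mul]

/-- An element centralizing the four-group has its square in the torus. -/
theorem sq_mem_Tsub_of_cent {g : G} (h1 : g * S.t = S.t * g)
    (h2 : g * S.φ S.D.z = S.φ S.D.z * g) : g * g ∈ S.Tsub := by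
  obtain ⟨l, hl⟩ := S.cent g h1
  have hlz : l * S.D.z = S.D.z * l := by
    apply S.inj
    rcases hl with rfl | rfl
    · rwa [map_mul, map_mul]
    · rw [map_mul, map_mul]
      rw [mul_assoc, ← mul_assoc (S.φ S.D.z), ← S.comm, mul_assoc] at h2
      exact mul_left_cancel h2
  have hg : g * g = S.φ (l * l) := by
    rcases hl with rfl | rfl
    · rw [map_mul]
    · rw [S.t_φ_pow_two]
  rw [hg]
  obtain ⟨s, hs, h⟩ := S.D.cent_z l hlz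
  have hsz : Commute s S.D.z := by
    obtain ⟨k, rfl⟩ := mem_zpowers_iff.mp hs
    exact Commute.zpow_left S.D.y_z k
  have hsi : S.D.i * s * S.D.i = s⁻¹ := by
    obtain ⟨k, rfl⟩ := mem_zpowers_iff.mp hs
    have hii : S.D.i⁻¹ = S.D.i := inv_eq_of_mul_eq_one_right S.D.i_sq
    nth_rewrite 2 [← hii]
    rw [← conj_zpow, S.D.i_y, inv_zpow]
  have hiz : Commute S.D.i S.D.z := S.D.i_z
  rcases h with rfl | rfl | rfl | rfl
  · exact S.mem_Tsub.mpr ⟨l * l, mul_mem hs hs, rfl⟩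
  · refine S.mem_Tsub.mpr ⟨s * s, mul_mem hs hs, congrArg S.φ ?_⟩
    calc s * S.D.z * (s * S.D.z) = s * (S.D.z * s) * S.D.z := by group
      _ = s * s * (S.D.z * S.D.z) := by rw [← hsz.eq]; group
      _ = s * s := by rw [S.D.z_sq, mul_one]
  · have : s * S.D.i * (s * S.D.i) = 1 := by
      calc s * S.D.i * (s * S.D.i) = s * (S.D.i * s * S.D.i) := by group
        _ = 1 := by rw [hsi, mul_inv_cancel]
    rw [this, map_one]; exact one_mem _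
  · have : s * S.D.z * S.D.i * (s * S.D.z * S.D.i) = 1 := by
      calc s * S.D.z * S.D.i * (s * S.D.z * S.D.i) = s * (S.D.z * (S.D.i * (s * S.D.z)) * S.D.i) := by group
        _ = s * (S.D.z * S.D.z) * (S.D.i * s * S.D.i) := by
          rw [hsz.eq, ← mul_assoc S.D.i, hiz.eq]
          group
        _ = 1 := by rw [S.D.z_sq, mul_one, hsi, mul_inv_cancel]
    rw [this, map_one]; exact one_mem _

theorem ι_facts : S.φ S.D.i * S.φ S.D.i = 1 ∧ S.φ S.D.i * S.t * (S.φ S.D.i)⁻¹ = S.t ∧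
    S.φ S.D.i * S.φ S.D.z * (S.φ S.D.i)⁻¹ = S.φ S.D.z ∧
    ∀ τ ∈ S.Tsub, S.φ S.D.i * τ * (S.φ S.D.i)⁻¹ = τ⁻¹ := by
  refine ⟨by rw [← map_mul, S.D.i_sq, map_one], ?_, ?_, fun τ hτ => ?_⟩
  · rw [← S.comm]; group
  · rw [← map_mul, S.D.i_z, map_mul]; group
  · obtain ⟨k, rfl⟩ := mem_zpowers_iff.mp hτ
    rw [← conj_zpow, ← map_inv, ← map_mul, ← map_mul, S.D.i_y, map_inv, inv_zpow]

variable [Finite G]

theorem mem_Nm_of_map {g : G} (h : ∀ x ∈ S.K, g * x * g⁻¹ ∈ S.K) : g ∈ S.Nm := by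
  have heq : S.K.map (MulAut.conj g).toMonoidHom = S.K := by
    refine eq_of_le_of_card_ge ?_ (le_of_eq (Nat.card_congr
      (equivMapOfInjective _ _ (MulAut.conj g).injective).toEquiv))
    rintro _ ⟨w, hw, rfl⟩
    exact h w hw
  rw [Nm, mem_normalizer_iff]
  intro w
  refine ⟨h w, fun hw => ?_⟩
  rw [← heq] at hw
  obtain ⟨w', hw', e⟩ := hw
  have e' : g * w' * g⁻¹ = g * w * g⁻¹ := e
  rwa [← mul_left_cancel (mul_right_cancel e')]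

variable [IsSimpleGroup G] (hna : ¬ IsMulCommutative G)
include hna

/-- An element of order three cycles the three involutions of the torus. -/
theorem exists_rho_four : ∃ ρ : G, ρ * ρ * ρ = 1 ∧ ρ * S.t * ρ⁻¹ = S.φ S.D.z ∧
    ρ * S.φ S.D.z * ρ⁻¹ = S.t * S.φ S.D.z ∧ ρ * (S.t * S.φ S.D.z) * ρ⁻¹ = S.t := by
  obtain ⟨⟨n₀, hn₀, hn₀z⟩, -⟩ := S.fusion_elem hna
  set z := S.D.z with hzdef
  set z' := S.D.r * S.D.z * S.D.r⁻¹ with hz'def
  have hz'1 : z' ≠ 1 := fun h => S.D.z_ne (conj_eq_one_iff.mp h)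
  obtain ⟨l, hl, hle⟩ := (mem_normalizer_iff.mp hn₀ _).mp (S.φ_mem_elem (Or.inr (Or.inr (Or.inl rfl))))
  have hl1 : l ≠ 1 := by
    rintro rfl
    rcases hle with h | h
    · exact hz'1 (S.inj (by rw [map_one]; exact conj_eq_one_iff.mp (h.trans (map_one _))))
    · rw [map_one, mul_one, ← hn₀z] at h
      exact S.D.r_z (S.inj (mul_left_cancel (mul_right_cancel h)))
  have hr3 : S.D.r * S.D.r * S.D.r = 1 := by
    have h := S.D.r_cube; simpa [pow_succ] using h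
  obtain ⟨c, hc, hcz⟩ : ∃ c : L, S.D.r * c = c * S.D.r ∧ c * l * c⁻¹ = z := by
    rcases hl with h | h | h | h
    · exact absurd h hl1
    · exact ⟨1, by group, by simp [h, hzdef]⟩
    · refine ⟨S.D.r⁻¹, by group, ?_⟩
      rw [h, hzdef]; group
    · refine ⟨S.D.r, rfl, ?_⟩
      rw [h, conj_mul', S.D.r_cycle, ← mul_assoc, S.D.r_comm, mul_assoc, S.z'_sq, mul_one]
  set g := S.φ c * n₀ with hgdef
  have h1 : g * S.φ z * g⁻¹ = S.t := by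
    rw [hgdef, show S.φ c * n₀ * S.φ z * (S.φ c * n₀)⁻¹ = S.φ c * (n₀ * S.φ z * n₀⁻¹) * (S.φ c)⁻¹ by group,
      hn₀z, ← S.comm]
    group
  set w := g * S.φ z' * g⁻¹ with hwdef
  have hw : w = S.φ z ∨ w = S.t * S.φ z := by
    have e : w = S.φ c * (n₀ * S.φ z' * n₀⁻¹) * (S.φ c)⁻¹ := by rw [hwdef, hgdef]; group
    rcases hle with h | h <;> rw [e, h]
    · exact Or.inl (by rw [← map_inv, ← map_mul, ← map_mul, hcz])
    · refine Or.inr ?_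
      rw [← hcz, map_mul, map_mul, map_inv, ← mul_assoc (S.φ c), ← S.comm]
      group
  set R := g * S.φ S.D.r * g⁻¹ with hRdef
  have hR : ∀ x : L, R * (g * S.φ x * g⁻¹) * R⁻¹ = g * S.φ (S.D.r * x * S.D.r⁻¹) * g⁻¹ := fun x => by
    rw [map_mul, map_mul, map_inv, hRdef]; group
  have R1 : R * S.t * R⁻¹ = w := by rw [← h1, hR]
  have R2 : R * w * R⁻¹ = S.t * w := by
    rw [hwdef, hR, hz'def, S.D.r_cycle, ← h1, map_mul, conj_mul']
  have R3 : R * (S.t * w) * R⁻¹ = S.t := by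
    rw [conj_mul', R1, R2]
    rcases hw with e | e <;> rw [e]
    · rw [S.comm, ← mul_assoc, ← map_mul, S.D.z_sq, map_one, one_mul]
    · rw [mul_assoc, S.t_mul_t_mul, ← map_mul, S.D.z_sq, map_one, mul_one]
  have R0 : R * R * R = 1 := by
    rw [hRdef, ← conj_mul', ← conj_mul', ← map_mul, ← map_mul, hr3, map_one]; group
  obtain ⟨ρ, hρ0, hρ1, hρ2, hρ3⟩ : ∃ ρ : G, ρ * ρ * ρ = 1 ∧ ρ * S.t * ρ⁻¹ = S.φ z ∧
      ρ * S.φ z * ρ⁻¹ = S.t * S.φ z ∧ ρ * (S.t * S.φ z) * ρ⁻¹ = S.t := by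
    rcases hw with e | e
    · exact ⟨R, R0, by rw [R1, e], by rw [← e, R2], by rw [← e, R3]⟩
    · have e' : S.t * w = S.φ z := by rw [e, S.t_mul_t_mul]
      rw [e'] at R2 R3
      rw [e] at R1 R2
      have back : ∀ x y : G, R * x * R⁻¹ = y → R⁻¹ * y * (R⁻¹)⁻¹ = x := by
        rintro x y rfl; group
      exact ⟨R⁻¹, by rw [show R⁻¹ * R⁻¹ * R⁻¹ = (R * R * R)⁻¹ by group, R0, inv_one],
        back _ _ R3, back _ _ R2, back _ _ R1⟩
  exact ⟨ρ, hρ0, hρ1, hρ2, hρ3⟩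

variable (hI : NoInv G)
include hI

theorem mem_Nm_of_torus {g τ : G} (hτ : τ ∈ S.Tsub) (hτ1 : τ ≠ 1) (h : g * τ * g⁻¹ ∈ S.Tsub) :
    g ∈ S.Nm :=
  S.mem_Nm_of_map fun x hx => S.cent_torus hna hI h (fun e => hτ1 (conj_eq_one_iff.mp e))
    (by rw [← conj_mul', ← conj_mul', S.K_comm hx (S.Tsub_le hτ)])

/-- Fusion of the elements of the torus outside the four-group. -/
theorem mem_Nm_of_fused {g x : G} (hx : x ∈ S.K) (hx2 : x * x ≠ 1) (h : g * x * g⁻¹ ∈ S.K) :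
    g ∈ S.Nm :=
  S.mem_Nm_of_torus hna hI (S.sq_mem_Tsub hx) hx2 (by rw [conj_mul']; exact S.sq_mem_Tsub h)

theorem mem_K_of_cent {g x : G} (hx : x ∈ S.K) (hx2 : x * x ≠ 1) (h : g * x = x * g) : g ∈ S.K :=
  S.cent_torus hna hI (S.sq_mem_Tsub hx) hx2 (by rw [← mul_assoc, h, mul_assoc, h, ← mul_assoc])

theorem ι_mem_Nm : S.φ S.D.i ∈ S.Nm :=
  S.mem_Nm_of_torus hna hI S.φy_mem S.φy_ne
    (by rw [S.ι_facts.2.2.2 _ S.φy_mem]; exact inv_mem S.φy_mem)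

/-- An element of order three of the normalizer cycles the three involutions of the torus. -/
theorem exists_rho : ∃ ρ ∈ S.Nm, ρ * ρ * ρ = 1 ∧ ρ * S.t * ρ⁻¹ = S.φ S.D.z ∧
    ρ * S.φ S.D.z * ρ⁻¹ = S.t * S.φ S.D.z ∧ ρ * (S.t * S.φ S.D.z) * ρ⁻¹ = S.t := by
  obtain ⟨ρ, hρ0, hρ1, hρ2, hρ3⟩ := S.exists_rho_four hna
  refine ⟨ρ, ?_, hρ0, hρ1, hρ2, hρ3⟩
  obtain ⟨σ, hσ, hσy⟩ := S.exists_sq_of_mem_Tsub S.φy_mem
  refine S.mem_Nm_of_torus hna hI S.φy_mem S.φy_ne ?_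
  rw [← hσy, conj_mul']
  refine S.sq_mem_Tsub_of_cent ?_ ?_
  · nth_rewrite 1 [← hρ3]; nth_rewrite 2 [← hρ3]
    rw [← conj_mul', ← conj_mul', S.K_comm (S.Tsub_le hσ) S.tz_inV.mem_K]
  · rw [← hρ1]
    rw [← conj_mul', ← conj_mul', S.K_comm (S.Tsub_le hσ) S.t_mem_K]

/-- The stabilizer of `t` in the normalizer of the torus. -/
theorem stab_t {g : G} (hg : g ∈ S.Nm) (ht : g * S.t * g⁻¹ = S.t) :
    g ∈ S.K ∨ g * S.φ S.D.i ∈ S.K := by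
  obtain ⟨h1, h2, h3, h4, h5, h6⟩ := S.tz_facts
  have hgt : g * S.t = S.t * g := mul_inv_eq_iff_eq_mul.mp ht
  obtain ⟨l, hl⟩ := S.cent g hgt
  have hconj : g * S.φ S.D.z * g⁻¹ = S.φ (l * S.D.z * l⁻¹) := by
    rcases hl with rfl | rfl
    · rw [map_mul, map_mul, map_inv]
    · rw [map_mul, map_mul, map_inv, show S.t * S.φ l * S.φ S.D.z * (S.t * S.φ l)⁻¹ =
        S.t * (S.φ l * S.φ S.D.z * (S.φ l)⁻¹) * S.t⁻¹ by group, ← map_inv, ← map_mul, ← map_mul, S.comm]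
      group
  have hlz : l * S.D.z * l⁻¹ = S.D.z := by
    rcases S.conj_inV hg S.z_inV with h | h | h | h
    · exact absurd (conj_eq_one_iff.mp h) h2
    · exact absurd (hconj.symm.trans h) (S.not_mem _)
    · exact S.inj (hconj.symm.trans h)
    · exact absurd (h.symm.trans hconj) (S.t_mul_φ_ne _ _)
  obtain ⟨s, hs, h⟩ := S.D.cent_z l (mul_inv_eq_iff_eq_mul.mp hlz)
  have hsK : S.φ s ∈ S.K := S.Tsub_le (S.mem_Tsub.mpr ⟨s, hs, rfl⟩)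
  have hlK : S.φ l ∈ S.K ∨ S.φ l * S.φ S.D.i ∈ S.K := by
    rcases h with rfl | rfl | rfl | rfl
    · exact Or.inl hsK
    · exact Or.inl (by rw [map_mul]; exact mul_mem hsK S.φz_mem_K)
    · exact Or.inr (by rw [← map_mul, mul_assoc, S.D.i_sq, mul_one]; exact hsK)
    · exact Or.inr (by rw [← map_mul, mul_assoc, S.D.i_sq, mul_one, map_mul]; exact mul_mem hsK S.φz_mem_K)
  rcases hl with rfl | rfl
  · exact hlK
  · exact hlK.imp (fun h => mul_mem S.t_mem_K h) (fun h => by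
      rw [mul_assoc]; exact mul_mem S.t_mem_K h)

theorem ι_not_mem_K : S.φ S.D.i ∉ S.K := fun h => by
  have h1 := S.ι_facts.2.2.2 _ S.φy_mem
  rw [mul_inv_eq_iff_eq_mul.mpr (S.K_comm h (S.Tsub_le S.φy_mem))] at h1
  exact S.φy_ne (S.Tsub_sq_eq_one S.φy_mem (mul_eq_one_iff_eq_inv.mpr h1))

/-- Representatives of the six cosets of the torus in its normalizer. -/
def rep (ρ : G) (p : Fin 3 × Bool) : G := ρ ^ (p.1 : ℕ) * if p.2 then S.φ S.D.i else 1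

theorem exists_rep {ρ : G} (hρN : ρ ∈ S.Nm) (h3 : ρ * ρ * ρ = 1)
    (h1 : ρ * S.t * ρ⁻¹ = S.φ S.D.z) (h2 : ρ * S.φ S.D.z * ρ⁻¹ = S.t * S.φ S.D.z)
    {g : G} (hg : g ∈ S.Nm) : ∃ p : Fin 3 × Bool, ∃ k ∈ S.K, g = S.rep ρ p * k := by
  obtain ⟨j, hj⟩ : ∃ j : Fin 3, g * S.t * g⁻¹ = ρ ^ (j : ℕ) * S.t * (ρ ^ (j : ℕ))⁻¹ := by
    rcases S.conj_inV hg S.t_inV with h | h | h | h
    · exact absurd (conj_eq_one_iff.mp h) S.t_ne
    · exact ⟨0, by rw [h]; simp⟩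
    · exact ⟨1, by rw [h, Fin.val_one, pow_one, h1]⟩
    · refine ⟨2, ?_⟩
      rw [h, Fin.val_two, sq, show ρ * ρ * S.t * (ρ * ρ)⁻¹ = ρ * (ρ * S.t * ρ⁻¹) * ρ⁻¹ by group, h1, h2]
  have hm : (ρ ^ (j : ℕ))⁻¹ * g ∈ S.Nm := mul_mem (inv_mem (pow_mem hρN _)) hg
  have hmt : (ρ ^ (j : ℕ))⁻¹ * g * S.t * ((ρ ^ (j : ℕ))⁻¹ * g)⁻¹ = S.t := by
    rw [show (ρ ^ (j : ℕ))⁻¹ * g * S.t * ((ρ ^ (j : ℕ))⁻¹ * g)⁻¹ =
      (ρ ^ (j : ℕ))⁻¹ * (g * S.t * g⁻¹) * ρ ^ (j : ℕ) by group, hj]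
    group
  rcases S.stab_t hna hI hm hmt with h | h
  · exact ⟨(j, false), _, h, by simp [rep]⟩
  · refine ⟨(j, true), S.φ S.D.i * ((ρ ^ (j : ℕ))⁻¹ * g * S.φ S.D.i) * (S.φ S.D.i)⁻¹,
      (mem_normalizer_iff.mp (S.ι_mem_Nm hna hI) _).mp h, ?_⟩
    have hii : S.φ S.D.i * S.φ S.D.i = 1 := S.ι_facts.1
    simp only [rep, if_true]
    rw [show ρ ^ (j : ℕ) * S.φ S.D.i * (S.φ S.D.i * ((ρ ^ (j : ℕ))⁻¹ * g * S.φ S.D.i) * (S.φ S.D.i)⁻¹) =
      ρ ^ (j : ℕ) * (S.φ S.D.i * S.φ S.D.i) * ((ρ ^ (j : ℕ))⁻¹ * g) by group, hii]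
    group

theorem rep_injective {ρ : G} (hρN : ρ ∈ S.Nm) (h3 : ρ * ρ * ρ = 1)
    (h1 : ρ * S.t * ρ⁻¹ = S.φ S.D.z) (h2 : ρ * S.φ S.D.z * ρ⁻¹ = S.t * S.φ S.D.z)
    {p p' : Fin 3 × Bool} {k k' : G} (hk : k ∈ S.K) (hk' : k' ∈ S.K)
    (e : S.rep ρ p * k = S.rep ρ p' * k') : p = p' ∧ k = k' := by
  obtain ⟨a1, a2, a3, a4, a5, a6⟩ := S.tz_facts
  have hit := S.ι_facts.2.1
  have key : ∀ (p : Fin 3 × Bool) (k : G), k ∈ S.K →
      S.rep ρ p * k * S.t * (S.rep ρ p * k)⁻¹ = ρ ^ (p.1 : ℕ) * S.t * (ρ ^ (p.1 : ℕ))⁻¹ := by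
    rintro ⟨j, b⟩ k hk
    have hkt : k * S.t * k⁻¹ = S.t := mul_inv_eq_iff_eq_mul.mpr (S.K_comm hk S.t_mem_K)
    rw [show S.rep ρ (j, b) * k * S.t * (S.rep ρ (j, b) * k)⁻¹ =
      S.rep ρ (j, b) * (k * S.t * k⁻¹) * (S.rep ρ (j, b))⁻¹ by group, hkt]
    cases b
    · simp [rep]
    · simp only [rep, if_true]
      rw [show ρ ^ (j : ℕ) * S.φ S.D.i * S.t * (ρ ^ (j : ℕ) * S.φ S.D.i)⁻¹ =
        ρ ^ (j : ℕ) * (S.φ S.D.i * S.t * (S.φ S.D.i)⁻¹) * (ρ ^ (j : ℕ))⁻¹ by group, hit]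
  have h := key p k hk
  rw [e, key p' k' hk'] at h
  obtain ⟨j, b⟩ := p
  obtain ⟨j', b'⟩ := p'
  have hjj : j = j' := by
    have e1 : ∀ i : Fin 3, ρ ^ (i : ℕ) * S.t * (ρ ^ (i : ℕ))⁻¹ =
        ![S.t, S.φ S.D.z, S.t * S.φ S.D.z] i := by
      intro i; fin_cases i
      · simp
      · simpa using h1
      · show ρ ^ 2 * S.t * (ρ ^ 2)⁻¹ = _
        rw [sq, show ρ * ρ * S.t * (ρ * ρ)⁻¹ = ρ * (ρ * S.t * ρ⁻¹) * ρ⁻¹ by group, h1, h2]
        rfl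
    rw [e1, e1] at h
    fin_cases j <;> fin_cases j' <;> first | rfl | (simp [a4, a4.symm, a5, a5.symm, a6, a6.symm] at h)
  subst hjj
  simp only [rep, mul_assoc] at e
  have e' := mul_left_cancel e
  cases b <;> cases b'
  · exact ⟨rfl, by simpa using e'⟩
  · exact absurd (by
      simp only [if_true, Bool.false_eq_true, if_false, one_mul] at e'
      rw [show S.φ S.D.i = k * k'⁻¹ by rw [e']; group]
      exact mul_mem hk (inv_mem hk')) (S.ι_not_mem_K hna hI)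
  · exact absurd (by
      simp only [if_true, Bool.false_eq_true, if_false, one_mul] at e'
      rw [show S.φ S.D.i = k' * k⁻¹ by rw [← e']; group]
      exact mul_mem hk' (inv_mem hk)) (S.ι_not_mem_K hna hI)
  · exact ⟨rfl, by simpa using e'⟩

end Setup

end Cfsg.Lib.ReeType
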