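import Cfsg.Agent.Lib.ReeType.ThreeChars

/-!
# The three signed irreducible constituents and their invariants
-/

set_option autoImplicit false
set_option linter.unusedSectionVars false
set_option linter.unusedVariables false
set_option linter.style.haveILetI false

namespace Cfsg.Lib.ReeType

open Subgroup Cfsg Cfsg.Lib.Char
open scoped ComplexConjugate Matrix

universe u

/-- The three constituents of the function induced from the principal character of `⟨t⟩ × B`. -/
structure Trio {G L : Type u} [Group G] [Group L] [Fintype G] {n T : ℕ} (S : Setup G L n T) where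
  X : Fin 3 → IrrCharacter G
  ε : Fin 3 → ℤ
  x : Fin 3 → ℤ
  y : Fin 3 → ℤ
  s : Fin 3 → ℤ
  inj : Function.Injective X
  ne_one : ∀ i, (X i : G → ℂ) ≠ fun _ => 1
  sign : ∀ i, ε i = 1 ∨ ε i = -1
  hx : ∀ i, (ε i : ℂ) * (X i : G → ℂ) 1 = x i
  hy : ∀ i, (ε i : ℂ) * (X i : G → ℂ) S.t = y i
  hs : ∀ i, (ε i : ℂ) * S.sval (X i : G → ℂ) = s i
  theta_zero : ∀ g, S.theta 0 g = 1 + ∑ i, (ε i : ℂ) * (X i : G → ℂ) g
  coeff : ∀ i, classInner (S.theta 0) (X i : G → ℂ) = ε i
  coeff_zero : ∀ χ : IrrCharacter G, (χ : G → ℂ) ≠ (fun _ => 1) → (∀ i, χ ≠ X i) →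
    classInner (S.theta 0) (χ : G → ℂ) = 0
  nz : ∀ i, x i ≠ 0
  parity : ∀ i, 2 ∣ x i - y i
  relation : ∀ i, y i + (2 * (T : ℤ) - 1) * s i = (3 : ℤ) ^ (2 * n + 1)
  deg : 1 + x 0 + x 1 + x 2 = 0
  val : 1 + y 0 + y 1 + y 2 = 2 * ((3 : ℤ) ^ (2 * n + 1) + 1)
  sum_s : s 0 + s 1 + s 2 = 2
  pair : (numInvol G : ℤ) * (x 0 * x 1 * x 2 + y 0 ^ 2 * x 1 * x 2 + y 1 ^ 2 * x 0 * x 2 +
      y 2 ^ 2 * x 0 * x 1) = (3 : ℤ) ^ (2 * n + 1) * ((3 : ℤ) ^ (2 * n + 1) - 1) *
      (((3 : ℤ) ^ (2 * n + 1)) ^ 2 - 1) * (x 0 * x 1 * x 2)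
  budget : s 0 ^ 2 + s 1 ^ 2 + s 2 ^ 2 ≤ 8 * (T : ℤ)

namespace Setup

variable {G L : Type u} [Group G] [Group L] [Fintype G] {n T : ℕ} (S : Setup G L n T)
include S

theorem inner_small {i j : ℕ} (hi : i < T) (hj : j < T) :
    classInner (S.theta i) (S.theta j) =
      if i = j then (if i = 0 then 4 else 2) else 0 := by
  obtain ⟨-, -, -, hT7, -⟩ := S.q_facts
  rw [S.inner_theta_theta]
  have h1 : 2 * T - 1 ∣ i + j ↔ i = 0 ∧ j = 0 := by
    refine ⟨fun h => ?_, fun h => by simp [h.1, h.2]⟩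
    have := Nat.eq_zero_of_dvd_of_lt h (by omega)
    omega
  have h2 : 2 * T - 1 ∣ i + (2 * T - 1 - 1) * j ↔ i = j := by
    have e : ((i + (2 * T - 1 - 1) * j : ℕ) : ℤ) = ((i : ℤ) - j) + ((2 * T - 1 : ℕ) : ℤ) * j := by
      push_cast [Nat.cast_sub (show 1 ≤ 2 * T - 1 by omega)]
      ring
    rw [← Int.natCast_dvd_natCast, e, dvd_add_left (dvd_mul_right _ _)]
    refine ⟨fun h => ?_, fun h => by simp [h]⟩
    have := Int.eq_zero_of_dvd_of_natAbs_lt_natAbs h (by omega)
    omega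
  simp only [h1, h2]
  by_cases hij : i = j
  · subst hij
    by_cases h0 : i = 0 <;> simp [h0]
    norm_num
  · rw [if_neg (fun h => hij (h.1.trans h.2.symm)), if_neg hij, if_neg hij]; norm_num

theorem theta_reflect {i : ℕ} (hi : i + 1 < T) :
    S.theta (2 * T - 1 - (i + 1)) = S.theta (i + 1) := by
  obtain ⟨-, -, -, hT7, -⟩ := S.q_facts
  rw [← sub_eq_zero]
  refine eq_zero_of_classInner_self ?_
  set k := i + 1
  set m := 2 * T - 1 with hm
  have a1 : ¬ m ∣ k + k := fun h => by have := Nat.eq_zero_of_dvd_of_lt h (by omega); omega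
  rw [classInner_sub_left, classInner_sub_right, classInner_sub_right]
  simp only [S.inner_theta_theta, ← hm]
  have b1 : ∀ a b : ℕ, (m ∣ a + (m - 1) * b) ↔ (m : ℤ) ∣ (a : ℤ) - b := fun a b => by
    rw [← Int.natCast_dvd_natCast]
    push_cast [Nat.cast_sub (show 1 ≤ m by omega)]
    rw [show (a : ℤ) + ((m : ℤ) - 1) * b = ((a : ℤ) - b) + m * b by ring, dvd_add_left (dvd_mul_right _ _)]
  have b2 : ∀ a b : ℕ, (m ∣ a + b) ↔ (m : ℤ) ∣ (a : ℤ) + b := fun a b => by
    rw [← Int.natCast_dvd_natCast]; push_cast; rfl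
  simp only [b1, b2, Nat.cast_sub (show k ≤ m by omega), sub_self, dvd_zero, if_true]
  have c1 : ¬ (m : ℤ) ∣ (k : ℤ) + k := fun h => a1 ((b2 k k).mpr h)
  have c2 : (m : ℤ) ∣ (m : ℤ) - k + k := by simp
  have c3 : ¬ (m : ℤ) ∣ (m : ℤ) - k + ((m : ℤ) - k) := fun h => c1 (by
    have h' := dvd_sub (dvd_mul_left (m : ℤ) 2) h
    rwa [show 2 * (m : ℤ) - ((m : ℤ) - k + ((m : ℤ) - k)) = k + k by ring] at h')
  have c4 : ¬ (m : ℤ) ∣ (m : ℤ) - k - k := fun h => c1 (by
    have h' := dvd_sub (dvd_refl (m : ℤ)) h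
    rwa [show (m : ℤ) - ((m : ℤ) - k - k) = k + k by ring] at h')
  have c5 : (m : ℤ) ∣ (k : ℤ) + ((m : ℤ) - k) := by simp
  have c6 : ¬ (m : ℤ) ∣ (k : ℤ) - ((m : ℤ) - k) := fun h => c1 (by
    have h' := dvd_add h (dvd_refl (m : ℤ))
    rwa [show (k : ℤ) - ((m : ℤ) - k) + m = k + k by ring] at h')
  simp only [if_pos c2, if_pos c5, if_neg c1, if_neg c3, if_neg c4, if_neg c6]
  norm_num

theorem sum_range_theta (F : ℕ → ℂ) (hF : ∀ i, i + 1 < T → F (2 * T - 1 - (i + 1)) = F (i + 1)) :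
    ∑ k ∈ Finset.range (2 * T - 1), F k = F 0 + 2 * ∑ i : Fin (T - 1), F ((i : ℕ) + 1) := by
  obtain ⟨-, -, -, hT7, -⟩ := S.q_facts
  rw [show 2 * T - 1 = (T - 1) + (T - 1) + 1 by omega, Finset.sum_range_succ', Finset.sum_range_add,
    ← Finset.sum_range_reflect (fun i => F (T - 1 + i + 1)) (T - 1),
    Finset.sum_congr rfl fun i hi => show F (T - 1 + (T - 1 - 1 - i) + 1) = F (i + 1) by
      rw [Finset.mem_range] at hi
      rw [← hF i (by omega)]
      congr 1
      omega,
    Finset.sum_range fun i => F (i + 1)]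
  ring

theorem isIntegral_sval {χ : G → ℂ} (hχ : IsCharacter G χ) : IsIntegral ℤ (S.sval χ) :=
  (hχ.isIntegral _).add (hχ.isIntegral _)

theorem conj_tu : ∀ v : L, (S.t * S.φ v)⁻¹ = S.t * S.φ v⁻¹ := fun v => by
  rw [mul_inv_rev, S.t_inv, ← map_inv, S.comm]

theorem sval_normSq_sum :
    ∑ χ : IrrCharacter G, Complex.normSq (S.sval (χ : G → ℂ)) =
      4 * ((3 ^ (2 * n + 1) : ℕ) : ℝ) := by
  classical
  haveI := S.finite_L
  obtain ⟨hu, hu1⟩ := S.u₀_mem
  set u := S.u₀
  have hpow : ∀ v ∈ S.D.U, (S.t * S.φ v) ^ 3 = S.t := fun v hv => by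
    rw [(show Commute S.t (S.φ v) from S.comm v).mul_pow, ← map_pow, S.D.U_cube v hv, map_one,
      mul_one, show (3 : ℕ) = 2 + 1 by rfl, pow_succ, sq, S.t_sq, one_mul]
  have hnc : ¬ IsConj (S.t * S.φ u) (S.t * S.φ u⁻¹) := by
    intro h
    obtain ⟨g, hg⟩ := isConj_iff.mp h
    have hgt : g * S.t * g⁻¹ = S.t := by
      calc g * S.t * g⁻¹ = g * (S.t * S.φ u) ^ 3 * g⁻¹ := by rw [hpow u hu]
        _ = (g * (S.t * S.φ u) * g⁻¹) ^ 3 := conj_pow.symm
        _ = S.t := by rw [hg, hpow _ (inv_mem hu)]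
    obtain ⟨l, hl⟩ := S.cent g (mul_inv_eq_iff_eq_mul.mp hgt)
    have hg' : g * S.φ u * g⁻¹ = S.φ u⁻¹ := by
      rw [conj_mul', hgt] at hg
      exact mul_left_cancel hg
    have hlu : l * u * l⁻¹ = u⁻¹ := by
      apply S.inj
      rcases hl with rfl | rfl
      · rw [map_mul, map_mul, map_inv, hg']
      · rw [map_mul, map_mul, map_inv, ← hg', show S.t * S.φ l * S.φ u * (S.t * S.φ l)⁻¹ =
          S.t * (S.φ l * S.φ u * (S.φ l)⁻¹) * S.t⁻¹ by group, ← map_inv, ← map_mul, ← map_mul,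
          S.comm, mul_inv_cancel_right]
    have hlB : l⁻¹ ∈ S.D.B := S.conj_mem_B hu hu1 (l := l⁻¹) (by
      rw [inv_inv, hlu]; exact inv_mem hu)
    exact hu1 (S.inverter_trivial hu (by simpa using inv_mem hlB) hlu)
  have hcent : ∀ v ∈ S.D.U, v ≠ 1 →
      Nat.card (centralizer ({S.t * S.φ v} : Set G)) = 2 * 3 ^ (2 * n + 1) := by
    intro v hv hv1
    rw [← S.D.card_U, two_mul, ← Nat.card_sum]
    symm
    have hc : ∀ w : L, w ∈ S.D.U → S.φ w * (S.t * S.φ v) = S.t * S.φ v * S.φ w := fun w hw => by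
      rw [← mul_assoc, ← S.comm, mul_assoc, mul_assoc, ← map_mul, S.D.U_comm w hw v hv, map_mul]
    refine Nat.card_eq_of_bijective (Sum.elim
      (fun w => ⟨S.φ w.1, mem_centralizer_singleton_iff.mpr (hc _ w.2)⟩)
      (fun w => ⟨S.t * S.φ w.1, mem_centralizer_singleton_iff.mpr (by
        rw [S.t_φ_mul, S.t_φ_mul, S.D.U_comm w.1 w.2 v hv])⟩)) ⟨?_, ?_⟩
    · rintro (⟨a, ha⟩ | ⟨a, ha⟩) (⟨b, hb⟩ | ⟨b, hb⟩) h <;> have h' := congrArg Subtype.val h <;>
        simp only [Sum.elim_inl, Sum.elim_inr] at h'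
      · obtain rfl := S.inj h'; rfl
      · exact absurd h'.symm (S.t_mul_φ_ne _ _)
      · exact absurd h' (S.t_mul_φ_ne _ _)
      · obtain rfl := S.inj (mul_left_cancel h'); rfl
    · rintro ⟨g, hg⟩
      have hg' := mem_centralizer_singleton_iff.mp hg
      have hgt : g * S.t = S.t * g := by
        have := commute_of_pow hg' 3
        rwa [hpow v hv] at this
      obtain ⟨l, hl⟩ := S.cent g hgt
      have hlv : l * v = v * l := by
        apply S.inj
        refine mul_left_cancel (a := S.t) ?_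
        rcases hl with rfl | rfl
        · rw [map_mul, map_mul, ← mul_assoc, S.comm, mul_assoc, hg', mul_assoc]
        · rw [map_mul, map_mul]
          rw [mul_assoc, ← mul_assoc (S.φ l), ← S.comm, mul_assoc, S.t_mul_t_mul,
            ← mul_assoc (S.t * S.φ v), mul_assoc S.t (S.φ v) S.t, ← S.comm, S.t_mul_t_mul] at hg'
          rw [hg']
      have hlU := S.D.cent_U v hv hv1 l hlv
      rcases hl with e | e
      · exact ⟨Sum.inl ⟨l, hlU⟩, Subtype.ext e.symm⟩
      · exact ⟨Sum.inr ⟨l, hlU⟩, Subtype.ext e.symm⟩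
  have hc1 := column_orthogonality (G := G) (S.t * S.φ u) (S.t * S.φ u)
  have hc2 := column_orthogonality (G := G) (S.t * S.φ u⁻¹) (S.t * S.φ u⁻¹)
  have hc3 := column_orthogonality (G := G) (S.t * S.φ u) (S.t * S.φ u⁻¹)
  have hc4 := column_orthogonality (G := G) (S.t * S.φ u⁻¹) (S.t * S.φ u)
  rw [if_pos (IsConj.refl _), hcent u hu hu1] at hc1
  rw [if_pos (IsConj.refl _), hcent _ (inv_mem hu) (inv_ne_one.mpr hu1)] at hc2
  rw [if_neg hnc] at hc3
  rw [if_neg (fun h => hnc h.symm)] at hc4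
  have key : ((∑ χ : IrrCharacter G, Complex.normSq (S.sval (χ : G → ℂ)) : ℝ) : ℂ) =
      ((4 * ((3 ^ (2 * n + 1) : ℕ) : ℝ) : ℝ) : ℂ) := by
    rw [Complex.ofReal_sum]
    simp only [← Complex.mul_conj, sval, map_add, add_mul, mul_add, Finset.sum_add_distrib]
    rw [hc1, hc2, hc3, hc4]
    push_cast
    ring
  exact_mod_cast key

variable [IsSimpleGroup G]

/-- The pairs of constituents of the remaining induced functions. -/
theorem exists_pairs (hna : ¬ IsMulCommutative G) (hI : NoInv G) :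
    ∃ P M : Fin (T - 1) → IrrCharacter G,
      (∀ i : Fin (T - 1), S.theta ((i : ℕ) + 1) = (P i : G → ℂ) - (M i : G → ℂ)) ∧
      (∀ i, P i ≠ M i) ∧ (∀ i j, i ≠ j → P i ≠ P j ∧ M i ≠ M j ∧ P i ≠ M j) ∧
      (∀ i, (P i : G → ℂ) ≠ (fun _ => 1) ∧ (M i : G → ℂ) ≠ fun _ => 1) ∧
      (∀ i, (P i : G → ℂ) S.t = ((3 ^ (2 * n + 1) : ℕ) : ℂ) + 1 ∧
        (M i : G → ℂ) S.t = -(((3 ^ (2 * n + 1) : ℕ) : ℂ) + 1)) := by
  classical
  haveI := S.finite_L
  obtain ⟨-, hq27, -, hT7, -⟩ := S.q_facts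
  have hlt : ∀ i : Fin (T - 1), (i : ℕ) + 1 < T := fun i => by have := i.2; omega
  have h : ∀ i : Fin (T - 1), ∃ μ ν : IrrCharacter G, μ ≠ ν ∧
      S.theta ((i : ℕ) + 1) = (μ : G → ℂ) - (ν : G → ℂ) := fun i =>
    exists_irr_sub_of_norm_two (S.isGen_theta _) (S.theta_one _) (by
      rw [S.inner_small (hlt i) (hlt i), if_pos rfl, if_neg (by omega)])
  choose P M hne he using h
  refine ⟨P, M, he, hne, fun i j hij => ?_, fun i => ?_, fun i => ?_⟩
  · have h0 := S.inner_small (hlt i) (hlt j)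
    rw [if_neg (fun h => hij (Fin.ext (by omega))), he i, he j] at h0
    have a : ∀ μ ν : IrrCharacter G, classInner (μ : G → ℂ) (ν : G → ℂ) = if μ = ν then 1 else 0 :=
      fun μ ν => by
        rw [classInner_irr μ.2 ν.2]
        exact if_congr Subtype.ext_iff.symm rfl rfl
    simp only [classInner_sub_left, classInner_sub_right, a] at h0
    refine ⟨fun e => ?_, fun e => ?_, fun e => ?_⟩
    · rw [if_pos e, if_neg (fun e' : M i = P j => hne i (e.trans e'.symm)),
        if_neg (fun e' : P i = M j => hne j (e.symm.trans e'))] at h0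
      split_ifs at h0 <;> norm_num at h0
    · rw [if_pos e, if_neg (fun e' : M i = P j => hne j (e'.symm.trans e)),
        if_neg (fun e' : P i = M j => hne i (e'.trans e.symm))] at h0
      split_ifs at h0 <;> norm_num at h0
    · rw [if_pos e, if_neg (fun e' : P i = P j => hne j (e'.symm.trans e)),
        if_neg (fun e' : M i = M j => hne i (e.trans e'.symm))] at h0
      split_ifs at h0 <;> norm_num at h0
  · have h0 := S.inner_theta_one ((i : ℕ) + 1)
    rw [if_neg (fun h => by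
      have := Nat.eq_zero_of_dvd_of_lt h (by have := hlt i; omega); omega), he i, classInner_sub_left,
      classInner_irr (P i).2 isIrrCharacter_one, classInner_irr (M i).2 isIrrCharacter_one] at h0
    refine ⟨fun e => ?_, fun e => ?_⟩
    · rw [if_pos e, if_neg (fun e' => hne i (Subtype.ext (e.trans e'.symm)))] at h0
      norm_num at h0
    · rw [if_pos e, if_neg (fun e' => hne i (Subtype.ext (e'.trans e.symm)))] at h0
      norm_num at h0
  · have hdiff := congrFun (he i) S.t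
    have hdeg := congrFun (he i) 1
    rw [S.theta_t, Pi.sub_apply] at hdiff
    rw [S.theta_one, Pi.sub_apply] at hdeg
    have hp := S.pair_equation hna hI ((i : ℕ) + 1)
    rw [if_neg (fun h => by
      have := Nat.eq_zero_of_dvd_of_lt h (by have := hlt i; omega); omega), mul_zero, he i] at hp
    have hN : (numInvol G : ℂ) ≠ 0 := by
      haveI : Nonempty {x : G // IsInvol x} := ⟨⟨S.t, S.t_invol⟩⟩
      exact Nat.cast_ne_zero.mpr Nat.card_pos.ne'
    have hp' := (mul_eq_zero.mp hp).resolve_left hN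
    simp only [classInner_sub_left, sub_mul, Finset.sum_sub_distrib] at hp'
    rw [Finset.sum_eq_single (P i) (fun χ _ h => by
        rw [classInner_irr_ne (P i).2 χ.2 (fun e => h (Subtype.ext e.symm)), zero_mul]) (by simp),
      Finset.sum_eq_single (M i) (fun χ _ h => by
        rw [classInner_irr_ne (M i).2 χ.2 (fun e => h (Subtype.ext e.symm)), zero_mul]) (by simp),
      classInner_irr_self (P i).2, classInner_irr_self (M i).2, one_mul, one_mul,
      sub_eq_zero.mp hdeg.symm, ← sub_div, div_eq_zero_iff] at hp'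
    have hsq := hp'.resolve_right (M i).2.apply_one_ne_zero
    have hq0 : (2 : ℂ) * (((3 ^ (2 * n + 1) : ℕ) : ℂ) + 1) ≠ 0 := mul_ne_zero two_ne_zero (by
      exact_mod_cast Nat.succ_ne_zero (3 ^ (2 * n + 1)))
    have hsum : (P i : G → ℂ) S.t + (M i : G → ℂ) S.t = 0 := by
      refine mul_right_cancel₀ hq0 ?_
      rw [zero_mul, ← hsq, hdiff]
      ring
    exact ⟨by linear_combination hsum / 2 - hdiff / 2, by linear_combination hsum / 2 + hdiff / 2⟩

/-- The three constituents exist. -/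
theorem exists_trio (hna : ¬ IsMulCommutative G) (hI : NoInv G) : Nonempty (Trio S) := by
  classical
  haveI := S.finite_L
  obtain ⟨-, hq27, -, hT7, -⟩ := S.q_facts
  obtain ⟨hm0, hm13, hqm⟩ := S.m_facts
  obtain ⟨P, M, he, hne, hdisj, hone, hyPM⟩ := S.exists_pairs hna hI
  set one : IrrCharacter G := ⟨fun _ => 1, isIrrCharacter_one⟩ with honedef
  have a : ∀ μ ν : IrrCharacter G, classInner (μ : G → ℂ) (ν : G → ℂ) = if μ = ν then 1 else 0 :=
    fun μ ν => by
      rw [classInner_irr μ.2 ν.2]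
      exact if_congr Subtype.ext_iff.symm rfl rfl
  -- the vector of `θ₀ - 1`
  have hgen0 := S.isGen_theta 0
  choose c hc using fun χ : IrrCharacter G =>
    hgen0.exists_int_classInner χ.2.isCharacter.isGeneralized
  set v : IrrCharacter G → ℤ := fun χ => c χ - if χ = one then 1 else 0 with hv
  have hc1 : c one = 1 := by
    have h := hc one
    rw [S.inner_theta_one 0, if_pos (dvd_zero _)] at h
    exact_mod_cast h.symm
  have hnorm : v ⬝ᵥ v = 3 := by
    have h4 := S.inner_small (i := 0) (j := 0) (by omega) (by omega)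
    simp only [if_true] at h4
    rw [classInner_eq_sum hgen0.isClassFunction] at h4
    simp only [hc, map_intCast] at h4
    have h4' : ∑ χ, c χ * c χ = 4 := by exact_mod_cast h4
    simp only [dotProduct, hv, sub_mul, mul_sub, Finset.sum_sub_distrib, h4', ite_mul, mul_ite,
      one_mul, mul_one, zero_mul, mul_zero, Finset.sum_ite_eq', Finset.mem_univ, if_true, hc1]
    norm_num
  obtain ⟨A, B, C, hAB, hAC, hBC, hsupp⟩ := Finset.card_eq_three.mp (norm_three_card hnorm)
  set X : Fin 3 → IrrCharacter G := ![A, B, C] with hX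
  have hmemX : ∀ χ, v χ ≠ 0 ↔ ∃ i, χ = X i := fun χ => by
    rw [← mem_vsupp, hsupp]
    simp [hX, Fin.exists_fin_succ]
  have hXne1 : ∀ i, X i ≠ one := fun i e => by
    have h := (hmemX (X i)).mpr ⟨i, rfl⟩
    rw [e] at h
    simp [hv, hc1] at h
  have hsign : ∀ i, c (X i) = 1 ∨ c (X i) = -1 := fun i => by
    have h := (hmemX (X i)).mpr ⟨i, rfl⟩
    have h2 := norm_three_entry hnorm (X i)
    simp only [hv, if_neg (hXne1 i), sub_zero] at h h2
    omega
  have hcz : ∀ χ, χ ≠ one → (∀ i, χ ≠ X i) → c χ = 0 := fun χ h1 h2 => by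
    by_contra hh
    obtain ⟨i, hi⟩ := (hmemX χ).mp (by simpa [hv, h1] using hh)
    exact h2 i hi
  have hinj : Function.Injective X := by
    intro i j e
    fin_cases i <;> fin_cases j <;> simp_all [hX, eq_comm]
  -- coefficients of the other functions
  have hgP : ∀ (χ : IrrCharacter G) (j : Fin (T - 1)),
      classInner (S.theta ((j : ℕ) + 1)) (χ : G → ℂ) =
        (if P j = χ then 1 else 0) - if M j = χ then 1 else 0 := fun χ j => by
    rw [he j, classInner_sub_left, a, a]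
  have hgsum : ∀ χ : IrrCharacter G,
      ∑ k ∈ Finset.range (2 * T - 1), classInner (S.theta k) (χ : G → ℂ) =
        (c χ : ℂ) + 2 * ∑ j : Fin (T - 1), ((if P j = χ then 1 else 0) - if M j = χ then 1 else 0) := by
    intro χ
    rw [S.sum_range_theta (fun k => classInner (S.theta k) (χ : G → ℂ))
      (fun i hi => by rw [S.theta_reflect hi]), hc]
    simp only [hgP]
  have hPsum : ∀ i, ∑ j : Fin (T - 1), ((if P j = P i then (1 : ℂ) else 0) - if M j = P i then 1 else 0)
      = 1 := fun i => by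
    rw [Finset.sum_eq_single i (fun j _ hj => by
      rw [if_neg (hdisj j i hj).1, if_neg (fun e => (hdisj i j hj.symm).2.2 e.symm), sub_zero])
      (by simp), if_pos rfl, if_neg (fun e => hne i e.symm), sub_zero]
  have hMsum : ∀ i, ∑ j : Fin (T - 1), ((if P j = M i then (1 : ℂ) else 0) - if M j = M i then 1 else 0)
      = -1 := fun i => by
    rw [Finset.sum_eq_single i (fun j _ hj => by
      rw [if_neg (hdisj j i hj).2.2, if_neg (hdisj j i hj).2.1, sub_zero])
      (by simp), if_neg (hne i), if_pos rfl, zero_sub]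
  have hQ : ((3 ^ (2 * n + 1) : ℕ) : ℂ) = 2 * ((2 * T - 1 : ℕ) : ℂ) + 1 := by exact_mod_cast hqm
  have hsvalP : ∀ i, ((2 * T - 1 : ℕ) : ℂ) * S.sval (P i : G → ℂ) =
      2 * ((2 * T - 1 : ℕ) : ℂ) * ((c (P i) : ℂ) + 1) + c (P i) := fun i => by
    have h := S.value_relation (P i).2.isCharacter
    rw [hgsum, hPsum, (hyPM i).1, hQ] at h
    linear_combination -h
  have hsvalM : ∀ i, ((2 * T - 1 : ℕ) : ℂ) * S.sval (M i : G → ℂ) =
      2 * ((2 * T - 1 : ℕ) : ℂ) * ((c (M i) : ℂ) - 1) + c (M i) := fun i => by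
    have h := S.value_relation (M i).2.isCharacter
    rw [hgsum, hMsum, (hyPM i).2, hQ] at h
    linear_combination -h
  have hnotX : ∀ (χ : IrrCharacter G) (b : ℤ), ((2 * T - 1 : ℕ) : ℂ) * S.sval (χ : G → ℂ) =
      2 * ((2 * T - 1 : ℕ) : ℂ) * b + c χ → c χ = 1 ∨ c χ = -1 → False := by
    intro χ b h hχ
    obtain ⟨j, hj⟩ := exists_int_of_mul_eq (S.isIntegral_sval χ.2.isCharacter)
      (a := ((2 * T - 1 : ℕ) : ℤ)) (b := 2 * ((2 * T - 1 : ℕ) : ℤ) * b + c χ) (by omega)
      (by push_cast; exact h)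
    rw [hj] at h
    have h' : ((2 * T - 1 : ℕ) : ℤ) * j = 2 * ((2 * T - 1 : ℕ) : ℤ) * b + c χ := by exact_mod_cast h
    have hd : ((2 * T - 1 : ℕ) : ℤ) ∣ c χ := ⟨j - 2 * b, by linear_combination -h'⟩
    have := Int.le_of_dvd one_pos (show ((2 * T - 1 : ℕ) : ℤ) ∣ 1 by
      rcases hχ with e | e <;> rw [e] at hd
      · exact hd
      · exact dvd_neg.mp hd)
    omega
  have hXP : ∀ i j, X i ≠ P j ∧ X i ≠ M j := fun i j =>
    ⟨fun e => hnotX _ (c (P j) + 1) (by push_cast; exact hsvalP j) (e ▸ hsign i),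
     fun e => hnotX _ (c (M j) - 1) (by push_cast; exact hsvalM j) (e ▸ hsign i)⟩
  have hcP : ∀ j, c (P j) = 0 ∧ c (M j) = 0 := fun j =>
    ⟨hcz _ (fun e => (hone j).1 (congrArg Subtype.val e)) fun i e => (hXP i j).1 e.symm,
     hcz _ (fun e => (hone j).2 (congrArg Subtype.val e)) fun i e => (hXP i j).2 e.symm⟩
  -- the expansion
  have hexp : ∀ g, S.theta 0 g = 1 + ∑ i, (c (X i) : ℂ) * (X i : G → ℂ) g := by
    intro g
    have h := congrFun (eq_sum_classInner hgen0.isClassFunction) g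
    simp only [Finset.sum_apply, Pi.smul_apply, smul_eq_mul, hc] at h
    rw [h, ← Finset.sum_subset (Finset.subset_univ (insert one (Finset.univ.image X))) fun χ _ hχ => by
      simp only [Finset.mem_insert, Finset.mem_image, Finset.mem_univ, true_and, not_or, not_exists] at hχ
      rw [hcz χ hχ.1 fun i e => hχ.2 i e.symm]; simp,
      Finset.sum_insert (by simpa using hXne1), Finset.sum_image hinj.injOn, hc1]
    simp [honedef]
  choose d e hd hde using fun i => invol_value (X i).2.isCharacter S.t_sq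
  set xs := fun i => c (X i) * d i
  set ys := fun i => c (X i) * (d i - 2 * e i)
  have hgX : ∀ i, ∑ j : Fin (T - 1), ((if P j = X i then (1 : ℂ) else 0) - if M j = X i then 1 else 0)
      = 0 := fun i => Finset.sum_eq_zero fun j _ => by
    rw [if_neg (fun e => (hXP i j).1 e.symm), if_neg (fun e => (hXP i j).2 e.symm), sub_zero]
  have hrel : ∀ i, ((2 * T - 1 : ℕ) : ℂ) * ((c (X i) : ℂ) * S.sval (X i : G → ℂ)) =
      ((3 ^ (2 * n + 1) : ℕ) : ℂ) - ys i := fun i => by
    have h := S.value_relation (X i).2.isCharacter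
    rw [hgsum, hgX, hde i] at h
    have hcc : (c (X i) : ℂ) * c (X i) = 1 := by rcases hsign i with e | e <;> rw [e] <;> norm_num
    simp only [ys]
    push_cast
    push_cast at h
    linear_combination -(c (X i) : ℂ) * h + (((3 : ℂ) ^ (2 * n + 1))) * hcc
  choose ss hss using fun i => exists_int_of_mul_eq
    (((isIntegral_algebraMap (R := ℤ) (A := ℂ) (x := c (X i))).mul (S.isIntegral_sval (X i).2.isCharacter)))
    (a := ((2 * T - 1 : ℕ) : ℤ)) (b := (3 : ℤ) ^ (2 * n + 1) - ys i) (by omega) (by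
      have := hrel i; push_cast at this ⊢; simpa using this)
  have hrelz : ∀ i, ys i + (2 * (T : ℤ) - 1) * ss i = (3 : ℤ) ^ (2 * n + 1) := fun i => by
    have h := hrel i
    have hss' : (c (X i) : ℂ) * S.sval (X i : G → ℂ) = ss i := by simpa using hss i
    rw [hss'] at h
    have h' : ((2 * T - 1 : ℕ) : ℤ) * ss i = ((3 ^ (2 * n + 1) : ℕ) : ℤ) - ys i := by exact_mod_cast h
    push_cast [Nat.cast_sub (show 1 ≤ 2 * T by omega)] at h'
    linear_combination h'
  have hx : ∀ i, (c (X i) : ℂ) * (X i : G → ℂ) 1 = xs i := fun i => by simp [xs, hd]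
  have hy : ∀ i, (c (X i) : ℂ) * (X i : G → ℂ) S.t = ys i := fun i => by simp [ys, hde]
  have hs : ∀ i, (c (X i) : ℂ) * S.sval (X i : G → ℂ) = ss i := fun i => by simpa using hss i
  have hnz : ∀ i, xs i ≠ 0 := fun i h => by
    have h0 := hx i
    rw [h, Int.cast_zero] at h0
    rcases mul_eq_zero.mp h0 with h1 | h1
    · rcases hsign i with e | e <;> rw [e] at h1 <;> norm_num at h1
    · exact (X i).2.apply_one_ne_zero h1
  refine ⟨{
    X := X, ε := fun i => c (X i), x := xs, y := ys, s := ss, inj := hinj,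
    ne_one := fun i e => hXne1 i (Subtype.ext e), sign := hsign, hx := hx, hy := hy, hs := hs,
    theta_zero := hexp, coeff := fun i => hc _,
    coeff_zero := fun χ h1 h2 => by rw [hc, hcz χ (fun e => h1 (congrArg Subtype.val e)) h2, Int.cast_zero],
    nz := hnz, parity := fun i => ⟨c (X i) * e i, by simp only [xs, ys]; ring⟩, relation := hrelz,
    deg := ?_, val := ?_, sum_s := ?_, pair := ?_, budget := ?_ }⟩
  · have h := hexp 1
    rw [S.theta_one, Fin.sum_univ_three, hx, hx, hx] at h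
    have : ((1 + xs 0 + xs 1 + xs 2 : ℤ) : ℂ) = 0 := by push_cast; linear_combination -h
    exact_mod_cast this
  · have h := hexp S.t
    rw [S.theta_t, Fin.sum_univ_three, hy, hy, hy] at h
    have : ((1 + ys 0 + ys 1 + ys 2 : ℤ) : ℂ) = ((2 * ((3 : ℤ) ^ (2 * n + 1) + 1) : ℤ) : ℂ) := by
      push_cast at h ⊢; linear_combination -h
    exact_mod_cast this
  · obtain ⟨hu, hu1⟩ := S.u₀_mem
    have h1 := hexp (S.t * S.φ S.u₀)
    have h2 := hexp (S.t * S.φ S.u₀⁻¹)
    rw [S.theta_three 0 hu hu1, Fin.sum_univ_three] at h1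
    rw [S.theta_three 0 (inv_mem hu) (inv_ne_one.mpr hu1), Fin.sum_univ_three] at h2
    have : ((ss 0 + ss 1 + ss 2 : ℤ) : ℂ) = 2 := by
      push_cast
      rw [← hs, ← hs, ← hs]
      simp only [sval]
      linear_combination -h1 - h2
    exact_mod_cast this
  · have h := S.pair_equation hna hI 0
    rw [if_pos (dvd_zero _), ← Finset.sum_subset (Finset.subset_univ (insert one (Finset.univ.image X)))
      (fun χ _ hχ => by
        simp only [Finset.mem_insert, Finset.mem_image, Finset.mem_univ, true_and, not_or, not_exists] at hχ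
        rw [hc, hcz χ hχ.1 fun i e => hχ.2 i e.symm]; simp),
      Finset.sum_insert (by simpa using hXne1), Finset.sum_image hinj.injOn, Fin.sum_univ_three] at h
    simp only [hc, hc1, Int.cast_one, one_mul] at h
    simp only [honedef, one_pow, div_one] at h
    have key : ∀ i, (c (X i) : ℂ) * ((X i : G → ℂ) S.t ^ 2 / (X i : G → ℂ) 1) =
        (ys i : ℂ) ^ 2 / (xs i : ℂ) := fun i => by
      rw [← hy i, ← hx i]
      rcases hsign i with e | e <;> rw [e] <;> push_cast <;> field_simp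
    rw [key, key, key, hQ] at h
    have hq' : ((3 : ℂ)) ^ (2 * n + 1) = 2 * ((2 * T - 1 : ℕ) : ℂ) + 1 := by rw [← hQ]; norm_cast
    have h0 : (xs 0 : ℂ) ≠ 0 := by exact_mod_cast hnz 0
    have h1 : (xs 1 : ℂ) ≠ 0 := by exact_mod_cast hnz 1
    have h2 : (xs 2 : ℂ) ≠ 0 := by exact_mod_cast hnz 2
    field_simp at h
    rw [← Int.cast_inj (α := ℂ)]
    push_cast
    rw [hq']
    linear_combination h
  · let f : Unit ⊕ Fin 3 ⊕ Fin (T - 1) ⊕ Fin (T - 1) → IrrCharacter G :=
      Sum.elim (fun _ => one) (Sum.elim X (Sum.elim P M))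
    have hf : Function.Injective f := by
      rintro (u | i | j | j) (u' | i' | j' | j') e <;> simp only [f, Sum.elim_inl, Sum.elim_inr] at e
      · rfl
      · exact absurd e.symm (hXne1 i')
      · exact absurd (congrArg Subtype.val e.symm) (hone j').1
      · exact absurd (congrArg Subtype.val e.symm) (hone j').2
      · exact absurd e (hXne1 i)
      · rw [hinj e]
      · exact absurd e (hXP i j').1
      · exact absurd e (hXP i j').2
      · exact absurd (congrArg Subtype.val e) (hone j).1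
      · exact absurd e.symm (hXP i' j).1
      · rw [show j = j' from by_contra fun h => (hdisj j j' h).1 e]
      · by_cases h : j = j'
        · exact absurd (h ▸ e) (hne j')
        · exact absurd e (hdisj j j' h).2.2
      · exact absurd (congrArg Subtype.val e) (hone j).2
      · exact absurd e.symm (hXP i' j).2
      · by_cases h : j' = j
        · exact absurd (h ▸ e.symm) (hne j)
        · exact absurd e.symm (hdisj j' j h).2.2
      · rw [show j = j' from by_contra fun h => (hdisj j j' h).2.1 e]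
    have hle : ∑ p, Complex.normSq (S.sval (f p : G → ℂ)) ≤
        4 * ((3 ^ (2 * n + 1) : ℕ) : ℝ) := by
      rw [← S.sval_normSq_sum,
        ← Finset.sum_image (f := fun χ : IrrCharacter G => Complex.normSq (S.sval (χ : G → ℂ))) hf.injOn]
      exact Finset.sum_le_sum_of_subset_of_nonneg (Finset.subset_univ _)
        fun _ _ _ => Complex.normSq_nonneg _
    have hmC : ((2 * T - 1 : ℕ) : ℂ) ≠ 0 := Nat.cast_ne_zero.mpr hm0
    have hPs : ∀ j, S.sval (P j : G → ℂ) = 2 ∧ S.sval (M j : G → ℂ) = -2 := fun j => by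
      have h1 := hsvalP j
      have h2 := hsvalM j
      rw [(hcP j).1, Int.cast_zero] at h1
      rw [(hcP j).2, Int.cast_zero] at h2
      exact ⟨mul_left_cancel₀ hmC (by linear_combination h1), mul_left_cancel₀ hmC (by linear_combination h2)⟩
    have hXs : ∀ i, Complex.normSq (S.sval (X i : G → ℂ)) = ((ss i : ℝ)) ^ 2 := fun i => by
      have : S.sval (X i : G → ℂ) = ((c (X i) * ss i : ℤ) : ℂ) := by
        push_cast
        rw [← hs i, ← mul_assoc]
        rcases hsign i with e | e <;> rw [e] <;> norm_num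
      rw [this, Complex.normSq_intCast]
      push_cast
      rcases hsign i with e | e <;> rw [e] <;> norm_num <;> ring
    have hone_s : S.sval (one : G → ℂ) = 2 := by simp [sval, honedef]; norm_num
    simp only [Fintype.sum_sum_type, f, Sum.elim_inl, Sum.elim_inr, hXs, hone_s,
      (hPs _).1, (hPs _).2, Fin.sum_univ_three, Finset.sum_const, Finset.card_univ, Fintype.card_fin,
      Complex.normSq_neg, Complex.normSq_ofNat, Fintype.card_unit] at hle
    norm_num at hle
    have hT : ((3 : ℝ)) ^ (2 * n + 1) + 1 = 4 * T := by exact_mod_cast S.hT.symm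
    have : (((ss 0 ^ 2 + ss 1 ^ 2 + ss 2 ^ 2 : ℤ)) : ℝ) ≤ ((8 * (T : ℤ) : ℤ) : ℝ) := by
      rw [Nat.cast_sub (show 1 ≤ T by omega)] at hle
      push_cast at hle ⊢
      linarith
    exact_mod_cast this

end Setup

end Cfsg.Lib.ReeType
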