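import Cfsg.Agent.Lib.ReeType.Decomp

/-!
# The functions induced from the torus `V × ⟨y⟩`
-/

set_option autoImplicit false
set_option linter.unusedSectionVars false
set_option linter.unusedVariables false
set_option linter.style.haveILetI false

namespace Cfsg.Lib.ReeType

open Subgroup Cfsg Cfsg.Lib.Char
open scoped ComplexConjugate

universe u

theorem classInner_hom {H : Type u} [Group H] [Fintype H] (α β : H →* ℂˣ) [Decidable (α = β)] :
    classInner (fun h => (α h : ℂ)) (fun h => (β h : ℂ)) = if α = β then 1 else 0 := by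
  split_ifs with h
  · subst h; exact classInner_irr_self (isIrrCharacter_linear α)
  · exact classInner_irr_ne (isIrrCharacter_linear α) (isIrrCharacter_linear β) fun e =>
      h (MonoidHom.ext fun x => Units.ext (congrFun e x))

namespace Setup

variable {G L : Type u} [Group G] [Group L] [Fintype G] {n T : ℕ} (S : Setup G L n T)

/-- An element of order three of the normalizer of the torus. -/
structure Rot where
  ρ : G
  mem : ρ ∈ S.Nm
  cube : ρ * ρ * ρ = 1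
  h1 : ρ * S.t * ρ⁻¹ = S.φ S.D.z
  h2 : ρ * S.φ S.D.z * ρ⁻¹ = S.t * S.φ S.D.z
  h3 : ρ * (S.t * S.φ S.D.z) * ρ⁻¹ = S.t

include S

theorem exists_chiT : ∃ χ : S.Tsub →* ℂˣ, orderOf (χ ⟨S.φ S.D.y, S.φy_mem⟩) = T := by
  have hm : T ≠ 0 := by have := S.q_facts; omega
  obtain ⟨ζ, hζ⟩ : ∃ ζ : ℂˣ, orderOf ζ = T := by
    have h := Complex.isPrimitiveRoot_exp T hm
    exact ⟨(h.isUnit hm).unit, by rw [← orderOf_units, IsUnit.unit_spec, ← h.eq_orderOf]⟩
  refine ⟨monoidHomOfForallMemZpowers (g := (⟨S.φ S.D.y, S.φy_mem⟩ : S.Tsub)) (g' := ζ) ?_ ?_, ?_⟩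
  · rintro ⟨x, hx⟩
    obtain ⟨k, rfl⟩ := mem_zpowers_iff.mp hx
    exact mem_zpowers_iff.mpr ⟨k, Subtype.ext (by simp)⟩
  · rw [hζ, orderOf_mk, S.orderOf_φy]
  · rw [monoidHomOfForallMemZpowers_apply_gen, hζ]

/-- A faithful linear character of the cyclic part of the torus. -/
noncomputable def chiT : S.Tsub →* ℂˣ := S.exists_chiT.choose

theorem chiT_injective : Function.Injective S.chiT := by
  refine (injective_iff_map_eq_one _).mpr ?_
  rintro ⟨s, hs⟩ h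
  obtain ⟨k, rfl⟩ := mem_zpowers_iff.mp hs
  rw [show (⟨S.φ S.D.y ^ k, hs⟩ : S.Tsub) = ⟨S.φ S.D.y, S.φy_mem⟩ ^ k from Subtype.ext (by simp),
    map_zpow, ← orderOf_dvd_iff_zpow_eq_one,
    show orderOf (S.chiT ⟨S.φ S.D.y, S.φy_mem⟩) = T from S.exists_chiT.choose_spec] at h
  refine Subtype.ext ?_
  show S.φ S.D.y ^ k = 1
  rw [← orderOf_dvd_iff_zpow_eq_one, S.orderOf_φy]
  exact h

theorem coe_K_comm (x y : S.K) : (x : G) * y = y * x := S.K_comm x.2 y.2

/-- The character of the torus which is trivial on the four-group. -/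
noncomputable def lam : S.K →* ℂˣ :=
  MonoidHom.mk' (fun x => S.chiT ⟨(x : G) * x, S.sq_mem_Tsub x.2⟩) fun a b => by
    rw [← map_mul]
    congr 1
    refine Subtype.ext ?_
    show (a : G) * b * (a * b) = a * a * (b * b)
    calc (a : G) * b * (a * b) = a * ((b : G) * a) * b := by group
      _ = a * a * (b * b) := by rw [S.coe_K_comm b a]; group

theorem lam_of_sq {x : S.K} (h : (x : G) * x = 1) : S.lam x = 1 := by
  show S.chiT _ = 1
  rw [← map_one S.chiT]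
  exact congrArg _ (Subtype.ext h)

theorem pow_T_inV (x : S.K) : S.InV ((x : G) ^ T) := by
  refine S.inV_iff.mpr ⟨pow_mem x.2 T, ?_⟩
  obtain ⟨v, hv, τ, hτ, e⟩ := S.exists_mul_of_mem_K x.2
  rw [e, (show Commute v τ from S.K_comm hv.mem_K (S.Tsub_le hτ)).mul_pow, S.Tsub_pow hτ, mul_one,
    ← (Commute.refl v).mul_pow, hv.sq, one_pow]

/-- The character of the torus with kernel `⟨t⟩ × ⟨y⟩`. -/
noncomputable def nu₀ : S.K →* ℂˣ := by
  classical
  refine MonoidHom.mk' (fun x => if (x : G) ^ T = 1 ∨ (x : G) ^ T = S.t then 1 else -1) fun a b => ?_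
  obtain ⟨h1, h2, h3, h4, h5, h6⟩ := S.tz_facts
  have hzt : S.φ S.D.z * S.t = S.t * S.φ S.D.z := (S.comm _).symm
  have hzz : S.φ S.D.z * S.φ S.D.z = 1 := by rw [← map_mul, S.D.z_sq, map_one]
  have e : ((a * b : S.K) : G) ^ T = (a : G) ^ T * (b : G) ^ T :=
    (show Commute (a : G) b from S.coe_K_comm a b).mul_pow T
  rw [e]
  have hzt' : ∀ x, S.φ S.D.z * (S.t * x) = S.t * (S.φ S.D.z * x) := fun x => by
    rw [← mul_assoc, hzt, mul_assoc]
  rcases S.pow_T_inV a with ha | ha | ha | ha <;> rcases S.pow_T_inV b with hb | hb | hb | hb <;>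
    simp [ha, hb, h1, h2, h3, h4, h5, hzt, hzt', hzz, S.t_sq, S.t_mul_t_mul, mul_assoc]

/-- The two linear characters of the four-group part. -/
noncomputable def nu : Bool → (S.K →* ℂˣ)
  | false => 1
  | true => S.nu₀

theorem nu_Tsub (b : Bool) {x : S.K} (hx : (x : G) ∈ S.Tsub) : S.nu b x = 1 := by
  classical
  cases b
  · rfl
  · show (if (x : G) ^ T = 1 ∨ (x : G) ^ T = S.t then (1 : ℂˣ) else -1) = 1
    rw [if_pos (Or.inl (S.Tsub_pow hx))]

theorem nu₀_values : S.nu₀ ⟨S.t, S.t_mem_K⟩ = 1 ∧ S.nu₀ ⟨S.φ S.D.z, S.φz_mem_K⟩ = -1 ∧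
    S.nu₀ ⟨S.t * S.φ S.D.z, S.tz_inV.mem_K⟩ = -1 := by
  classical
  obtain ⟨h1, h2, h3, h4, h5, h6⟩ := S.tz_facts
  have hpow : ∀ v : G, v * v = 1 → v ^ T = v := fun v hv => by
    obtain ⟨c, hc⟩ : Odd T := Nat.odd_iff.mpr S.q_facts.2.2.1
    rw [hc, pow_succ, pow_mul, sq, hv, one_pow, one_mul]
  refine ⟨?_, ?_, ?_⟩ <;>
    show (if _ ^ T = 1 ∨ _ ^ T = S.t then (1 : ℂˣ) else -1) = _
  · rw [hpow _ S.t_inV.sq, if_pos (Or.inr rfl)]
  · rw [hpow _ S.z_inV.sq, if_neg (fun h => h.elim h2 h4)]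
  · rw [hpow _ S.tz_inV.sq, if_neg (fun h => h.elim h3 h5)]

/-- The element of `K` given by a power of `φ y`. -/
def yK : S.K := ⟨S.φ S.D.y, S.Tsub_le S.φy_mem⟩

theorem yK_coe : (S.yK : G) = S.φ S.D.y := rfl

theorem nu_yK (b : Bool) : S.nu b S.yK = 1 := S.nu_Tsub b S.φy_mem

theorem lam_pow_eq (k : ℕ) (x : S.K) :
    S.lam x ^ k = S.chiT ⟨((x : G) * x) ^ k, pow_mem (S.sq_mem_Tsub x.2) k⟩ := by
  show S.chiT _ ^ k = _
  rw [← map_pow]
  rfl

theorem lam_yK_ne {j : ℕ} (hj0 : j ≠ 0) (hj : j < T) : S.lam S.yK ^ j ≠ 1 := by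
  intro h
  rw [S.lam_pow_eq, ← map_one S.chiT] at h
  have h' : (S.φ S.D.y * S.φ S.D.y) ^ j = 1 := congrArg Subtype.val (S.chiT_injective h)
  rw [← sq, ← pow_mul, ← orderOf_dvd_iff_pow_eq_one, S.orderOf_φy] at h'
  have hco : Nat.Coprime T 2 := (Nat.prime_two.coprime_iff_not_dvd.mpr (by
    have := S.q_facts.2.2.1; omega)).symm
  exact hj0 (Nat.eq_zero_of_dvd_of_lt (hco.dvd_of_dvd_mul_left h') hj)

/-- The function inducing `ψ`. -/
noncomputable def fpsi (b : Bool) (k : ℕ) : S.K → ℂ :=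
  fun x => (S.nu b x : ℂ) - ((S.nu b * S.lam ^ k) x : ℂˣ)

theorem fpsi_of_sq (b : Bool) (k : ℕ) {x : S.K} (h : (x : G) * x = 1) : S.fpsi b k x = 0 := by
  simp [fpsi, S.lam_of_sq h]

theorem isGen_fpsi (b : Bool) (k : ℕ) : IsGeneralizedCharacter S.K (S.fpsi b k) :=
  ⟨_, _, (isIrrCharacter_linear (S.nu b)).isCharacter,
    (isIrrCharacter_linear (S.nu b * S.lam ^ k)).isCharacter, rfl⟩

/-- The induced function. -/
noncomputable def psi (b : Bool) (k : ℕ) : G → ℂ := indFun S.K (S.fpsi b k)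

theorem isGen_psi (b : Bool) (k : ℕ) : IsGeneralizedCharacter G (S.psi b k) :=
  isGeneralizedCharacter_indFun S.K (S.isGen_fpsi b k)

theorem psi_invol (b : Bool) (k : ℕ) {x : G} (hx : x * x = 1) : S.psi b k x = 0 := by
  classical
  exact indFun_invol_eq_zero S.K (fun h hh => S.fpsi_of_sq b k hh) hx

/-- Conjugation by an element of the normalizer. -/
def conjK {g : G} (hg : g ∈ S.Nm) : S.K →* S.K :=
  MonoidHom.mk' (fun x => ⟨g⁻¹ * x * g, by
      have h := (mem_normalizer_iff.mp (inv_mem hg) (x : G)).mp x.2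
      rwa [inv_inv] at h⟩)
    fun a b => Subtype.ext (by simp only [Subgroup.coe_mul]; group)

theorem conjK_coe {g : G} (hg : g ∈ S.Nm) (x : S.K) : (S.conjK hg x : G) = g⁻¹ * x * g := rfl

variable [IsSimpleGroup G] (hna : ¬ IsMulCommutative G) (hI : NoInv G) (R : S.Rot)
include hna hI R

theorem rep_mem (p : Fin 3 × Bool) : S.rep R.ρ p ∈ S.Nm :=
  mul_mem (pow_mem R.mem _) (by
    split_ifs
    exacts [S.ι_mem_Nm hna hI, one_mem _])

/-- Conjugation by the `p`-th representative. -/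
def cp (p : Fin 3 × Bool) : S.K →* S.K := S.conjK (S.rep_mem hna hI R p)

theorem cp_coe (p : Fin 3 × Bool) (x : S.K) :
    (S.cp hna hI R p x : G) = (S.rep R.ρ p)⁻¹ * x * S.rep R.ρ p := rfl

theorem rep_coset {g : G} {p q : Fin 3 × Bool} (hg : g ∈ S.K)
    (e : S.rep R.ρ p = g * S.rep R.ρ q) : p = q := by
  have hk : (S.rep R.ρ q)⁻¹ * g * S.rep R.ρ q ∈ S.K := (S.conjK (S.rep_mem hna hI R q) ⟨g, hg⟩).2
  exact (S.rep_injective hna hI R.mem R.cube R.h1 R.h2 (one_mem _) hk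
    (show S.rep R.ρ p * 1 = S.rep R.ρ q * ((S.rep R.ρ q)⁻¹ * g * S.rep R.ρ q) by rw [e]; group)).1

theorem rep_eq_of_conj {p q : Fin 3 × Bool} {τ : G} (hτ : τ ∈ S.Tsub) (hτ1 : τ ≠ 1)
    (e : (S.rep R.ρ p)⁻¹ * τ * S.rep R.ρ p = (S.rep R.ρ q)⁻¹ * τ * S.rep R.ρ q) : p = q := by
  refine S.rep_coset hna hI R (g := S.rep R.ρ p * (S.rep R.ρ q)⁻¹) ?_ (by group)
  refine S.cent_torus hna hI hτ hτ1 ?_
  calc S.rep R.ρ p * (S.rep R.ρ q)⁻¹ * τ =
      S.rep R.ρ p * ((S.rep R.ρ q)⁻¹ * τ * S.rep R.ρ q) * (S.rep R.ρ q)⁻¹ := by group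
    _ = τ * (S.rep R.ρ p * (S.rep R.ρ q)⁻¹) := by rw [← e]; group

theorem rep_id : S.rep R.ρ (0, false) = 1 := by simp [rep]

theorem psi_on_K (b : Bool) (k : ℕ) (x : S.K) :
    S.psi b k x = ∑ p : Fin 3 × Bool, S.fpsi b k (S.cp hna hI R p x) := by
  classical
  by_cases hx : (x : G) * x = 1
  · rw [S.psi_invol b k hx, eq_comm]
    refine Finset.sum_eq_zero fun p _ => S.fpsi_of_sq b k ?_
    rw [S.cp_coe]
    calc (S.rep R.ρ p)⁻¹ * x * S.rep R.ρ p * ((S.rep R.ρ p)⁻¹ * x * S.rep R.ρ p)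
        = (S.rep R.ρ p)⁻¹ * ((x : G) * x) * S.rep R.ρ p := by group
      _ = 1 := by rw [hx]; group
  haveI := Fintype.ofFinite S.K
  rw [psi, indFun, inv_mul_eq_iff_eq_mul₀ (Nat.cast_ne_zero.mpr Nat.card_pos.ne')]
  let e : (Fin 3 × Bool) × S.K → G := fun q => S.rep R.ρ q.1 * q.2
  have hinj : Function.Injective e := by
    rintro ⟨p, a⟩ ⟨q, c⟩ h
    obtain ⟨rfl, h2⟩ := S.rep_injective hna hI R.mem R.cube R.h1 R.h2 a.2 c.2 h
    rw [Subtype.ext h2]
  rw [← Finset.sum_subset (Finset.subset_univ ((Finset.univ : Finset ((Fin 3 × Bool) × S.K)).image e))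
    (fun g _ hg => by
      by_contra hne
      have hm : g⁻¹ * (x : G) * g ∈ S.K := by
        by_contra h
        exact hne (extendByZero_of_notMem S.K _ h)
      have hgN : g⁻¹ ∈ S.Nm := S.mem_Nm_of_fused hna hI x.2 hx (by rwa [inv_inv])
      obtain ⟨p, a, ha, hpa⟩ := S.exists_rep hna hI R.mem R.cube R.h1 R.h2 (inv_mem_iff.mp hgN)
      exact hg (Finset.mem_image.mpr ⟨(p, ⟨a, ha⟩), Finset.mem_univ _, hpa.symm⟩)),
    Finset.sum_image hinj.injOn, Fintype.sum_prod_type, Finset.mul_sum]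
  refine Finset.sum_congr rfl fun p _ => ?_
  rw [Nat.card_eq_fintype_card, ← Finset.card_univ, ← nsmul_eq_mul, ← Finset.sum_const]
  refine Finset.sum_congr rfl fun a _ => ?_
  have h : (e (p, a))⁻¹ * (x : G) * e (p, a) = (S.cp hna hI R p x : G) := by
    rw [S.cp_coe]
    show (S.rep R.ρ p * a)⁻¹ * x * (S.rep R.ρ p * a) = _
    calc (S.rep R.ρ p * a)⁻¹ * x * (S.rep R.ρ p * a)
        = (a : G)⁻¹ * ((S.cp hna hI R p x : G) * a) := by rw [S.cp_coe]; group
      _ = _ := by rw [S.coe_K_comm, inv_mul_cancel_left, S.cp_coe]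
  rw [h, extendByZero_coe]

theorem inner_psi (b b' : Bool) (k j : ℕ) :
    classInner (S.psi b k) (S.psi b' j) =
      ∑ p : Fin 3 × Bool, (by classical exact
        ((if S.nu b = (S.nu b').comp (S.cp hna hI R p) then (1 : ℂ) else 0) -
          (if S.nu b = (S.nu b' * S.lam ^ j).comp (S.cp hna hI R p) then 1 else 0) -
          (if S.nu b * S.lam ^ k = (S.nu b').comp (S.cp hna hI R p) then 1 else 0) +
          (if S.nu b * S.lam ^ k = (S.nu b' * S.lam ^ j).comp (S.cp hna hI R p) then 1 else 0))) := by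
  classical
  haveI := Fintype.ofFinite S.K
  simp only [psi]
  rw [classInner_indFun S.K _ (isClassFunction_indFun S.K (S.fpsi b' j)),
    show (fun h : S.K => indFun S.K (S.fpsi b' j) h) =
      ∑ p : Fin 3 × Bool, fun h : S.K => S.fpsi b' j (S.cp hna hI R p h) from
      funext fun h => by rw [Finset.sum_apply]; exact S.psi_on_K hna hI R b' j h,
    classInner_sum_right]
  refine Finset.sum_congr rfl fun p _ => ?_
  rw [show S.fpsi b k = (fun h => (S.nu b h : ℂ)) - fun h => (((S.nu b * S.lam ^ k) h : ℂˣ) : ℂ) from rfl,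
    show (fun h : S.K => S.fpsi b' j (S.cp hna hI R p h)) =
      (fun h => (((S.nu b').comp (S.cp hna hI R p)) h : ℂ)) -
        fun h => ((((S.nu b' * S.lam ^ j).comp (S.cp hna hI R p)) h : ℂˣ) : ℂ) from rfl,
    classInner_sub_left, classInner_sub_right, classInner_sub_right, classInner_hom, classInner_hom,
    classInner_hom, classInner_hom]
  ring

theorem nu_cp_yK (b : Bool) (p : Fin 3 × Bool) : S.nu b (S.cp hna hI R p S.yK) = 1 := by
  obtain ⟨σ, hσ, he⟩ := S.exists_sq_of_mem_Tsub S.φy_mem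
  refine S.nu_Tsub b ?_
  have hz := S.sq_mem_Tsub (S.cp hna hI R p ⟨σ, S.Tsub_le hσ⟩).2
  rw [S.cp_coe] at hz
  rw [S.cp_coe, S.yK_coe, ← he]
  convert hz using 1
  group

theorem lam_cp_yK (p : Fin 3 × Bool) {j : ℕ} (hj0 : j ≠ 0) (hj : j < T) :
    S.lam (S.cp hna hI R p S.yK) ^ j ≠ 1 := by
  intro h
  rw [S.lam_pow_eq, ← map_one S.chiT] at h
  have h' := congrArg Subtype.val (S.chiT_injective h)
  simp only [S.cp_coe, S.yK_coe, OneMemClass.coe_one] at h'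
  refine S.lam_yK_ne hj0 hj ?_
  rw [S.lam_pow_eq, ← map_one S.chiT]
  refine congrArg _ (Subtype.ext ?_)
  show (S.φ S.D.y * S.φ S.D.y) ^ j = 1
  rw [show (S.rep R.ρ p)⁻¹ * S.φ S.D.y * S.rep R.ρ p * ((S.rep R.ρ p)⁻¹ * S.φ S.D.y * S.rep R.ρ p) =
    (S.rep R.ρ p)⁻¹ * (S.φ S.D.y * S.φ S.D.y) * (S.rep R.ρ p)⁻¹⁻¹ by group, conj_pow] at h'
  exact conj_eq_one_iff.mp h'

theorem cross_false (b b' : Bool) (p : Fin 3 × Bool) {j : ℕ} (hj0 : j ≠ 0) (hj : j < T) :
    S.nu b ≠ (S.nu b' * S.lam ^ j).comp (S.cp hna hI R p) ∧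
    S.nu b * S.lam ^ j ≠ (S.nu b').comp (S.cp hna hI R p) := by
  refine ⟨fun h => ?_, fun h => ?_⟩ <;> have h' := DFunLike.congr_fun h S.yK <;>
    simp only [MonoidHom.comp_apply, MonoidHom.mul_apply, MonoidHom.pow_apply, S.nu_yK,
      S.nu_cp_yK hna hI R, one_mul] at h'
  · exact S.lam_cp_yK hna hI R p hj0 hj h'.symm
  · exact S.lam_yK_ne hj0 hj h'

/-- The relation between indices of characters conjugate under the normalizer. -/
def Rel (p : Fin 3 × Bool) (k j : ℕ) : Prop :=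
  (S.rep R.ρ p)⁻¹ * S.φ S.D.y ^ j * S.rep R.ρ p = S.φ S.D.y ^ k

theorem main_iff (b : Bool) (p : Fin 3 × Bool) (k j : ℕ)
    (hν : S.nu b = (S.nu b).comp (S.cp hna hI R p)) :
    S.nu b * S.lam ^ k = (S.nu b * S.lam ^ j).comp (S.cp hna hI R p) ↔ S.Rel R p k j := by
  have hyy : ∀ g : G, g⁻¹ * S.φ S.D.y ^ j * g = S.φ S.D.y ^ k ↔
      (g⁻¹ * S.φ S.D.y * g * (g⁻¹ * S.φ S.D.y * g)) ^ j = (S.φ S.D.y * S.φ S.D.y) ^ k := by
    intro g
    rw [show g⁻¹ * S.φ S.D.y * g * (g⁻¹ * S.φ S.D.y * g) =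
      g⁻¹ * (S.φ S.D.y * S.φ S.D.y) * g⁻¹⁻¹ by group, conj_pow, inv_inv, ← sq, ← pow_mul, ← pow_mul,
      mul_comm 2 j, mul_comm 2 k, pow_mul, pow_mul]
    constructor
    · intro h
      rw [← h]
      simp only [sq]; group
    · intro h
      obtain ⟨c, hc⟩ : Odd T := Nat.odd_iff.mpr S.q_facts.2.2.1
      have key : ∀ i : ℕ, ((S.φ S.D.y ^ i) ^ 2) ^ (c + 1) = S.φ S.D.y ^ i := fun i => by
        rw [← pow_mul, show 2 * (c + 1) = 1 + T by omega, pow_add, pow_one,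
          S.Tsub_pow (pow_mem S.φy_mem i), mul_one]
      rw [← key k, ← h, show g⁻¹ * (S.φ S.D.y ^ j) ^ 2 * g = g⁻¹ * (S.φ S.D.y ^ j) ^ 2 * g⁻¹⁻¹ by group,
        conj_pow, key, inv_inv]
  constructor
  · intro h
    have h' := DFunLike.congr_fun h S.yK
    simp only [MonoidHom.comp_apply, MonoidHom.mul_apply, MonoidHom.pow_apply, S.nu_yK,
      S.nu_cp_yK hna hI R, one_mul, S.lam_pow_eq] at h'
    exact (hyy _).mpr (congrArg Subtype.val (S.chiT_injective h')).symm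
  · intro h
    refine MonoidHom.ext fun x => ?_
    simp only [MonoidHom.comp_apply, MonoidHom.mul_apply, MonoidHom.pow_apply, S.lam_pow_eq]
    rw [← show S.nu b x = S.nu b (S.cp hna hI R p x) from DFunLike.congr_fun hν x]
    congr 2
    refine Subtype.ext ?_
    show ((x : G) * x) ^ k = ((S.cp hna hI R p x : G) * S.cp hna hI R p x) ^ j
    obtain ⟨i, hi⟩ := mem_zpowers_iff.mp (S.sq_mem_Tsub x.2)
    rw [S.cp_coe, show (S.rep R.ρ p)⁻¹ * (x : G) * S.rep R.ρ p * ((S.rep R.ρ p)⁻¹ * x * S.rep R.ρ p) =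
      (S.rep R.ρ p)⁻¹ * ((x : G) * x) * (S.rep R.ρ p)⁻¹⁻¹ by group, conj_pow, ← hi, ← zpow_natCast,
      ← zpow_natCast (S.φ S.D.y ^ i), ← zpow_mul, ← zpow_mul, mul_comm i (k : ℤ), mul_comm i (j : ℤ),
      zpow_mul, zpow_mul, zpow_natCast, zpow_natCast, ← h, inv_inv]
    rw [show (S.rep R.ρ p)⁻¹ * (S.φ S.D.y ^ j) ^ i * S.rep R.ρ p =
      (S.rep R.ρ p)⁻¹ * (S.φ S.D.y ^ j) ^ i * (S.rep R.ρ p)⁻¹⁻¹ by group, ← conj_zpow, inv_inv]

theorem nu_comp_iff (b : Bool) (p : Fin 3 × Bool) :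
    S.nu b = (S.nu b).comp (S.cp hna hI R p) ↔ (b = false ∨ p.1 = 0) := by
  obtain ⟨hii, hit, hiz, -⟩ := S.ι_facts
  have hitz : S.φ S.D.i * (S.t * S.φ S.D.z) * (S.φ S.D.i)⁻¹ = S.t * S.φ S.D.z := by
    rw [conj_mul', hit, hiz]
  have hi' : (S.φ S.D.i)⁻¹ = S.φ S.D.i := inv_eq_of_mul_eq_one_right hii
  cases b
  · exact ⟨fun _ => Or.inl rfl, fun _ => MonoidHom.ext fun _ => rfl⟩
  simp only [Bool.true_eq_false, false_or]
  classical
  obtain ⟨j, e⟩ := p
  have hv : ∀ v : G, S.InV v → S.φ S.D.i * v * (S.φ S.D.i)⁻¹ = v := by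
    rintro v (rfl | rfl | rfl | rfl)
    · group
    · exact hit
    · exact hiz
    · exact hitz
  constructor
  · intro h
    by_contra hj
    have h' := DFunLike.congr_fun h ⟨S.t, S.t_mem_K⟩
    simp only [MonoidHom.comp_apply, nu, S.nu₀_values.1] at h'
    have hc : ∀ w : G, S.InV w → (ρ : G) → ρ⁻¹ * S.t * ρ = w →
        (ρ * if e then S.φ S.D.i else 1)⁻¹ * S.t * (ρ * if e then S.φ S.D.i else 1) = w := by
      intro w hw ρ hρ
      split_ifs
      · rw [mul_inv_rev, hi', show S.φ S.D.i * ρ⁻¹ * S.t * (ρ * S.φ S.D.i) =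
          S.φ S.D.i * (ρ⁻¹ * S.t * ρ) * S.φ S.D.i by group, hρ]
        conv_lhs => arg 2; rw [← hi']
        exact hv w hw
      · rw [mul_one, hρ]
    have e1 : R.ρ⁻¹ * S.t * R.ρ = S.t * S.φ S.D.z := by
      calc R.ρ⁻¹ * S.t * R.ρ = R.ρ⁻¹ * (R.ρ * (S.t * S.φ S.D.z) * R.ρ⁻¹) * R.ρ := by rw [R.h3]
        _ = _ := by group
    have e2 : (R.ρ * R.ρ)⁻¹ * S.t * (R.ρ * R.ρ) = S.φ S.D.z := by
      calc (R.ρ * R.ρ)⁻¹ * S.t * (R.ρ * R.ρ) = R.ρ⁻¹ * (R.ρ⁻¹ * S.t * R.ρ) * R.ρ := by group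
        _ = R.ρ⁻¹ * (R.ρ * S.φ S.D.z * R.ρ⁻¹) * R.ρ := by rw [e1, R.h2]
        _ = _ := by group
    obtain ⟨h1, h2, h3⟩ := S.nu₀_values
    rcases (show j = 0 ∨ j = 1 ∨ j = 2 by fin_cases j <;> simp) with rfl | rfl | rfl
    · exact hj rfl
    · have : S.cp hna hI R ((1 : Fin 3), e) ⟨S.t, S.t_mem_K⟩ =
          ⟨S.t * S.φ S.D.z, S.tz_inV.mem_K⟩ := Subtype.ext (by
        rw [S.cp_coe]; exact hc _ S.tz_inV _ (by simpa using e1))
      rw [show S.cp hna hI R (_, e) ⟨S.t, S.t_mem_K⟩ = _ from this, h3] at h'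
      exact absurd (congrArg Units.val h') (by norm_num)
    · have : S.cp hna hI R ((2 : Fin 3), e) ⟨S.t, S.t_mem_K⟩ =
          ⟨S.φ S.D.z, S.φz_mem_K⟩ := Subtype.ext (by
        rw [S.cp_coe]; exact hc _ S.z_inV _ (by simpa [sq] using e2))
      rw [show S.cp hna hI R (_, e) ⟨S.t, S.t_mem_K⟩ = _ from this, h2] at h'
      exact absurd (congrArg Units.val h') (by norm_num)
  · rintro rfl
    refine MonoidHom.ext fun x => ?_
    have hV : ((S.cp hna hI R (0, e) x : G)) ^ T = (x : G) ^ T := by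
      rw [S.cp_coe]
      show ((R.ρ ^ 0 * if e then S.φ S.D.i else 1)⁻¹ * (x : G) *
        (R.ρ ^ 0 * if e then S.φ S.D.i else 1)) ^ T = _
      split_ifs
      · rw [pow_zero, one_mul, hi', show S.φ S.D.i * (x : G) * S.φ S.D.i =
          S.φ S.D.i * x * (S.φ S.D.i)⁻¹ by rw [hi'], conj_pow]
        exact hv _ (S.pow_T_inV x)
      · simp
    show (if (x : G) ^ T = 1 ∨ (x : G) ^ T = S.t then (1 : ℂˣ) else -1) =
      if ((S.cp hna hI R (0, e) x : G)) ^ T = 1 ∨ _ then 1 else -1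
    rw [hV]

theorem nu_diff (b b' : Bool) (hb : b ≠ b') (p : Fin 3 × Bool) :
    S.nu b ≠ (S.nu b').comp (S.cp hna hI R p) := by
  intro h
  have hne : S.nu₀ ≠ 1 := fun e => by
    have h2 := S.nu₀_values.2.1
    rw [e, MonoidHom.one_apply] at h2
    exact absurd (congrArg Units.val h2) (by norm_num)
  cases b <;> cases b'
  · exact hb rfl
  · refine hne (MonoidHom.ext fun x => ?_)
    have hsurj : Function.Surjective (S.cp hna hI R p) := Finite.surjective_of_injective fun a c e => by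
      have e' := congrArg Subtype.val e
      rw [S.cp_coe, S.cp_coe] at e'
      exact Subtype.ext (mul_left_cancel (mul_right_cancel e'))
    obtain ⟨y, rfl⟩ := hsurj x
    exact (DFunLike.congr_fun h y).symm
  · exact hne (MonoidHom.ext fun x => DFunLike.congr_fun h x)
  · exact hb rfl

/-- The indices related to a given one. -/
def RelB (b : Bool) (k j : ℕ) : Prop := ∃ p : Fin 3 × Bool, (b = false ∨ p.1 = 0) ∧ S.Rel R p k j

theorem rel_unique {k j : ℕ} (hj0 : j ≠ 0) (hj : j < T) {p q : Fin 3 × Bool}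
    (hp : S.Rel R p k j) (hq : S.Rel R q k j) : p = q :=
  S.rep_eq_of_conj hna hI R (pow_mem S.φy_mem j)
    (pow_ne_one_of_lt_orderOf hj0 (by rw [S.orderOf_φy]; exact hj)) (hp.trans hq.symm)

/-- The inner products. -/
theorem inner_same (b : Bool) {k j : ℕ} (hk0 : k ≠ 0) (hk : k < T) (hj0 : j ≠ 0) (hj : j < T) :
    classInner (S.psi b k) (S.psi b j) = (if b then 2 else 6) +
      (by classical exact if S.RelB R b k j then 1 else 0) := by
  classical
  rw [S.inner_psi hna hI R, Finset.sum_congr rfl fun p _ => show _ =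
    (if (b = false ∨ p.1 = 0) then (1 : ℂ) else 0) +
      (if (b = false ∨ p.1 = 0) ∧ S.Rel R p k j then 1 else 0) by
    rw [if_neg (S.cross_false hna hI R b b p hj0 hj).1, if_neg (S.cross_false hna hI R b b p hk0 hk).2,
      sub_zero, sub_zero]
    by_cases hp : b = false ∨ p.1 = 0
    · have hν := (S.nu_comp_iff hna hI R b p).mpr hp
      rw [if_pos hν, if_pos hp]
      congr 1
      exact if_congr ((S.main_iff hna hI R b p k j hν).trans (by simp [hp])) rfl rfl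
    · have hν := mt (S.nu_comp_iff hna hI R b p).mp hp
      rw [if_neg hν, if_neg hp, if_neg (show ¬ ((b = false ∨ p.1 = 0) ∧ S.Rel R p k j) from fun h => hp h.1),
        if_neg]
      intro h
      refine hν (MonoidHom.ext fun x => ?_)
      have hx := DFunLike.congr_fun h x
      obtain ⟨v, hv, τ, hτ, e⟩ := S.exists_mul_of_mem_K x.2
      have e' : x = ⟨v, hv.mem_K⟩ * ⟨τ, S.Tsub_le hτ⟩ := Subtype.ext e
      have hvT := DFunLike.congr_fun h (⟨v, hv.mem_K⟩ : S.K)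
      have hl1 : S.lam (⟨v, hv.mem_K⟩ : S.K) = 1 := S.lam_of_sq hv.sq
      have hl2 : S.lam (S.cp hna hI R p ⟨v, hv.mem_K⟩) = 1 := S.lam_of_sq (by
        rw [S.cp_coe]
        calc (S.rep R.ρ p)⁻¹ * v * S.rep R.ρ p * ((S.rep R.ρ p)⁻¹ * v * S.rep R.ρ p)
            = (S.rep R.ρ p)⁻¹ * (v * v) * S.rep R.ρ p := by group
          _ = 1 := by rw [hv.sq]; group)
      simp only [MonoidHom.comp_apply, MonoidHom.mul_apply, MonoidHom.pow_apply, hl1, hl2, one_pow,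
        mul_one] at hvT
      obtain ⟨σ, hσ, hσe⟩ := S.exists_sq_of_mem_Tsub hτ
      have hτn : S.nu b (S.cp hna hI R p ⟨τ, S.Tsub_le hτ⟩) = 1 := S.nu_Tsub b (by
        have hz := S.sq_mem_Tsub (S.cp hna hI R p ⟨σ, S.Tsub_le hσ⟩).2
        rw [S.cp_coe] at hz
        rw [S.cp_coe]
        show (S.rep R.ρ p)⁻¹ * τ * S.rep R.ρ p ∈ S.Tsub
        rw [← hσe]
        convert hz using 1
        group)
      rw [MonoidHom.comp_apply, e', map_mul, map_mul, map_mul, hτn, S.nu_Tsub b (x := ⟨τ, _⟩) hτ, hvT],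
    Finset.sum_add_distrib]
  congr 1
  · rw [Fintype.sum_prod_type, Fin.sum_univ_three, Fintype.sum_bool, Fintype.sum_bool, Fintype.sum_bool]
    cases b <;> simp <;> norm_num
  · split_ifs with h
    · obtain ⟨p, hp⟩ := h
      rw [Finset.sum_eq_single p (fun q _ hq => if_neg fun hq' =>
        hq (S.rel_unique hna hI R hj0 hj hq'.2 hp.2)) (by simp), if_pos hp]
    · exact Finset.sum_eq_zero fun p _ => if_neg fun hp => h ⟨p, hp⟩

theorem relB_refl (b : Bool) (k : ℕ) : S.RelB R b k k :=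
  ⟨(0, false), Or.inr rfl, by show _ * _ * _ = _; rw [S.rep_id hna hI R]; group⟩

end Setup

end Cfsg.Lib.ReeType
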