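import Cfsg.Agent.Lib.ReeType.Psi

/-!
# Multiplicities of the three constituents in the functions induced from the torus
-/

set_option autoImplicit false
set_option linter.unusedSectionVars false
set_option linter.unusedVariables false
set_option linter.style.haveILetI false

namespace Cfsg.Lib.ReeType

open Subgroup Cfsg Cfsg.Lib.Char
open scoped ComplexConjugate

universe u

theorem roots_cover : ∀ a b c d i j : Fin 3, a ≠ b → c ≠ d → i ≠ j →
    (∀ l : Fin 3, ((if l = a then (1 : ℤ) else 0) - if l = b then 1 else 0) +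
      ((if l = c then 1 else 0) - if l = d then 1 else 0) =
      (if l = i then 1 else 0) - if l = j then 1 else 0) →
    ((0 = a ∨ 0 = b ∨ 0 = c ∨ 0 = d) ∧ (1 = a ∨ 1 = b ∨ 1 = c ∨ 1 = d) ∧
      (2 = a ∨ 2 = b ∨ 2 = c ∨ 2 = d)) ∧ (a = c ∨ a = d ∨ b = c ∨ b = d) := by
  decide

namespace Setup

variable {G L : Type u} [Group G] [Group L] [Fintype G] {n T : ℕ} (S : Setup G L n T)
  [IsSimpleGroup G] (hna : ¬ IsMulCommutative G) (hI : NoInv G)
include S hna hI

theorem inner_psi_one (b : Bool) {k : ℕ} (hk0 : k ≠ 0) (hk : k < T) :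
    classInner (S.psi b k) (fun _ => 1) = if b then 0 else 1 := by
  classical
  haveI := Fintype.ofFinite S.K
  rw [psi, classInner_indFun S.K _ (fun _ _ => rfl),
    show S.fpsi b k = (fun h => (S.nu b h : ℂ)) - fun h => (((S.nu b * S.lam ^ k) h : ℂˣ) : ℂ) from rfl,
    classInner_sub_left, show (fun h : S.K => (fun _ : G => (1 : ℂ)) h) =
      fun h => (((1 : S.K →* ℂˣ) h : ℂˣ) : ℂ) from funext fun h => by simp,
    classInner_hom, classInner_hom]
  have h2 : S.nu b * S.lam ^ k ≠ 1 := fun h => S.lam_yK_ne hk0 hk (by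
    have := DFunLike.congr_fun h S.yK
    simpa [S.nu_yK] using this)
  rw [if_neg h2, sub_zero]
  cases b
  · simp [nu]
  · rw [if_neg]
    · simp
    intro h
    have h' := DFunLike.congr_fun h ⟨S.φ S.D.z, S.φz_mem_K⟩
    rw [show S.nu true = S.nu₀ from rfl, S.nu₀_values.2.1, MonoidHom.one_apply] at h'
    exact absurd (congrArg Units.val h') (by norm_num)

theorem psi_tφ (b : Bool) (k : ℕ) {c : L} (hc : c ∈ S.D.B) : S.psi b k (S.t * S.φ c) = 0 := by
  rw [psi, indFun, Finset.sum_eq_zero, mul_zero]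
  intro g _
  by_cases hm : g⁻¹ * (S.t * S.φ c) * g ∈ S.K
  · rw [extendByZero_of_mem _ _ hm]
    refine S.fpsi_of_sq b k ?_
    show g⁻¹ * (S.t * S.φ c) * g * (g⁻¹ * (S.t * S.φ c) * g) = 1
    rw [show g⁻¹ * (S.t * S.φ c) * g * (g⁻¹ * (S.t * S.φ c) * g) =
      g⁻¹ * (S.t * S.φ c * (S.t * S.φ c)) * g⁻¹⁻¹ by group, S.t_φ_pow_two]
    have h1 : (g⁻¹ * S.φ (c * c) * g⁻¹⁻¹) ^ (3 * (2 * T - 1)) = 1 := by
      rw [conj_pow, ← map_pow, S.B_pow (mul_mem hc hc), map_one]; group
    have hK := S.sq_mem_Tsub hm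
    rw [show g⁻¹ * (S.t * S.φ c) * g * (g⁻¹ * (S.t * S.φ c) * g) =
      g⁻¹ * (S.t * S.φ c * (S.t * S.φ c)) * g⁻¹⁻¹ by group, S.t_φ_pow_two] at hK
    have h2 := S.Tsub_pow hK
    have hco : Nat.Coprime T (3 * (2 * T - 1)) := by
      obtain ⟨-, -, hTo, hT7, h3, -⟩ := S.q_facts
      refine Nat.Coprime.mul_right ((Nat.prime_three.coprime_iff_not_dvd.mpr h3).symm) ?_
      exact Nat.isCoprime_iff_coprime.mp ⟨2, -1, by
        push_cast [Nat.cast_sub (show 1 ≤ 2 * T by omega)]; ring⟩
    rw [← orderOf_eq_one_iff]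
    exact Nat.eq_one_of_dvd_coprimes hco (orderOf_dvd_of_pow_eq_one h2) (orderOf_dvd_of_pow_eq_one h1)
  · exact extendByZero_of_notMem _ _ hm

theorem inner_psi_theta (b : Bool) (k j : ℕ) :
    classInner (S.psi b k) (S.theta j) = 0 := by
  haveI := S.finite_L
  haveI := Fintype.ofFinite S.D.B
  rw [← classInner_conj_symm, S.inner_theta j (S.isGen_psi b k).isClassFunction]
  rw [Finset.sum_eq_zero fun c _ => by rw [S.psi_tφ hna hI b k c.2, map_zero, mul_zero],
    mul_zero, map_zero]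

theorem conj_psi (b : Bool) {k : ℕ} (hk : k ≤ T) :
    (fun g => conj (S.psi b k g)) = S.psi b (T - k) := by
  classical
  funext g
  simp only [psi, indFun, map_mul, map_sum, map_inv₀, map_natCast]
  congr 1
  refine Finset.sum_congr rfl fun x _ => ?_
  by_cases hm : x⁻¹ * g * x ∈ S.K
  · rw [extendByZero_of_mem _ _ hm, extendByZero_of_mem _ _ hm]
    set h : S.K := ⟨_, hm⟩
    have hl : ((S.lam h : ℂˣ) : ℂ) ^ T = 1 := by
      rw [← Units.val_pow_eq_pow_val, S.lam_pow_eq, ← Units.val_one]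
      congr 1
      rw [← map_one S.chiT]
      exact congrArg _ (Subtype.ext (S.Tsub_pow (S.sq_mem_Tsub h.2)))
    have hn1 : ‖((S.lam h : ℂˣ) : ℂ)‖ = 1 :=
      Complex.norm_eq_one_of_pow_eq_one hl (by have := S.q_facts; omega)
    have hl0 : ((S.lam h : ℂˣ) : ℂ) ≠ 0 := Units.ne_zero _
    have hnu : conj ((S.nu b h : ℂˣ) : ℂ) = (S.nu b h : ℂˣ) := by
      cases b
      · simp [nu]
      · show conj (((if _ then (1 : ℂˣ) else -1) : ℂˣ) : ℂ) = (((if _ then (1 : ℂˣ) else -1) : ℂˣ) : ℂ)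
        split_ifs <;> simp
    simp only [fpsi, MonoidHom.mul_apply, MonoidHom.pow_apply, Units.val_mul,
      Units.val_pow_eq_pow_val, map_sub, map_mul, map_pow, hnu, ← Complex.inv_eq_conj hn1]
    congr 2
    rw [inv_pow]
    refine inv_eq_of_mul_eq_one_right ?_
    rw [← pow_add, Nat.add_sub_cancel' hk, hl]
  · rw [extendByZero_of_notMem _ _ hm, extendByZero_of_notMem _ _ hm, map_zero]

theorem sum_fpsi (b : Bool) (x : S.K) :
    ∑ k ∈ Finset.range T, S.fpsi b k x =
      (S.nu b x : ℂ) * ((T : ℂ) - (by classical exact if (x : G) * x = 1 then (T : ℂ) else 0)) := by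
  classical
  simp only [fpsi, MonoidHom.mul_apply, MonoidHom.pow_apply, Units.val_mul, Units.val_pow_eq_pow_val,
    Finset.sum_sub_distrib, Finset.sum_const, Finset.card_range, nsmul_eq_mul, ← Finset.mul_sum]
  split_ifs with hx
  · simp [S.lam_of_sq hx]
    ring
  · have hne : ((S.lam x : ℂˣ) : ℂ) ≠ 1 := fun e => hx (by
      have h1 : S.lam x = 1 := Units.ext e
      have h2 : S.chiT ⟨(x : G) * x, S.sq_mem_Tsub x.2⟩ = S.chiT 1 := by rw [map_one]; exact h1
      exact congrArg Subtype.val (S.chiT_injective h2))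
    have hp : ((S.lam x : ℂˣ) : ℂ) ^ T = 1 := by
      rw [← Units.val_pow_eq_pow_val, S.lam_pow_eq, ← Units.val_one]
      congr 1
      rw [← map_one S.chiT]
      exact congrArg _ (Subtype.ext (S.Tsub_pow (S.sq_mem_Tsub x.2)))
    rw [geom_sum_eq hne, hp]
    ring

/-- The congruence obtained by summing over all characters of the cyclic part. -/
theorem sum_inner_psi (b : Bool) {χ : G → ℂ} (hχ : IsCharacter G χ) :
    ∃ A : ℤ, ∑ k ∈ Finset.range T, 4 * classInner (S.psi b k) χ =
      4 * (T : ℂ) * A - (conj (χ 1) + (if b then -1 else 3) * conj (χ S.t)) := by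
  classical
  haveI := Fintype.ofFinite S.K
  obtain ⟨A, hA⟩ := (isIrrCharacter_linear (S.nu b)).isGeneralized.exists_int_classInner
    (hχ.comp S.K.subtype).isGeneralized
  refine ⟨A, ?_⟩
  rw [← Finset.mul_sum]
  simp only [psi, classInner_indFun S.K _ hχ.isClassFunction]
  rw [← classInner_sum_left, show (∑ k ∈ Finset.range T, S.fpsi b k) =
    (T : ℂ) • (fun x : S.K => (S.nu b x : ℂ)) -
      (T : ℂ) • fun x : S.K => if (x : G) * x = 1 then (S.nu b x : ℂ) else 0 from funext fun x => by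
      rw [Finset.sum_apply, S.sum_fpsi hna hI b x]
      simp only [Pi.sub_apply, Pi.smul_apply, smul_eq_mul]
      split_ifs <;> ring,
    classInner_sub_left, classInner_smul_left, classInner_smul_left,
    show classInner (fun x : S.K => ((S.nu b x : ℂˣ) : ℂ)) (fun h : S.K => χ h) = (A : ℂ) from hA]
  set vt : S.K := ⟨S.t, S.t_mem_K⟩
  set vz : S.K := ⟨S.φ S.D.z, S.φz_mem_K⟩
  set vtz : S.K := ⟨S.t * S.φ S.D.z, S.tz_inV.mem_K⟩
  obtain ⟨h1, h2, h3, h4, h5, h6⟩ := S.tz_facts
  have hset : (Finset.univ.filter fun x : S.K => (x : G) * x = 1) =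
      insert 1 (insert vt (insert vz {vtz})) := by
    ext ⟨x, hx⟩
    simp only [Finset.mem_filter, Finset.mem_univ, true_and, Finset.mem_insert, Finset.mem_singleton,
      Subtype.ext_iff, vt, vz, vtz, OneMemClass.coe_one]
    exact ⟨fun h => S.inV_iff.mpr ⟨hx, h⟩, fun h => InV.sq S h⟩
  have hval : ∀ v : G, S.InV v → v ≠ 1 → χ v = χ S.t := fun v hv hv1 => by
    obtain ⟨g, rfl⟩ := S.exists_conj_t hna hv.sq hv1
    exact hχ.isClassFunction _ _
  have hV : classInner (fun x : S.K => if (x : G) * x = 1 then ((S.nu b x : ℂˣ) : ℂ) else 0)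
      (fun h : S.K => χ h) =
        ((4 * T : ℕ) : ℂ)⁻¹ * (conj (χ 1) + (if b then -1 else 3) * conj (χ S.t)) := by
    rw [classInner, S.card_K]
    congr 1
    simp only [ite_mul, zero_mul, ← Finset.sum_filter, hset]
    rw [Finset.sum_insert (by simp [vt, vz, vtz, Subtype.ext_iff, h1.symm, h2.symm, h3.symm]),
      Finset.sum_insert (by simp [vt, vz, vtz, Subtype.ext_iff, h4.symm, h5.symm]),
      Finset.sum_insert (by simp [vz, vtz, Subtype.ext_iff, h6.symm]), Finset.sum_singleton]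
    simp only [vt, vz, vtz, map_one, Units.val_one, one_mul, OneMemClass.coe_one,
      hval _ S.z_inV h2, hval _ S.tz_inV h3]
    cases b
    · simp [nu]
      ring
    · simp only [show S.nu true = S.nu₀ from rfl, S.nu₀_values.1, S.nu₀_values.2.1, S.nu₀_values.2.2,
        if_true, Units.val_one, Units.val_neg]
      ring
  rw [hV]
  have hT0 : (T : ℂ) ≠ 0 := Nat.cast_ne_zero.mpr (by have := S.q_facts; omega)
  push_cast
  field_simp

variable (R : S.Rot)
include R

theorem rep_pow_mem (p : Fin 3 × Bool) (k : ℕ) :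
    ∃ l < T, (S.rep R.ρ p)⁻¹ * S.φ S.D.y ^ k * S.rep R.ρ p = S.φ S.D.y ^ l := by
  classical
  obtain ⟨σ, hσ, he⟩ := S.exists_sq_of_mem_Tsub (pow_mem S.φy_mem k)
  have hz := S.sq_mem_Tsub (S.cp hna hI R p ⟨σ, S.Tsub_le hσ⟩).2
  have hm : (S.rep R.ρ p)⁻¹ * S.φ S.D.y ^ k * S.rep R.ρ p ∈ S.Tsub := by
    rw [← he]
    convert hz using 1
    rw [S.cp_coe]
    group
  rw [Tsub, (isOfFinOrder_of_finite _).mem_zpowers_iff_mem_range_orderOf, S.orderOf_φy] at hm
  obtain ⟨l, hl, e⟩ := Finset.mem_image.mp hm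
  exact ⟨l, Finset.mem_range.mp hl, e.symm⟩

theorem exists_third (b : Bool) {k j : ℕ} (hk0 : k ≠ 0) (hk : k < T) (hj0 : j ≠ 0) (hj : j < T)
    (hkj : ¬ S.RelB R b j k) :
    ∃ l, l ≠ 0 ∧ l < T ∧ ¬ S.RelB R b l k ∧ ¬ S.RelB R b l j := by
  classical
  obtain ⟨-, hq27, hTo, hT7, -⟩ := S.q_facts
  set P := Finset.univ.filter fun p : Fin 3 × Bool => b = false ∨ p.1 = 0
  choose F hF hFe using fun p => S.rep_pow_mem hna hI R p k
  choose F' hF' hFe' using fun p => S.rep_pow_mem hna hI R p j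
  have hmem : ∀ l, l < T → S.RelB R b l k → l ∈ P.image F := by
    rintro l hl ⟨p, hp, h⟩
    refine Finset.mem_image.mpr ⟨p, Finset.mem_filter.mpr ⟨Finset.mem_univ _, hp⟩, ?_⟩
    have h' : S.φ S.D.y ^ F p = S.φ S.D.y ^ l := (hFe p).symm.trans h
    rw [pow_eq_pow_iff_modEq, S.orderOf_φy, Nat.ModEq, Nat.mod_eq_of_lt (hF p), Nat.mod_eq_of_lt hl] at h'
    exact h'
  have hmem' : ∀ l, l < T → S.RelB R b l j → l ∈ P.image F' := by
    rintro l hl ⟨p, hp, h⟩
    refine Finset.mem_image.mpr ⟨p, Finset.mem_filter.mpr ⟨Finset.mem_univ _, hp⟩, ?_⟩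
    have h' : S.φ S.D.y ^ F' p = S.φ S.D.y ^ l := (hFe' p).symm.trans h
    rw [pow_eq_pow_iff_modEq, S.orderOf_φy, Nat.ModEq, Nat.mod_eq_of_lt (hF' p), Nat.mod_eq_of_lt hl] at h'
    exact h'
  by_contra hcon
  push Not at hcon
  have hsub : Finset.Ico 1 T ⊆ P.image F ∪ P.image F' := fun l hl => by
    rw [Finset.mem_Ico] at hl
    rw [Finset.mem_union]
    by_cases h : S.RelB R b l k
    · exact Or.inl (hmem l hl.2 h)
    · exact Or.inr (hmem' l hl.2 (hcon l (by omega) hl.2 h))
  have hc := (Finset.card_le_card hsub).trans ((Finset.card_union_le _ _).trans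
    (Nat.add_le_add Finset.card_image_le Finset.card_image_le))
  rw [Nat.card_Ico] at hc
  cases b
  · have hP : P = Finset.univ := by simp [P]
    rw [hP, Finset.card_univ, Fintype.card_prod, Fintype.card_fin, Fintype.card_bool] at hc
    have h4 := S.hT
    by_cases hn1 : n = 1
    · subst hn1
      have hT : T = 7 := by norm_num at h4; omega
      -- every index is related to `k`
      have hinj : Function.Injective F := fun p q e => S.rep_eq_of_conj hna hI R
        (pow_mem S.φy_mem k) (pow_ne_one_of_lt_orderOf hk0 (by rw [S.orderOf_φy]; exact hk))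
        ((hFe p).trans ((congrArg _ e).trans (hFe q).symm))
      have hne : ∀ p, F p ∈ Finset.Ico 1 T := fun p => by
        refine Finset.mem_Ico.mpr ⟨Nat.one_le_iff_ne_zero.mpr fun h => ?_, hF p⟩
        have h' := hFe p
        rw [h, pow_zero] at h'
        refine pow_ne_one_of_lt_orderOf hk0 (by rw [S.orderOf_φy]; exact hk) ?_
        calc S.φ S.D.y ^ k = S.rep R.ρ p * ((S.rep R.ρ p)⁻¹ * S.φ S.D.y ^ k * S.rep R.ρ p) *
              (S.rep R.ρ p)⁻¹ := by group
          _ = 1 := by rw [h']; group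
      have hall : (Finset.univ : Finset (Fin 3 × Bool)).image F = Finset.Ico 1 T := by
        refine Finset.eq_of_subset_of_card_le (fun x hx => ?_) ?_
        · obtain ⟨p, -, rfl⟩ := Finset.mem_image.mp hx
          exact hne p
        · rw [Nat.card_Ico, Finset.card_image_of_injective _ hinj, Finset.card_univ, Fintype.card_prod,
            Fintype.card_fin, Fintype.card_bool]
          omega
      have hjm : j ∈ (Finset.univ : Finset (Fin 3 × Bool)).image F := by
        rw [hall, Finset.mem_Ico]; omega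
      obtain ⟨p, -, hp⟩ := Finset.mem_image.mp hjm
      exact hkj ⟨p, Or.inl rfl, (hFe p).trans (by rw [hp])⟩
    · have : 3 ^ 5 ≤ 3 ^ (2 * n + 1) := Nat.pow_le_pow_right (by norm_num)
        (by have := S.one_le; omega)
      norm_num at this
      omega
  · have hP : P = {((0 : Fin 3), false), (0, true)} := by
      ext ⟨i, e⟩; cases e <;> simp [P]
    rw [hP] at hc
    simp at hc
    omega

omit R

/-- The signed multiplicity of the `i`-th constituent. -/
def IsMult (X : Trio S) (b : Bool) (m : Fin 3 → ℤ) : Prop :=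
  ∀ k, k ≠ 0 → k < T → ∀ i, (X.ε i : ℂ) * classInner (S.psi b k) (X.X i : G → ℂ) = m i

theorem ε_sq (X : Trio S) (i : Fin 3) : (X.ε i : ℂ) * X.ε i = 1 := by
  rcases X.sign i with e | e <;> rw [e] <;> norm_num

theorem sum_mult (X : Trio S) {D : G → ℂ} (h0 : classInner D (S.theta 0) = 0) :
    classInner D (fun _ => 1) + ∑ i, (X.ε i : ℂ) * classInner D (X.X i : G → ℂ) = 0 := by
  rw [show S.theta 0 = (fun _ => (1 : ℂ)) + ∑ i, (X.ε i : ℂ) • (X.X i : G → ℂ) from
      funext fun g => by rw [X.theta_zero g]; simp [Finset.sum_apply],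
    classInner_add_right, classInner_sum_right] at h0
  simpa [classInner_smul_right, map_intCast] using h0

/-- A difference of norm two either misses the three or is a difference of two of them. -/
theorem root_or_zero (X : Trio S) {D : G → ℂ} (hD : IsGeneralizedCharacter G D) (h1 : D 1 = 0)
    (h2 : classInner D D = 2) (h0 : classInner D (S.theta 0) = 0)
    (ho : classInner D (fun _ => 1) = 0) :
    (∀ i, (X.ε i : ℂ) * classInner D (X.X i : G → ℂ) = 0) ∨
    ∃ a c : Fin 3, a ≠ c ∧ X.x a = X.x c ∧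
      (∀ i, (X.ε i : ℂ) * classInner D (X.X i : G → ℂ) =
        (((if i = a then (1 : ℤ) else 0) - if i = c then 1 else 0 : ℤ) : ℂ)) ∧
      D = (X.ε a : ℂ) • (X.X a : G → ℂ) - (X.ε c : ℂ) • (X.X c : G → ℂ) := by
  classical
  obtain ⟨P, M, hPM, rfl⟩ := exists_irr_sub_of_norm_two hD h1 h2
  have a' : ∀ μ ν : IrrCharacter G, classInner (μ : G → ℂ) (ν : G → ℂ) = if μ = ν then 1 else 0 :=
    fun μ ν => by
      rw [classInner_irr μ.2 ν.2]
      exact if_congr Subtype.ext_iff.symm rfl rfl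
  have hs := S.sum_mult hna hI X h0
  rw [ho, zero_add] at hs
  simp only [classInner_sub_left, a'] at hs ⊢
  rw [Pi.sub_apply, sub_eq_zero] at h1
  by_cases hP : ∃ a, P = X.X a <;> by_cases hM : ∃ c, M = X.X c
  · obtain ⟨a, rfl⟩ := hP
    obtain ⟨c, rfl⟩ := hM
    have hac : a ≠ c := fun e => hPM (e ▸ rfl)
    have hsum : (X.ε a : ℂ) - X.ε c = 0 := by
      rw [← hs]
      simp [mul_sub, Finset.sum_sub_distrib, X.inj.eq_iff]
    have hεε : X.ε a = X.ε c := by exact_mod_cast sub_eq_zero.mp hsum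
    have hxx : X.x a = X.x c := by
      have : ((X.x a : ℤ) : ℂ) = X.x c := by rw [← X.hx, ← X.hx, h1, hεε]
      exact_mod_cast this
    rcases X.sign a with ea | ea
    · refine Or.inr ⟨a, c, hac, hxx, fun i => ?_, ?_⟩
      · by_cases hia : i = a
        · subst hia; simp [hac, Ne.symm hac, X.inj.eq_iff, ea]
        · by_cases hic : i = c
          · subst hic; simp [hia, X.inj.eq_iff, ← hεε, ea, Ne.symm hia]
          · simp [hia, hic, X.inj.eq_iff, Ne.symm hia, Ne.symm hic]
      · rw [← hεε, ea]; simp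
    · refine Or.inr ⟨c, a, Ne.symm hac, hxx.symm, fun i => ?_, ?_⟩
      · by_cases hia : i = a
        · subst hia; simp [hac, Ne.symm hac, X.inj.eq_iff, ea]
        · by_cases hic : i = c
          · subst hic; simp [hia, X.inj.eq_iff, ← hεε, ea, Ne.symm hia]
          · simp [hia, hic, X.inj.eq_iff, Ne.symm hia, Ne.symm hic]
      · rw [← hεε, ea]
        push_cast
        module
  · obtain ⟨a, rfl⟩ := hP
    push Not at hM
    exfalso
    rw [Finset.sum_eq_single a (fun i _ hi => by simp [X.inj.eq_iff, Ne.symm hi, hM i]) (by simp)] at hs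
    simp [hM a] at hs
    rcases X.sign a with e | e <;> rw [e] at hs <;> norm_num at hs
  · obtain ⟨c, rfl⟩ := hM
    push Not at hP
    exfalso
    rw [Finset.sum_eq_single c (fun i _ hi => by simp [X.inj.eq_iff, Ne.symm hi, hP i]) (by simp)] at hs
    simp [hP c] at hs
    rcases X.sign c with e | e <;> rw [e] at hs <;> norm_num at hs
  · push Not at hP hM
    exact Or.inl fun i => by simp [hP i, hM i]

theorem norm_psi_sub (R : S.Rot) (b : Bool) {k j : ℕ} (hk0 : k ≠ 0) (hk : k < T) (hj0 : j ≠ 0) (hj : j < T) :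
    classInner (S.psi b k - S.psi b j) (S.psi b k - S.psi b j) =
      (by classical exact if S.RelB R b k j then 0 else 2) := by
  classical
  have hsym : classInner (S.psi b j) (S.psi b k) = classInner (S.psi b k) (S.psi b j) := by
    rw [← classInner_conj_symm, S.inner_same hna hI R b hk0 hk hj0 hj]
    simp only [map_add]
    split_ifs <;> simp [Complex.conj_ofNat]
  rw [classInner_sub_left, classInner_sub_right, classInner_sub_right, hsym,
    S.inner_same hna hI R b hk0 hk hk0 hk, S.inner_same hna hI R b hj0 hj hj0 hj,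
    S.inner_same hna hI R b hk0 hk hj0 hj, if_pos (S.relB_refl hna hI R b k),
    if_pos (S.relB_refl hna hI R b j)]
  split_ifs <;> ring

theorem mult_const (R : S.Rot) (X : Trio S) (b : Bool) : ∃ m : Fin 3 → ℤ, S.IsMult X b m := by
  classical
  obtain ⟨-, -, -, hT7, -⟩ := S.q_facts
  choose m hm using fun i => (S.isGen_psi b 1).exists_int_classInner (X.X i).2.isCharacter.isGeneralized
  refine ⟨fun i => X.ε i * m i, fun k hk0 hk i => ?_⟩
  push_cast
  rw [← hm i]
  congr 1
  have hD : ∀ a c, a ≠ 0 → a < T → c ≠ 0 → c < T →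
      IsGeneralizedCharacter G (S.psi b a - S.psi b c) ∧ (S.psi b a - S.psi b c) 1 = 0 ∧
        classInner (S.psi b a - S.psi b c) (S.theta 0) = 0 ∧
        classInner (S.psi b a - S.psi b c) (fun _ => 1) = 0 := fun a c ha0 ha hc0 hc =>
    ⟨(S.isGen_psi b a).sub (S.isGen_psi b c),
      by rw [Pi.sub_apply, S.psi_invol b a (one_mul 1), S.psi_invol b c (one_mul 1), sub_zero],
      by rw [classInner_sub_left, S.inner_psi_theta hna hI, S.inner_psi_theta hna hI, sub_zero],
      by rw [classInner_sub_left, S.inner_psi_one hna hI b ha0 ha, S.inner_psi_one hna hI b hc0 hc, sub_self]⟩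
  by_contra hne
  have h10 : (1 : ℕ) ≠ 0 := one_ne_zero
  have h1T : 1 < T := by omega
  have hn2 : ¬ S.RelB R b k 1 := fun h => by
    have h0 := S.norm_psi_sub hna hI R b hk0 hk h10 h1T
    rw [if_pos h] at h0
    have := eq_zero_of_classInner_self h0
    rw [sub_eq_zero.mp this] at hne
    exact hne rfl
  obtain ⟨l, hl0, hl, hl1, hlk⟩ := S.exists_third hna hI R b (k := 1) (j := k) h10 h1T hk0 hk hn2
  obtain ⟨g3, d3, t3, o3⟩ := hD k 1 hk0 hk h10 h1T
  have n3 : classInner (S.psi b k - S.psi b 1) (S.psi b k - S.psi b 1) = 2 := by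
    rw [S.norm_psi_sub hna hI R b hk0 hk h10 h1T, if_neg hn2]
  obtain ⟨g2, d2, t2, o2⟩ := hD l 1 hl0 hl h10 h1T
  have n2 : classInner (S.psi b l - S.psi b 1) (S.psi b l - S.psi b 1) = 2 := by
    rw [S.norm_psi_sub hna hI R b hl0 hl h10 h1T, if_neg hl1]
  obtain ⟨g1, d1, t1, o1⟩ := hD k l hk0 hk hl0 hl
  have n1 : classInner (S.psi b k - S.psi b l) (S.psi b k - S.psi b l) = 2 := by
    have h := S.norm_psi_sub hna hI R b hl0 hl hk0 hk
    rw [if_neg hlk] at h
    rw [← h, show S.psi b k - S.psi b l = -(S.psi b l - S.psi b k) from (neg_sub _ _).symm,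
      classInner_neg_left, classInner_neg_right, neg_neg]
  have e12 : (S.psi b k - S.psi b l) + (S.psi b l - S.psi b 1) = S.psi b k - S.psi b 1 := by abel
  rcases S.root_or_zero hna hI X g3 d3 n3 t3 o3 with z3 | ⟨i₃, j₃, h3, x3, v3, e3⟩
  · have h := z3 i
    rw [classInner_sub_left] at h
    have hε : (X.ε i : ℂ) ≠ 0 := left_ne_zero_of_mul_eq_one (S.ε_sq hna hI X i)
    exact hne (sub_eq_zero.mp ((mul_eq_zero.mp h).resolve_left hε))
  have hadd : ∀ i, (X.ε i : ℂ) * classInner (S.psi b k - S.psi b l) (X.X i : G → ℂ) +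
      (X.ε i : ℂ) * classInner (S.psi b l - S.psi b 1) (X.X i : G → ℂ) =
        (X.ε i : ℂ) * classInner (S.psi b k - S.psi b 1) (X.X i : G → ℂ) := fun i => by
    rw [← mul_add, ← classInner_add_left, e12]
  have hsame : ∀ a c : Fin 3, a ≠ c → (∀ i, (((if i = a then (1 : ℤ) else 0) - if i = c then 1 else 0 : ℤ) : ℂ) =
      (((if i = i₃ then (1 : ℤ) else 0) - if i = j₃ then 1 else 0 : ℤ) : ℂ)) → a = i₃ ∧ c = j₃ := by
    intro a c hac hh
    have key : ∀ a c i j : Fin 3, a ≠ c → i ≠ j → (∀ l : Fin 3, ((if l = a then (1 : ℤ) else 0) - if l = c then 1 else 0) =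
        (if l = i then 1 else 0) - if l = j then 1 else 0) → a = i ∧ c = j := by decide
    exact key a c i₃ j₃ hac h3 fun l => by exact_mod_cast hh l
  rcases S.root_or_zero hna hI X g1 d1 n1 t1 o1 with z1 | ⟨a, a', h1, x1, v1, e1⟩ <;>
    rcases S.root_or_zero hna hI X g2 d2 n2 t2 o2 with z2 | ⟨c, c', h2, x2, v2, e2⟩
  · have h := hadd i₃
    rw [z1, z2, v3, if_pos rfl, if_neg h3] at h
    norm_num at h
  · obtain ⟨rfl, rfl⟩ := hsame c c' h2 fun i => by rw [← v2, ← v3, ← hadd i, z1 i, zero_add]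
    rw [← e3] at e2
    rw [e2, add_eq_right] at e12
    rw [e12, classInner_zero_left] at n1
    norm_num at n1
  · obtain ⟨rfl, rfl⟩ := hsame a a' h1 fun i => by rw [← v1, ← v3, ← hadd i, z2 i, add_zero]
    rw [← e3] at e1
    rw [e1, add_eq_left] at e12
    rw [e12, classInner_zero_left] at n2
    norm_num at n2
  · obtain ⟨⟨c0, c1, c2⟩, hsh⟩ := roots_cover a a' c c' i₃ j₃ h1 h2 h3 (fun l => by
      have h := hadd l
      rw [v1, v2, v3] at h
      exact_mod_cast h)
    have hx : ∀ l, (l = a ∨ l = a' ∨ l = c ∨ l = c') → X.x l = X.x a := by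
      intro l hl
      rcases hsh with rfl | rfl | rfl | rfl <;> rcases hl with rfl | rfl | rfl | rfl <;> omega
    have hdeg := X.deg
    rw [hx 0 c0, hx 1 c1, hx 2 c2] at hdeg
    omega

theorem mult_facts (R : S.Rot) (X : Trio S) (b : Bool) {m : Fin 3 → ℤ} (hm : S.IsMult X b m) :
    m 0 + m 1 + m 2 = (if b then 0 else -1) ∧
      m 0 ^ 2 + m 1 ^ 2 + m 2 ^ 2 ≤ (if b then 3 else 6) ∧
      (∀ i, (T : ℤ) ∣ X.x i + (if b then -1 else 3) * X.y i - 4 * m i) ∧
      (∀ i j, (fun g => conj ((X.X i : G → ℂ) g)) = (X.X j : G → ℂ) → X.ε i = X.ε j → m i = m j) := by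
  classical
  obtain ⟨-, -, -, hT7, -⟩ := S.q_facts
  have h10 : (1 : ℕ) ≠ 0 := one_ne_zero
  have h1T : 1 < T := by omega
  have ho := S.inner_psi_one hna hI b h10 h1T
  refine ⟨?_, ?_, fun i => ?_, fun i j hij hε => ?_⟩
  · have h := S.sum_mult hna hI X (S.inner_psi_theta hna hI b 1 0)
    rw [Fin.sum_univ_three, hm 1 h10 h1T, hm 1 h10 h1T, hm 1 h10 h1T, ho] at h
    cases b
    · have h' : ((1 + (m 0 + m 1 + m 2) : ℤ) : ℂ) = 0 := by push_cast; simpa using h
      have : 1 + (m 0 + m 1 + m 2) = 0 := by exact_mod_cast h'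
      simp only [Bool.false_eq_true, if_false]
      omega
    · have h' : ((m 0 + m 1 + m 2 : ℤ) : ℂ) = 0 := by push_cast; simpa using h
      simp only [if_true]
      exact_mod_cast h'
  · have hgen := S.isGen_psi b 1
    choose c hc using fun χ : IrrCharacter G => hgen.exists_int_classInner χ.2.isCharacter.isGeneralized
    have hn := S.inner_same hna hI R b h10 h1T h10 h1T
    rw [if_pos (S.relB_refl hna hI R b 1), classInner_eq_sum hgen.isClassFunction] at hn
    simp only [hc, map_intCast] at hn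
    have hn' : ∑ χ, c χ * c χ = (if b then 2 else 6) + 1 := by
      cases b <;>
      · simp only [Bool.false_eq_true, if_false, if_true] at hn ⊢
        exact_mod_cast hn
    set one : IrrCharacter G := ⟨fun _ => 1, isIrrCharacter_one⟩
    have hone : c one = if b then 0 else 1 := by
      have h := hc one
      rw [ho] at h
      cases b <;>
      · simp only [Bool.false_eq_true, if_false, if_true] at h ⊢
        exact_mod_cast h.symm
    have hmi : ∀ i, m i ^ 2 = c (X.X i) * c (X.X i) := fun i => by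
      have h := hm 1 h10 h1T i
      rw [hc] at h
      have h' : X.ε i * c (X.X i) = m i := by exact_mod_cast h
      rw [← h']
      rcases X.sign i with e | e <;> rw [e] <;> ring
    have hle := Finset.sum_le_sum_of_subset_of_nonneg (f := fun χ => c χ * c χ)
      (Finset.subset_univ (insert one (Finset.univ.image X.X))) (fun _ _ _ => mul_self_nonneg _)
    rw [Finset.sum_insert (by
      intro h
      obtain ⟨i, -, e⟩ := Finset.mem_image.mp h
      exact X.ne_one i (congrArg Subtype.val e)), Finset.sum_image X.inj.injOn, Fin.sum_univ_three,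
      hn', hone, ← hmi, ← hmi, ← hmi] at hle
    cases b <;> simp at hle ⊢ <;> linarith
  · obtain ⟨A, hA⟩ := S.sum_inner_psi hna hI b (X.X i).2.isCharacter
    rw [Finset.range_eq_Ico, Finset.sum_eq_sum_Ico_succ_bot (by omega : 0 < T),
      Finset.sum_congr rfl fun k hk => show 4 * classInner (S.psi b k) (X.X i : G → ℂ) =
        4 * ((X.ε i : ℂ) * (m i : ℂ)) by
          rw [Finset.mem_Ico] at hk
          rw [← hm k (by omega) hk.2 i, ← mul_assoc (X.ε i : ℂ), S.ε_sq hna hI, one_mul]] at hA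
    have h0 : classInner (S.psi b 0) (X.X i : G → ℂ) = 0 := by
      have e : S.psi b 0 = 0 := by
        rw [psi, show S.fpsi b 0 = 0 from funext fun x => by simp [fpsi], indFun_zero]
      rw [e, classInner_zero_left]
    rw [h0, mul_zero, zero_add, Finset.sum_const, Nat.card_Ico, nsmul_eq_mul,
      Nat.cast_sub (by omega : 0 + 1 ≤ T)] at hA
    have hconj1 : conj ((X.X i : G → ℂ) 1) = (X.X i : G → ℂ) 1 := by
      rw [← (X.X i).2.isCharacter.apply_inv, inv_one]
    have hconjt : conj ((X.X i : G → ℂ) S.t) = (X.X i : G → ℂ) S.t := by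
      rw [← (X.X i).2.isCharacter.apply_inv, S.t_inv]
    rw [hconj1, hconjt] at hA
    refine ⟨4 * X.ε i * A - 4 * m i, ?_⟩
    rw [← Int.cast_inj (α := ℂ)]
    push_cast at hA ⊢
    rw [← X.hx, ← X.hy]
    linear_combination (norm := skip) (X.ε i : ℂ) * hA
    cases b <;> simp only [Bool.false_eq_true, if_false, if_true] <;>
      linear_combination -(((T : ℂ) - 1) * 4 * (m i : ℂ)) * S.ε_sq hna hI X i
  · have h1 := hm 1 h10 h1T i
    have h2 := hm (T - 1) (by omega) (by omega) j
    rw [← hij, ← S.conj_psi hna hI b (k := 1) (by omega), classInner_conjFn, ← classInner_conj_symm,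
      ← hε] at h2
    have h1' := congrArg conj h1
    rw [map_mul, map_intCast, map_intCast, h2] at h1'
    exact_mod_cast h1'.symm

/-- The three-term decomposition when the second multiplicities are not all zero. -/
theorem mult_cross (R : S.Rot) (X : Trio S) {m : Fin 3 → ℤ} (hm : S.IsMult X true m) {i j : Fin 3}
    (hij : i ≠ j) (hi : m i = 1) (hj : m j = -1) : X.y i * X.x j = X.y j * X.x i := by
  classical
  obtain ⟨-, -, -, hT7, -⟩ := S.q_facts
  have h10 : (1 : ℕ) ≠ 0 := one_ne_zero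
  have h1T : 1 < T := by omega
  have hgen := S.isGen_psi true 1
  choose c hc using fun χ : IrrCharacter G => hgen.exists_int_classInner χ.2.isCharacter.isGeneralized
  have hn := S.inner_same hna hI R true h10 h1T h10 h1T
  rw [if_pos (S.relB_refl hna hI R true 1), classInner_eq_sum hgen.isClassFunction] at hn
  simp only [hc, map_intCast, if_true] at hn
  have hn' : ∑ χ, c χ * c χ = 3 := by
    rw [← Int.cast_inj (α := ℂ)]; push_cast; rw [hn]; norm_num
  have hci : c (X.X i) = X.ε i := by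
    have h := hm 1 h10 h1T i
    rw [hc, hi] at h
    have h' : X.ε i * c (X.X i) = 1 := by exact_mod_cast h
    rcases X.sign i with e | e <;> rw [e] at h' ⊢ <;> omega
  have hcj : c (X.X j) = -X.ε j := by
    have h := hm 1 h10 h1T j
    rw [hc, hj] at h
    have h' : X.ε j * c (X.X j) = -1 := by exact_mod_cast h
    rcases X.sign j with e | e <;> rw [e] at h' ⊢ <;> omega
  have hne : X.X i ≠ X.X j := fun e => hij (X.inj e)
  set W := (Finset.univ \ {X.X i, X.X j}).filter fun χ => c χ ≠ 0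
  have hsplit : ∀ F : IrrCharacter G → ℂ, ∑ χ, (c χ : ℂ) * F χ =
      (c (X.X i) : ℂ) * F (X.X i) + (c (X.X j) : ℂ) * F (X.X j) + ∑ χ ∈ W, (c χ : ℂ) * F χ := by
    intro F
    simp only [W]
    rw [Finset.sum_filter_of_ne (p := fun χ => c χ ≠ 0) (fun χ _ h e => h (by rw [e]; simp)),
      ← Finset.sum_sdiff (Finset.subset_univ {X.X i, X.X j}), Finset.sum_pair hne, add_comm]
  have hW : ∀ χ ∈ W, c χ * c χ = 1 ∧ W = {χ} := by
    intro χ hχ
    have h1 : ∑ χ ∈ W, c χ * c χ = 1 := by
      have h := hsplit (fun χ => (c χ : ℂ))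
      have h' : ∑ χ, c χ * c χ = c (X.X i) * c (X.X i) + c (X.X j) * c (X.X j) + ∑ χ ∈ W, c χ * c χ := by
        exact_mod_cast h
      rw [hn', hci, hcj] at h'
      rcases X.sign i with e | e <;> rcases X.sign j with e' | e' <;> rw [e, e'] at h' <;> omega
    have hpos : ∀ μ ∈ W, 1 ≤ c μ * c μ := fun μ hμ => by
      have := mul_self_pos.mpr (Finset.mem_filter.mp hμ).2
      omega
    have hcard : (W.card : ℤ) ≤ 1 := by
      rw [← h1, Finset.card_eq_sum_ones, Nat.cast_sum]
      exact Finset.sum_le_sum fun μ hμ => by simpa using hpos μ hμ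
    have hWχ : W = {χ} := Finset.eq_singleton_iff_unique_mem.mpr ⟨hχ, fun μ hμ =>
      Finset.card_le_one.mp (by exact_mod_cast hcard) μ hμ χ hχ⟩
    rw [hWχ, Finset.sum_singleton] at h1
    exact ⟨h1, hWχ⟩
  have hexp : ∀ g, S.psi true 1 g = ∑ χ : IrrCharacter G, (c χ : ℂ) * (χ : G → ℂ) g := fun g => by
    conv_lhs => rw [eq_sum_classInner hgen.isClassFunction]
    simp [Finset.sum_apply, hc]
  -- the pairs of involutions
  have hpc : ∑ g : G, (pc g : ℂ) * S.psi true 1 g = 0 := by
    haveI := Fintype.ofFinite S.K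
    have hcf : IsClassFunction G (fun g => (pc g : ℂ)) := fun g h => by
      show (pc (h * g * h⁻¹) : ℂ) = pc g
      rw [pc_conj]
    have e : ∑ g : G, (pc g : ℂ) * S.psi true 1 g =
        (Nat.card G : ℂ) * classInner (S.psi true 1) (fun g => (pc g : ℂ)) := by
      rw [classInner, ← mul_assoc, mul_inv_cancel₀ card_cast_ne_zero, one_mul]
      exact Finset.sum_congr rfl fun g _ => by rw [Complex.conj_natCast]; ring
    rw [e, psi, classInner_indFun S.K _ hcf]
    have : classInner (S.fpsi true 1) (fun h : S.K => (pc (h : G) : ℂ)) =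
        ((4 * T : ℕ) : ℂ) * classInner (S.fpsi true 1) (fun _ : S.K => 1) := by
      rw [classInner, classInner, Finset.mul_sum, Finset.mul_sum, Finset.mul_sum]
      refine Finset.sum_congr rfl fun x _ => ?_
      by_cases hx : (x : G) * x = 1
      · rw [S.fpsi_of_sq true 1 hx]; ring
      · rw [S.pc_K hna hI x.2 hx, Complex.conj_natCast, map_one]; ring
    rw [this]
    have h0 := S.inner_psi_one hna hI true h10 h1T
    rw [psi, classInner_indFun S.K _ (fun _ _ => rfl)] at h0
    rw [h0]; simp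
  have hN : (numInvol G : ℂ) ≠ 0 := by
    haveI : Nonempty {x : G // IsInvol x} := ⟨⟨S.t, S.t_invol⟩⟩
    exact Nat.cast_ne_zero.mpr Nat.card_pos.ne'
  rw [← sum_pairs_eq_pc, sum_invol_pair_eq hgen.isClassFunction] at hpc
  simp only [hc, S.sum_invol_char hna (IsIrrCharacter.isClassFunction (Subtype.prop _))] at hpc
  have hp' : ∑ χ : IrrCharacter G, (c χ : ℂ) * ((χ : G → ℂ) S.t ^ 2 / (χ : G → ℂ) 1) = 0 := by
    have : ((numInvol G : ℂ)) ^ 2 * ∑ χ : IrrCharacter G,
        (c χ : ℂ) * ((χ : G → ℂ) S.t ^ 2 / (χ : G → ℂ) 1) = 0 := by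
      rw [← hpc, Finset.mul_sum]
      exact Finset.sum_congr rfl fun χ _ => by ring
    exact (mul_eq_zero.mp this).resolve_left (pow_ne_zero 2 hN)
  have e1 := hexp 1
  have et := hexp S.t
  rw [S.psi_invol true 1 (one_mul 1), hsplit] at e1
  rw [S.psi_invol true 1 S.t_sq, hsplit] at et
  rw [hsplit] at hp'
  have hxi := X.nz i
  have hxj := X.nz j
  rcases W.eq_empty_or_nonempty with hW0 | ⟨χ, hχ⟩
  · rw [hW0, Finset.sum_empty, add_zero, hci, hcj, Int.cast_neg, neg_mul, X.hx, X.hx] at e1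
    rw [hW0, Finset.sum_empty, add_zero, hci, hcj, Int.cast_neg, neg_mul, X.hy, X.hy] at et
    have e1' : ((X.x i : ℤ) : ℂ) = X.x j := by linear_combination -e1
    have et' : ((X.y i : ℤ) : ℂ) = X.y j := by linear_combination -et
    rw [show X.x j = X.x i by exact_mod_cast e1'.symm, show X.y i = X.y j by exact_mod_cast et']
  · obtain ⟨hcc, hWχ⟩ := hW χ hχ
    rw [hWχ, Finset.sum_singleton, hci, hcj, Int.cast_neg, neg_mul, X.hx, X.hx] at e1
    rw [hWχ, Finset.sum_singleton, hci, hcj, Int.cast_neg, neg_mul, X.hy, X.hy] at et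
    rw [hWχ, Finset.sum_singleton, hci, hcj] at hp'
    have key : ∀ l, (X.ε l : ℂ) * ((X.X l : G → ℂ) S.t ^ 2 / (X.X l : G → ℂ) 1) =
        (X.y l : ℂ) ^ 2 / (X.x l : ℂ) := fun l => by
      rw [← X.hy l, ← X.hx l]
      rcases X.sign l with e | e <;> rw [e] <;> push_cast <;> field_simp
    have hccC : (c χ : ℂ) * c χ = 1 := by exact_mod_cast hcc
    have hcne : (c χ : ℂ) ≠ 0 := left_ne_zero_of_mul_eq_one hccC
    have key' : (c χ : ℂ) * ((χ : G → ℂ) S.t ^ 2 / (χ : G → ℂ) 1) =
        ((c χ : ℂ) * (χ : G → ℂ) S.t) ^ 2 / ((c χ : ℂ) * (χ : G → ℂ) 1) := by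
      field_simp
    have hz : (c χ : ℂ) * (χ : G → ℂ) 1 ≠ 0 := mul_ne_zero hcne χ.2.apply_one_ne_zero
    have hz' : (c χ : ℂ) * (χ : G → ℂ) 1 = (X.x j : ℂ) - X.x i := by linear_combination -e1
    rw [Int.cast_neg, neg_mul, key, key, key', hz',
      show (c χ : ℂ) * (χ : G → ℂ) S.t = (X.y j : ℂ) - X.y i by linear_combination -et] at hp'
    rw [hz'] at hz
    have hxi' : (X.x i : ℂ) ≠ 0 := by exact_mod_cast hxi
    have hxj' : (X.x j : ℂ) ≠ 0 := by exact_mod_cast hxj
    field_simp at hp'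
    have hsq : (((X.y i * X.x j - X.y j * X.x i) ^ 2 : ℤ) : ℂ) = 0 := by
      push_cast
      linear_combination hp'
    exact sub_eq_zero.mp (pow_eq_zero_iff two_ne_zero |>.mp (by exact_mod_cast hsq))

end Setup

end Cfsg.Lib.ReeType
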