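import Cfsg.Agent.Lib.ReeType.Model
import Cfsg.Agent.Lib.Recog.TwoTimesAlt.Transfer

/-!
# Groups with an involution centralizer `⟨t⟩ × PSL₂(3^(2n+1))` of odd index

The Sylow two-subgroup is elementary abelian of order eight and, in a simple group, there is one
class of involutions.
-/

set_option autoImplicit false
set_option linter.unusedSectionVars false
set_option linter.style.haveILetI false

namespace Cfsg.Lib.ReeType

open Subgroup

/-- The hypothesis on the involution centralizer. -/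
structure Setup (G L : Type*) [Group G] [Group L] (n T : ℕ) where
  D : LData L (3 ^ (2 * n + 1)) T
  φ : L →* G
  inj : Function.Injective φ
  t : G
  t_sq : t * t = 1
  t_ne : t ≠ 1
  comm : ∀ l, t * φ l = φ l * t
  not_mem : ∀ l, φ l ≠ t
  cent : ∀ g : G, g * t = t * g → ∃ l, g = φ l ∨ g = t * φ l
  odd_index : Odd (centralizer ({t} : Set G)).index
  one_le : 1 ≤ n
  hT : 4 * T = 3 ^ (2 * n + 1) + 1

/-- Conjugation preserves products. -/
theorem conj_mul' {G : Type*} [Group G] (g a b : G) :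
    g * (a * b) * g⁻¹ = g * a * g⁻¹ * (g * b * g⁻¹) := by group

namespace Setup

variable {G L : Type*} [Group G] [Group L] {n T : ℕ} (S : Setup G L n T)
include S

/-- The conjugated configuration. -/
def conj (g : G) : Setup G L n T where
  D := S.D
  φ := (MulAut.conj g).toMonoidHom.comp S.φ
  inj := (MulAut.conj g).injective.comp S.inj
  t := g * S.t * g⁻¹
  t_sq := by rw [← conj_mul', S.t_sq]; group
  t_ne h := S.t_ne (conj_eq_one_iff.mp h)
  comm l := by
    show g * S.t * g⁻¹ * (g * S.φ l * g⁻¹) = g * S.φ l * g⁻¹ * (g * S.t * g⁻¹)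
    rw [← conj_mul', S.comm, conj_mul']
  not_mem l h := S.not_mem l (by
    have h' : g * S.φ l * g⁻¹ = g * S.t * g⁻¹ := h
    simpa using h')
  cent x hx := by
    obtain ⟨l, hl⟩ := S.cent (g⁻¹ * x * g) (by
      calc g⁻¹ * x * g * S.t = g⁻¹ * (x * (g * S.t * g⁻¹)) * g := by group
        _ = S.t * (g⁻¹ * x * g) := by rw [hx]; group)
    refine ⟨l, hl.imp (fun h => ?_) (fun h => ?_)⟩
    · show x = g * S.φ l * g⁻¹
      rw [← h]; group
    · show x = g * S.t * g⁻¹ * (g * S.φ l * g⁻¹)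
      rw [← conj_mul', ← h]; group
  odd_index := by
    have : centralizer ({g * S.t * g⁻¹} : Set G) =
        (centralizer ({S.t} : Set G)).map (MulAut.conj g).toMonoidHom := by
      ext x
      rw [mem_map_equiv, mem_centralizer_singleton_iff, mem_centralizer_singleton_iff]
      simp only [MulAut.conj_symm_apply]
      constructor
      · intro h
        calc g⁻¹ * x * g * S.t = g⁻¹ * (x * (g * S.t * g⁻¹)) * g := by group
          _ = S.t * (g⁻¹ * x * g) := by rw [h]; group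
      · intro h
        calc x * (g * S.t * g⁻¹) = g * (g⁻¹ * x * g * S.t) * g⁻¹ := by group
          _ = g * S.t * g⁻¹ * x := by rw [h]; group
    rw [this, index_map_of_bijective (MulAut.conj g).bijective]
    exact S.odd_index
  one_le := S.one_le
  hT := S.hT

theorem conj_t (g : G) : (S.conj g).t = g * S.t * g⁻¹ := rfl

theorem conj_φ (g : G) (l : L) : (S.conj g).φ l = g * S.φ l * g⁻¹ := rfl

theorem t_inv : S.t⁻¹ = S.t := inv_eq_of_mul_eq_one_right S.t_sq

theorem t_mul_t_mul (x : G) : S.t * (S.t * x) = x := by rw [← mul_assoc, S.t_sq, one_mul]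

theorem q_facts : 3 ^ (2 * n + 1) % 8 = 3 ∧ 27 ≤ 3 ^ (2 * n + 1) ∧ T % 2 = 1 ∧ 7 ≤ T ∧
    ¬ 3 ∣ T ∧ 3 ∣ 3 ^ (2 * n + 1) := by
  have h8 := card_mod_eight n
  have h27 : 27 ≤ 3 ^ (2 * n + 1) := by
    calc 27 = 3 ^ 3 := by norm_num
      _ ≤ 3 ^ (2 * n + 1) := Nat.pow_le_pow_right (by norm_num) (by have := S.one_le; omega)
  have h3 : 3 ∣ 3 ^ (2 * n + 1) := dvd_pow_self 3 (by omega)
  have := S.hT
  refine ⟨h8, h27, by omega, by omega, by omega, h3⟩

theorem t_mul_φ_ne (l l' : L) : S.t * S.φ l ≠ S.φ l' := fun h => S.not_mem (l' * l⁻¹) (by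
  rw [map_mul, map_inv, ← h, mul_assoc, mul_inv_cancel, mul_one])

theorem mem_cent (g : G) (h : ∃ l, g = S.φ l ∨ g = S.t * S.φ l) : g * S.t = S.t * g := by
  obtain ⟨l, rfl | rfl⟩ := h
  · exact (S.comm l).symm
  · rw [mul_assoc, ← S.comm]

theorem t_φ_mul (l l' : L) : S.t * S.φ l * (S.t * S.φ l') = S.φ (l * l') := by
  rw [map_mul, S.comm l, mul_assoc, S.t_mul_t_mul]

theorem t_φ_pow_two (l : L) : S.t * S.φ l * (S.t * S.φ l) = S.φ (l * l) := S.t_φ_mul l l

theorem involution_cent {g : G} (hg : g * S.t = S.t * g) (h2 : g * g = 1) :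
    ∃ l, l * l = 1 ∧ (g = S.φ l ∨ g = S.t * S.φ l) := by
  obtain ⟨l, hl⟩ := S.cent g hg
  refine ⟨l, S.inj ?_, hl⟩
  rw [map_one, ← h2]
  rcases hl with h | h
  · rw [h, map_mul]
  · rw [h, S.t_φ_pow_two]

/-- The bijection of `L × Bool` with the centralizer of the involution. -/
noncomputable def centEquiv : L ⊕ L ≃ centralizer ({S.t} : Set G) :=
  Equiv.ofBijective
    (Sum.elim (fun l => ⟨S.φ l, mem_centralizer_singleton_iff.mpr (S.comm l).symm⟩)
      (fun l => ⟨S.t * S.φ l, mem_centralizer_singleton_iff.mpr (S.mem_cent _ ⟨l, Or.inr rfl⟩)⟩))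
    ⟨by
      rintro (a | a) (b | b) h <;> have h' := congrArg Subtype.val h <;>
        simp only [Sum.elim_inl, Sum.elim_inr] at h'
      · rw [S.inj h']
      · exact absurd h'.symm (S.t_mul_φ_ne b a)
      · exact absurd h' (S.t_mul_φ_ne a b)
      · rw [S.inj (mul_left_cancel h')],
    by
      rintro ⟨g, hg⟩
      obtain ⟨l, hl | hl⟩ := S.cent g (mem_centralizer_singleton_iff.mp hg)
      · exact ⟨Sum.inl l, Subtype.ext hl.symm⟩
      · exact ⟨Sum.inr l, Subtype.ext hl.symm⟩⟩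

theorem card_cent [Finite L] : Nat.card (centralizer ({S.t} : Set G)) =
    3 ^ (2 * n + 1) * (3 ^ (2 * n + 1) * 3 ^ (2 * n + 1) - 1) := by
  rw [← Nat.card_congr S.centEquiv, Nat.card_sum, ← two_mul]
  exact S.D.card_L

theorem finite_L [Finite G] : Finite L := Finite.of_injective _ S.inj

theorem not_sixteen_dvd [Finite G] : ¬ 16 ∣ Nat.card G := by
  haveI := S.finite_L
  intro h
  rw [← (centralizer ({S.t} : Set G)).card_mul_index, S.card_cent] at h
  have h2 := Nat.Coprime.dvd_of_dvd_mul_right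
    (Nat.Coprime.pow_left 4 (Nat.prime_two.coprime_iff_not_dvd.mpr (fun h => by
      have := S.odd_index
      rw [Nat.odd_iff] at this
      omega))) h
  obtain ⟨hq8, -⟩ := S.q_facts
  have h3 := Nat.Coprime.dvd_of_dvd_mul_left
    (Nat.Coprime.pow_left 4 (Nat.prime_two.coprime_iff_not_dvd.mpr (fun h => by omega))) h2
  obtain ⟨c, hc⟩ : ∃ c, 3 ^ (2 * n + 1) = 8 * c + 3 := ⟨3 ^ (2 * n + 1) / 8, by omega⟩
  rw [hc, show (8 * c + 3) * (8 * c + 3) = 16 * (4 * c * c + 3 * c) + 9 by ring] at h3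
  omega

/-- The four-group in the image of `L`. -/
def InFour (l : L) : Prop :=
  l = 1 ∨ l = S.D.z ∨ l = S.D.r * S.D.z * S.D.r⁻¹ ∨ l = S.D.z * (S.D.r * S.D.z * S.D.r⁻¹)

theorem z'_sq : S.D.r * S.D.z * S.D.r⁻¹ * (S.D.r * S.D.z * S.D.r⁻¹) = 1 := by
  rw [← conj_mul', S.D.z_sq]; group

theorem inFour_sq {l : L} (h : S.InFour l) : l * l = 1 := by
  rcases h with rfl | rfl | rfl | rfl
  · exact one_mul 1
  · exact S.D.z_sq
  · exact S.z'_sq
  · rw [mul_assoc, ← mul_assoc (S.D.r * S.D.z * S.D.r⁻¹), S.D.r_comm, mul_assoc S.D.z, S.z'_sq,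
      mul_one, S.D.z_sq]

theorem inFour_comm {a b : L} (ha : S.InFour a) (hb : S.InFour b) : a * b = b * a := by
  have hzz : Commute S.D.z (S.D.r * S.D.z * S.D.r⁻¹) := S.D.r_comm.symm
  rcases ha with rfl | rfl | rfl | rfl <;> rcases hb with rfl | rfl | rfl | rfl <;>
    first
      | exact (Commute.one_left _).eq
      | exact (Commute.one_right _).eq
      | exact rfl
      | exact hzz.eq
      | exact hzz.symm.eq
      | exact ((Commute.refl _).mul_right hzz).eq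
      | exact ((Commute.refl _).mul_right hzz).symm.eq
      | exact (hzz.symm.mul_right (Commute.refl _)).eq
      | exact (hzz.symm.mul_right (Commute.refl _)).symm.eq

theorem inFour_iff {l : L} : S.InFour l ↔
    l * S.D.z = S.D.z * l ∧
      l * (S.D.r * S.D.z * S.D.r⁻¹) = S.D.r * S.D.z * S.D.r⁻¹ * l :=
  ⟨fun h => ⟨S.inFour_comm h (Or.inr (Or.inl rfl)), S.inFour_comm h (Or.inr (Or.inr (Or.inl rfl)))⟩,
    fun h => S.D.cent_four l h.1 h.2⟩

/-- The elementary abelian subgroup of order eight. -/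
def elem : Subgroup G where
  carrier := {g | ∃ l, S.InFour l ∧ (g = S.φ l ∨ g = S.t * S.φ l)}
  one_mem' := ⟨1, Or.inl rfl, Or.inl (map_one _).symm⟩
  mul_mem' := by
    rintro a b ⟨l, hl, ha⟩ ⟨l', hl', hb⟩
    have hm : S.InFour (l * l') := S.inFour_iff.mpr
      ⟨Commute.mul_left (S.inFour_iff.mp hl).1 (S.inFour_iff.mp hl').1,
       Commute.mul_left (S.inFour_iff.mp hl).2 (S.inFour_iff.mp hl').2⟩
    refine ⟨l * l', hm, ?_⟩
    rcases ha with rfl | rfl <;> rcases hb with rfl | rfl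
    · exact Or.inl (map_mul _ _ _).symm
    · exact Or.inr (by rw [map_mul, ← mul_assoc, ← S.comm, mul_assoc])
    · exact Or.inr (by rw [map_mul, mul_assoc])
    · exact Or.inl (S.t_φ_mul _ _)
  inv_mem' := by
    rintro a ⟨l, hl, ha⟩
    refine ⟨l, hl, ha.imp (fun h => ?_) (fun h => ?_)⟩
    · rw [h, ← map_inv, inv_eq_of_mul_eq_one_right (S.inFour_sq hl)]
    · rw [h, mul_inv_rev, S.t_inv, ← map_inv, inv_eq_of_mul_eq_one_right (S.inFour_sq hl), S.comm]

theorem elem_sq {g : G} (hg : g ∈ S.elem) : g * g = 1 := by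
  obtain ⟨l, hl, rfl | rfl⟩ := hg
  · rw [← map_mul, S.inFour_sq hl, map_one]
  · rw [S.t_φ_pow_two, S.inFour_sq hl, map_one]

theorem t_mem_elem : S.t ∈ S.elem := ⟨1, Or.inl rfl, Or.inr (by rw [map_one, mul_one])⟩

theorem φ_mem_elem {l : L} (hl : S.InFour l) : S.φ l ∈ S.elem := ⟨l, hl, Or.inl rfl⟩

theorem elem_comm {a b : G} (ha : a ∈ S.elem) (hb : b ∈ S.elem) : a * b = b * a := by
  have hi : ∀ x ∈ S.elem, x⁻¹ = x := fun x hx => inv_eq_of_mul_eq_one_right (S.elem_sq hx)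
  calc a * b = (a * b)⁻¹ := (hi _ (mul_mem ha hb)).symm
    _ = b * a := by rw [mul_inv_rev, hi a ha, hi b hb]

theorem cent_elem {g : G} (hg : ∀ x ∈ S.elem, g * x = x * g) : g ∈ S.elem := by
  obtain ⟨l, hl⟩ := S.cent g (hg _ S.t_mem_elem)
  have key : ∀ v, S.InFour v → l * v = v * l := by
    intro v hv
    refine S.inj ?_
    have h := hg _ (S.φ_mem_elem hv)
    rcases hl with rfl | rfl
    · rwa [map_mul, map_mul]
    · rw [map_mul, map_mul]
      rw [mul_assoc, ← mul_assoc (S.φ v), ← S.comm, mul_assoc] at h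
      exact mul_left_cancel h
  exact ⟨l, S.inFour_iff.mpr ⟨key _ (Or.inr (Or.inl rfl)), key _ (Or.inr (Or.inr (Or.inl rfl)))⟩, hl⟩

/-- A sum of two copies of the four-group maps onto the elementary abelian subgroup. -/
theorem card_elem : Nat.card S.elem = 8 := by
  classical
  have h1 := S.D.z_ne
  set z := S.D.z
  set z' := S.D.r * S.D.z * S.D.r⁻¹ with hz'
  have h2 : z' ≠ 1 := fun h => h1 (conj_eq_one_iff.mp h)
  have h3 : z' ≠ z := S.D.r_z
  have h4 : z * z' ≠ 1 := fun h => h3 (mul_left_cancel (h.trans S.D.z_sq.symm))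
  have h5 : z * z' ≠ z := fun h => h2 (mul_left_cancel (h.trans (mul_one z).symm))
  have h6 : z * z' ≠ z' := fun h => h1 (mul_right_cancel (h.trans (one_mul z').symm))
  have e : ({1, z, z', z * z'} : Finset L).card = 4 := by
    simp [h1.symm, h2.symm, h4.symm, h3.symm, h5.symm, h6.symm]
  have hF : ∀ l, l ∈ ({1, z, z', z * z'} : Finset L) ↔ S.InFour l := by
    intro l; simp [InFour, z, z']
  have hX : (S.elem : Set G) = ↑(({1, z, z', z * z'} : Finset L).image S.φ ∪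
      ({1, z, z', z * z'} : Finset L).image fun l => S.t * S.φ l) := by
    ext g
    simp only [Finset.coe_union, Finset.coe_image, Set.mem_union, Set.mem_image, Finset.mem_coe]
    constructor
    · rintro ⟨l, hl, h | h⟩
      · exact Or.inl ⟨l, (hF l).mpr hl, h.symm⟩
      · exact Or.inr ⟨l, (hF l).mpr hl, h.symm⟩
    · rintro (⟨l, hl, rfl⟩ | ⟨l, hl, rfl⟩)
      · exact ⟨l, (hF l).mp hl, Or.inl rfl⟩
      · exact ⟨l, (hF l).mp hl, Or.inr rfl⟩
  show Nat.card (S.elem : Set G) = 8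
  rw [hX, Nat.card_coe_set_eq, Set.ncard_coe_finset, Finset.card_union_of_disjoint, Finset.card_image_of_injective _ S.inj,
    Finset.card_image_of_injective _ (fun a b h => S.inj (mul_left_cancel h)), e]
  rw [Finset.disjoint_left]
  intro g hg hg'
  obtain ⟨l, -, rfl⟩ := Finset.mem_image.mp hg
  obtain ⟨l', -, h⟩ := Finset.mem_image.mp hg'
  exact S.t_mul_φ_ne l' l h

variable [Finite G]

theorem isPGroup_elem : IsPGroup 2 S.elem := IsPGroup.of_card (n := 3) S.card_elem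

/-- The Sylow two-subgroup. -/
theorem exists_sylow : ∃ P : Sylow 2 G, (P : Subgroup G) = S.elem := by
  haveI : Fact (Nat.Prime 2) := ⟨Nat.prime_two⟩
  obtain ⟨P, hP⟩ := S.isPGroup_elem.exists_le_sylow
  refine ⟨P, (eq_of_le_of_card_ge hP ?_).symm⟩
  obtain ⟨j, hj⟩ := IsPGroup.iff_card.mp P.isPGroup'
  rw [S.card_elem, hj]
  by_contra h
  have h4 : 4 ≤ j := by
    by_contra hh
    push Not at hh
    interval_cases j <;> norm_num at h
  exact S.not_sixteen_dvd ((dvd_trans (show 16 ∣ 2 ^ j from pow_dvd_pow 2 h4) (dvd_refl _)).trans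
    (hj ▸ card_subgroup_dvd_card _))

theorem isPGroup_sq {H : Subgroup G} (hH : IsPGroup 2 H) :
    (∀ x ∈ H, x * x = 1) ∧ (∀ x ∈ H, ∀ y ∈ H, x * y = y * x) ∧ Nat.card H ≤ 8 := by
  haveI : Fact (Nat.Prime 2) := ⟨Nat.prime_two⟩
  obtain ⟨P, hP⟩ := S.exists_sylow
  obtain ⟨R, hR⟩ := hH.exists_le_sylow
  obtain ⟨g, rfl⟩ := MulAction.exists_smul_eq G P R
  rw [Sylow.coe_subgroup_smul, hP] at hR
  have hmem : ∀ x ∈ H, ∃ e ∈ S.elem, x = g * e * g⁻¹ := by
    intro x hx
    obtain ⟨e, he, h⟩ := hR hx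
    exact ⟨e, he, h.symm⟩
  refine ⟨fun x hx => ?_, fun x hx y hy => ?_, ?_⟩
  · obtain ⟨e, he, rfl⟩ := hmem x hx
    rw [← conj_mul', S.elem_sq he]; group
  · obtain ⟨e, he, rfl⟩ := hmem x hx
    obtain ⟨f, hf, rfl⟩ := hmem y hy
    rw [← conj_mul', ← conj_mul', S.elem_comm he hf]
  · calc Nat.card H ≤ Nat.card _ := card_le_of_le hR
      _ = Nat.card S.elem := (Nat.card_congr ((equivMapOfInjective _ _ (MulAut.conj g).injective).toEquiv)).symm
      _ = 8 := S.card_elem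

theorem sq_of_pow_two_pow {x : G} {j : ℕ} (hx : x ^ 2 ^ j = 1) : x * x = 1 := by
  obtain ⟨i, -, hi⟩ := (Nat.dvd_prime_pow Nat.prime_two).mp (orderOf_dvd_of_pow_eq_one hx)
  exact (S.isPGroup_sq (IsPGroup.of_card (n := i) (by rw [Nat.card_zpowers, hi]))).1 x (mem_zpowers x)

theorem exists_conj_elem {x : G} (hx : x * x = 1) : ∃ g : G, g * x * g⁻¹ ∈ S.elem := by
  haveI : Fact (Nat.Prime 2) := ⟨Nat.prime_two⟩
  obtain ⟨P, hP⟩ := S.exists_sylow
  obtain ⟨i, -, hi⟩ := (Nat.dvd_prime_pow Nat.prime_two).mp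
    (orderOf_dvd_of_pow_eq_one (show x ^ 2 ^ 1 = 1 by rw [pow_one, sq, hx]))
  obtain ⟨R, hR⟩ := (IsPGroup.of_card (n := i) (show Nat.card (zpowers x) = 2 ^ i by
    rw [Nat.card_zpowers, hi])).exists_le_sylow
  obtain ⟨g, hg⟩ := MulAction.exists_smul_eq G R P
  refine ⟨g, ?_⟩
  rw [← hP, ← hg, Sylow.coe_subgroup_smul]
  exact ⟨x, hR (mem_zpowers x), rfl⟩

theorem r_normalizes : S.φ S.D.r ∈ normalizer (S.elem : Set G) := by
  have h4 : ∀ l, S.InFour l → S.InFour (S.D.r * l * S.D.r⁻¹) := by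
    intro l hl
    rcases hl with rfl | rfl | rfl | rfl
    · exact Or.inl (by group)
    · exact Or.inr (Or.inr (Or.inl rfl))
    · exact Or.inr (Or.inr (Or.inr S.D.r_cycle))
    · refine Or.inr (Or.inl ?_)
      rw [conj_mul', S.D.r_cycle, ← mul_assoc, S.D.r_comm, mul_assoc, S.z'_sq, mul_one]
  have hmap : ∀ g ∈ S.elem, S.φ S.D.r * g * (S.φ S.D.r)⁻¹ ∈ S.elem := by
    rintro g ⟨l, hl, rfl | rfl⟩
    · exact ⟨_, h4 l hl, Or.inl (by rw [map_mul, map_mul, map_inv])⟩
    · refine ⟨_, h4 l hl, Or.inr ?_⟩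
      rw [map_mul, map_mul, map_inv, ← mul_assoc (S.φ S.D.r), ← S.comm]
      group
  rw [mem_normalizer_iff]
  intro g
  refine ⟨hmap g, fun h => ?_⟩
  have := hmap _ (hmap _ h)
  have h3 : S.φ S.D.r * S.φ S.D.r * S.φ S.D.r = 1 := by
    rw [← map_mul, ← map_mul, show S.D.r * S.D.r * S.D.r = S.D.r ^ 3 by simp [pow_succ],
      S.D.r_cube, map_one]
  have e : g = S.φ S.D.r * (S.φ S.D.r * (S.φ S.D.r * g * (S.φ S.D.r)⁻¹) * (S.φ S.D.r)⁻¹) *
      (S.φ S.D.r)⁻¹ := by
    calc g = S.φ S.D.r * S.φ S.D.r * S.φ S.D.r * g * (S.φ S.D.r * S.φ S.D.r * S.φ S.D.r)⁻¹ := by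
          rw [h3]; group
      _ = _ := by group
  rw [e]
  exact this

/-- Some element normalizing the Sylow two-subgroup moves `φ z` to `t`, and `φ z` and `t * φ z`
are conjugate to `t`. -/
theorem fusion_elem [IsSimpleGroup G] (hna : ¬ IsMulCommutative G) :
    (∃ g ∈ normalizer (S.elem : Set G), g * S.φ S.D.z * g⁻¹ = S.t) ∧
    (∃ g : G, g * (S.t * S.φ S.D.z) * g⁻¹ = S.t) := by
  classical
  haveI : Fact (Nat.Prime 2) := ⟨Nat.prime_two⟩
  obtain ⟨P, hP⟩ := S.exists_sylow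
  set N := normalizer (S.elem : Set G)
  set z := S.D.z with hzdef
  set z' := S.D.r * S.D.z * S.D.r⁻¹ with hz'def
  have hr := S.r_normalizes
  set R := S.φ S.D.r with hR
  -- the orbit of `t`
  let O : Set G := {x | ∃ g ∈ N, g * S.t * g⁻¹ = x}
  have hOr : ∀ x ∈ O, R * x * R⁻¹ ∈ O := by
    rintro _ ⟨g, hg, rfl⟩
    exact ⟨R * g, mul_mem hr hg, by group⟩
  have hOE : ∀ x ∈ O, x ∈ S.elem ∧ x ≠ 1 := by
    rintro _ ⟨g, hg, rfl⟩
    exact ⟨(mem_normalizer_iff.mp hg _).mp S.t_mem_elem, fun h => S.t_ne (conj_eq_one_iff.mp h)⟩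
  have hRz : ∀ l : L, R * S.φ l * R⁻¹ = S.φ (S.D.r * l * S.D.r⁻¹) := fun l => by
    rw [map_mul, map_mul, map_inv]
  have hRtz : ∀ l : L, R * (S.t * S.φ l) * R⁻¹ = S.t * S.φ (S.D.r * l * S.D.r⁻¹) := fun l => by
    rw [← hRz l, ← mul_assoc R, hR, ← S.comm]; group
  have hcyc2 : S.D.r * (z * z') * S.D.r⁻¹ = z := by
    rw [hz'def, hzdef, conj_mul', S.D.r_cycle, ← mul_assoc, S.D.r_comm, mul_assoc, S.z'_sq, mul_one]
  -- closure of the classes under the cycle
  have hzs : ∀ l, (l = z ∨ l = z' ∨ l = z * z') → S.φ l ∈ O →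
      S.φ z ∈ O ∧ S.φ z' ∈ O ∧ S.φ (z * z') ∈ O := by
    have s1 : S.φ z ∈ O → S.φ z' ∈ O := fun h => by have := hOr _ h; rwa [hRz] at this
    have s2 : S.φ z' ∈ O → S.φ (z * z') ∈ O := fun h => by
      have := hOr _ h; rwa [hRz, hz'def, S.D.r_cycle] at this
    have s3 : S.φ (z * z') ∈ O → S.φ z ∈ O := fun h => by
      have := hOr _ h; rwa [hRz, hcyc2] at this
    rintro l (rfl | rfl | rfl) h
    · exact ⟨h, s1 h, s2 (s1 h)⟩
    · exact ⟨s3 (s2 h), h, s2 h⟩
    · exact ⟨s3 h, s1 (s3 h), h⟩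
  have htzs : ∀ l, (l = z ∨ l = z' ∨ l = z * z') → S.t * S.φ l ∈ O →
      S.t * S.φ z ∈ O ∧ S.t * S.φ z' ∈ O ∧ S.t * S.φ (z * z') ∈ O := by
    have s1 : S.t * S.φ z ∈ O → S.t * S.φ z' ∈ O := fun h => by
      have := hOr _ h; rwa [hRtz] at this
    have s2 : S.t * S.φ z' ∈ O → S.t * S.φ (z * z') ∈ O := fun h => by
      have := hOr _ h; rwa [hRtz, hz'def, S.D.r_cycle] at this
    have s3 : S.t * S.φ (z * z') ∈ O → S.t * S.φ z ∈ O := fun h => by
      have := hOr _ h; rwa [hRtz, hcyc2] at this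
    rintro l (rfl | rfl | rfl) h
    · exact ⟨h, s1 h, s2 (s1 h)⟩
    · exact ⟨s3 (s2 h), h, s2 h⟩
    · exact ⟨s3 h, s1 (s3 h), h⟩
  have hshape : ∀ x ∈ O, x = S.t ∨ (∃ l, (l = z ∨ l = z' ∨ l = z * z') ∧ x = S.φ l) ∨
      (∃ l, (l = z ∨ l = z' ∨ l = z * z') ∧ x = S.t * S.φ l) := by
    intro x hx
    obtain ⟨⟨l, hl, h⟩, hx1⟩ := hOE x hx
    rcases hl with rfl | hl
    · rcases h with h | h
      · exact absurd (h.trans (map_one _)) hx1
      · exact Or.inl (by rw [h, map_one, mul_one])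
    · rcases h with h | h
      · exact Or.inr (Or.inl ⟨l, hl, h⟩)
      · exact Or.inr (Or.inr ⟨l, hl, h⟩)
  -- the orbit has odd size
  have hodd : Odd (Nat.card O) := by
    let tN : N := ⟨S.t, le_normalizer S.t_mem_elem⟩
    have e : Nat.card O = (centralizer ({tN} : Set N)).index := by
      rw [index_eq_card]
      symm
      refine Nat.card_congr (Equiv.ofBijective (fun c : N ⧸ centralizer ({tN} : Set N) =>
        Quotient.liftOn' c (fun g : N => (⟨(g : G) * S.t * (g : G)⁻¹, g, g.2, rfl⟩ : O)) ?_) ⟨?_, ?_⟩)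
      · intro a b hab
        rw [QuotientGroup.leftRel_apply, mem_centralizer_singleton_iff] at hab
        have h := congrArg Subtype.val hab
        simp only [Subgroup.coe_mul, Subgroup.coe_inv, tN] at h
        refine Subtype.ext ?_
        show (a : G) * S.t * (a : G)⁻¹ = b * S.t * (b : G)⁻¹
        calc (a : G) * S.t * (a : G)⁻¹ = a * (S.t * ((a : G)⁻¹ * b)) * (b : G)⁻¹ := by group
          _ = b * S.t * (b : G)⁻¹ := by rw [← h]; group
      · intro c c'
        induction c using Quotient.inductionOn' with | h a => ?_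
        induction c' using Quotient.inductionOn' with | h b => ?_
        intro h
        refine Quotient.sound' ?_
        rw [QuotientGroup.leftRel_apply, mem_centralizer_singleton_iff]
        refine Subtype.ext ?_
        have h' : (a : G) * S.t * (a : G)⁻¹ = b * S.t * (b : G)⁻¹ := congrArg Subtype.val h
        show (a : G)⁻¹ * b * S.t = S.t * ((a : G)⁻¹ * b)
        calc (a : G)⁻¹ * b * S.t = (a : G)⁻¹ * (b * S.t * (b : G)⁻¹) * b := by group
          _ = S.t * ((a : G)⁻¹ * b) := by rw [← h']; group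
      · rintro ⟨x, g, hg, rfl⟩
        exact ⟨QuotientGroup.mk ⟨g, hg⟩, rfl⟩
    rw [e]
    have hle : S.elem.subgroupOf N ≤ centralizer ({tN} : Set N) := fun g hg =>
      mem_centralizer_singleton_iff.mpr (Subtype.ext (S.elem_comm (mem_subgroupOf.mp hg) S.t_mem_elem))
    refine Odd.of_dvd_nat ?_ (index_dvd_of_le hle)
    have h1 : (S.elem.subgroupOf N).index ∣ S.elem.index :=
      Dvd.intro N.index (relIndex_mul_index le_normalizer)
    refine Odd.of_dvd_nat ?_ h1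
    rw [← hP, Nat.odd_iff]
    have := P.not_dvd_index
    omega
  have hdist : z' ≠ z := S.D.r_z
  have hne1 : z ≠ 1 := S.D.z_ne
  have hne1' : z' ≠ 1 := fun h => hne1 (conj_eq_one_iff.mp h)
  have hd1 : z * z' ≠ z := fun h => hne1' (mul_left_cancel (h.trans (mul_one z).symm))
  have hd2 : z * z' ≠ z' := fun h => hne1 (mul_right_cancel (h.trans (one_mul z').symm))
  have htO : S.t ∈ O := ⟨1, one_mem _, by group⟩
  have hφt : ∀ l, S.φ l ≠ S.t := S.not_mem
  have htt : ∀ l, l ≠ 1 → S.t * S.φ l ≠ S.t := fun l hl h => hl (S.inj (by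
    rw [map_one]; exact mul_left_cancel (h.trans (mul_one S.t).symm)))
  by_cases hz : S.φ z ∈ O <;> by_cases htz : S.t * S.φ z ∈ O
  · obtain ⟨g, hg, hgz⟩ := hz
    obtain ⟨g', hg', hgz'⟩ := htz
    exact ⟨⟨g⁻¹, inv_mem hg, by rw [← hgz]; group⟩, ⟨g'⁻¹, by rw [← hgz']; group⟩⟩
  · exfalso
    obtain ⟨h1, h2, h3⟩ := hzs z (Or.inl rfl) hz
    have hO : O = ↑({S.t, S.φ z, S.φ z', S.φ (z * z')} : Finset G) := by
      ext x
      simp only [Finset.coe_insert, Finset.coe_singleton, Set.mem_insert_iff, Set.mem_singleton_iff]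
      refine ⟨fun hx => ?_, fun hx => by rcases hx with rfl | rfl | rfl | rfl <;> assumption⟩
      rcases hshape x hx with h | ⟨l, hl, rfl⟩ | ⟨l, hl, rfl⟩
      · exact Or.inl h
      · rcases hl with rfl | rfl | rfl <;> simp
      · exact absurd (htzs l hl hx).1 htz
    rw [hO, Nat.card_coe_set_eq, Set.ncard_coe_finset, Nat.odd_iff] at hodd
    simp [(hφt z).symm, (hφt z').symm, (hφt (z * z')).symm, S.inj.ne hdist.symm, S.inj.ne hd1.symm,
      S.inj.ne hd2.symm, -map_mul] at hodd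
  · exfalso
    obtain ⟨h1, h2, h3⟩ := htzs z (Or.inl rfl) htz
    have hO : O = ↑({S.t, S.t * S.φ z, S.t * S.φ z', S.t * S.φ (z * z')} : Finset G) := by
      ext x
      simp only [Finset.coe_insert, Finset.coe_singleton, Set.mem_insert_iff, Set.mem_singleton_iff]
      refine ⟨fun hx => ?_, fun hx => by rcases hx with rfl | rfl | rfl | rfl <;> assumption⟩
      rcases hshape x hx with h | ⟨l, hl, rfl⟩ | ⟨l, hl, rfl⟩
      · exact Or.inl h
      · exact absurd (hzs l hl hx).1 hz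
      · rcases hl with rfl | rfl | rfl <;> simp
    rw [hO, Nat.card_coe_set_eq, Set.ncard_coe_finset, Nat.odd_iff] at hodd
    have hne12 : z * z' ≠ 1 := fun h => hdist (mul_left_cancel (h.trans S.D.z_sq.symm))
    simp [(htt z hne1).symm, (htt z' hne1').symm, (htt _ hne12).symm, S.inj.ne hdist.symm,
      S.inj.ne hd1.symm, S.inj.ne hd2.symm, -map_mul] at hodd
  · exfalso
    have hall : ∀ g ∈ N, g * S.t * g⁻¹ = S.t := fun g hg => by
      have hx : g * S.t * g⁻¹ ∈ O := ⟨g, hg, rfl⟩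
      rcases hshape _ hx with h | ⟨l, hl, hl'⟩ | ⟨l, hl, hl'⟩
      · exact h
      · exact absurd (hzs l hl (hl' ▸ hx)).1 hz
      · exact absurd (htzs l hl (hl' ▸ hx)).1 htz
    let f' : G → ℤˣ := fun x => if ∃ l, x = S.φ l then 1 else -1
    have f1 : ∀ l, f' (S.φ l) = 1 := fun l => if_pos ⟨l, rfl⟩
    have f2 : ∀ l, f' (S.t * S.φ l) = -1 := fun l =>
      if_neg fun ⟨l', h⟩ => S.t_mul_φ_ne l l' h
    let f : S.elem → ℤˣ := fun e => f' e
    have hf : ∀ a b : S.elem, f (a * b) = f a * f b := by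
      intro a b
      show f' ((a : G) * b) = f' a * f' b
      obtain ⟨la, -, ha | ha⟩ := a.2 <;> obtain ⟨lb, -, hb | hb⟩ := b.2 <;> rw [ha, hb]
      · rw [← map_mul, f1, f1, f1, one_mul]
      · rw [← mul_assoc, ← S.comm, mul_assoc, ← map_mul, f1, f2, f2, one_mul]
      · rw [mul_assoc, ← map_mul, f1, f2, f2, mul_one]
      · rw [S.t_φ_mul, f1, f2, f2, Int.units_mul_self]
    let ψ : (P : Subgroup G) →* ℤˣ :=
      (MonoidHom.mk' f hf).comp (MulEquiv.subgroupCongr hP).toMonoidHom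
    have hφ1 : ∀ x (hx : x ∈ (P : Subgroup G)), x = S.t → ψ ⟨x, hx⟩ = -1 := by
      intro x hx e
      show f' x = -1
      rw [e, ← mul_one S.t, ← map_one S.φ, f2]
    have htr := Cfsg.Lib.TwoTimesAlt.transfer_central P ψ (z := S.t) (by rw [sq, S.t_sq])
      (hP ▸ S.t_mem_elem) (fun s hs => S.elem_comm (hP ▸ hs) S.t_mem_elem) fun g hg hgz => by
        rw [hφ1 _ hgz (by
          have := hall g⁻¹ (by rw [hP] at hg; exact inv_mem hg)
          rwa [inv_inv] at this), hφ1 _ _ rfl]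
    rw [hφ1 _ _ rfl] at htr
    set V := MonoidHom.transfer ψ
    rcases (inferInstance : V.ker.Normal).eq_bot_or_eq_top with h | h
    · refine hna ⟨⟨fun a b => (MonoidHom.ker_eq_bot_iff V).1 h ?_⟩⟩
      rw [map_mul, map_mul, mul_comm]
    · have := MonoidHom.mem_ker.1 (h ▸ mem_top S.t : S.t ∈ V.ker)
      rw [htr] at this
      exact absurd this (by decide)

/-- All involutions are conjugate. -/
theorem exists_conj_t [IsSimpleGroup G] (hna : ¬ IsMulCommutative G) {x : G} (hx : x * x = 1)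
    (hx1 : x ≠ 1) : ∃ g : G, g * S.t * g⁻¹ = x := by
  obtain ⟨⟨gz, -, hgz⟩, gtz, hgtz⟩ := S.fusion_elem hna
  obtain ⟨g, l, hl, hg⟩ := S.exists_conj_elem hx
  have key : ∀ y, (∃ h : G, h * S.t * h⁻¹ = y) → g * x * g⁻¹ = y → ∃ h : G, h * S.t * h⁻¹ = x := by
    rintro y ⟨h, rfl⟩ e
    exact ⟨g⁻¹ * h, by rw [show g⁻¹ * h * S.t * (g⁻¹ * h)⁻¹ = g⁻¹ * (h * S.t * h⁻¹) * g by group, ← e]; group⟩
  by_cases hl1 : l = 1
  · subst hl1
    rcases hg with hg | hg
    · rw [map_one] at hg; exact absurd (conj_eq_one_iff.mp hg) hx1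
    · exact key S.t ⟨1, by group⟩ (by rw [hg, map_one, mul_one])
  · obtain ⟨c, hc⟩ := S.D.involutions_conj l (S.inFour_sq hl) hl1
    rcases hg with hg | hg
    · refine key _ ⟨S.φ c * gz⁻¹, ?_⟩ hg
      rw [← hgz, ← hc, map_mul, map_mul, map_inv]; group
    · refine key _ ⟨S.φ c * gtz⁻¹, ?_⟩ hg
      calc S.φ c * gtz⁻¹ * S.t * (S.φ c * gtz⁻¹)⁻¹ = S.φ c * (gtz⁻¹ * S.t * gtz) * (S.φ c)⁻¹ := by group
        _ = S.φ c * (S.t * S.φ S.D.z) * (S.φ c)⁻¹ := by
          congr 2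
          calc gtz⁻¹ * S.t * gtz = gtz⁻¹ * (gtz * (S.t * S.φ S.D.z) * gtz⁻¹) * gtz := by rw [hgtz]
            _ = S.t * S.φ S.D.z := by group
        _ = S.t * S.φ l := by rw [← mul_assoc, ← S.comm, ← hc, map_mul, map_mul, map_inv]; group

end Setup

end Cfsg.Lib.ReeType
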