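import Cfsg.Agent.Lib.ReeType.Count
import Cfsg.Agent.Lib.Char.InvolutionSum
import Cfsg.Agent.Lib.Char.SignedIrr

/-!
# The functions induced from `⟨t⟩ × B`
-/

set_option autoImplicit false
set_option linter.unusedSectionVars false
set_option linter.unusedVariables false
set_option linter.style.haveILetI false

namespace Cfsg.Lib.ReeType

open Subgroup Cfsg Cfsg.Lib.Char
open scoped ComplexConjugate

theorem pc_conj {G : Type*} [Group G] (g k : G) : pc (k * g * k⁻¹) = pc g := by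
  refine Nat.card_congr (Equiv.subtypeEquiv (MulAut.conj k⁻¹).toEquiv fun x => ?_)
  show _ ↔ IsInvol (k⁻¹ * x * k⁻¹⁻¹) ∧ IsInvol (k⁻¹ * x * k⁻¹⁻¹ * g)
  have e : k⁻¹ * x * k⁻¹⁻¹ * g = k⁻¹ * (x * (k * g * k⁻¹)) * k⁻¹⁻¹ := by group
  rw [e]
  refine ⟨fun h => ⟨h.1.conj _, h.2.conj _⟩, fun h => ⟨?_, ?_⟩⟩
  · have := h.1.conj k
    rwa [show k * (k⁻¹ * x * k⁻¹⁻¹) * k⁻¹ = x by group] at this
  · have := h.2.conj k
    rwa [show k * (k⁻¹ * (x * (k * g * k⁻¹)) * k⁻¹⁻¹) * k⁻¹ = x * (k * g * k⁻¹) by group] at this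

/-- A function summed over the products of two involutions. -/
theorem sum_pairs_eq_pc {G : Type*} [Group G] [Fintype G] [DecidableEq G] (F : G → ℂ) :
    ∑ x ∈ involFinset G, ∑ y ∈ involFinset G, F (x * y) = ∑ g : G, (pc g : ℂ) * F g := by
  classical
  rw [← Finset.sum_product', ← Finset.sum_fiberwise (involFinset G ×ˢ involFinset G)
    (fun p => p.1 * p.2)]
  refine Finset.sum_congr rfl fun g _ => ?_
  rw [Finset.sum_congr rfl fun p hp => by rw [(Finset.mem_filter.mp hp).2], Finset.sum_const,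
    nsmul_eq_mul]
  congr 2
  rw [pc, Nat.card_eq_fintype_card, ← Finset.card_univ]
  symm
  refine Finset.card_bij (fun x _ => ((x : {x : G // IsInvol x ∧ IsInvol (x * g)}).1, x.1 * g)) ?_ ?_ ?_
  · rintro ⟨x, hx, hxg⟩ -
    simp only [Finset.mem_filter, Finset.mem_product, mem_involFinset]
    exact ⟨⟨⟨hx.1, hx.2⟩, hxg.1, hxg.2⟩, by rw [← mul_assoc, hx.2, one_mul]⟩
  · intro a _ b _ e
    exact Subtype.ext (congrArg Prod.fst e)
  · rintro ⟨x, y⟩ hp
    simp only [Finset.mem_filter, Finset.mem_product, mem_involFinset] at hp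
    obtain ⟨⟨⟨hx1, hx2⟩, hy1, hy2⟩, rfl⟩ := hp
    have hy : x * (x * y) = y := by rw [← mul_assoc, hx2, one_mul]
    exact ⟨⟨x, ⟨hx1, hx2⟩, by rw [hy]; exact ⟨hy1, hy2⟩⟩, Finset.mem_univ _, by simp only [hy]⟩

namespace Setup

variable {G L : Type*} [Group G] [Group L] [Fintype G] {n T : ℕ} (S : Setup G L n T)
include S

theorem exists_chi : ∃ χ : zpowers S.D.a →* ℂˣ,
    orderOf (χ ⟨S.D.a, mem_zpowers _⟩) = 2 * T - 1 := by
  have hm : 2 * T - 1 ≠ 0 := by have := S.q_facts; omega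
  obtain ⟨ζ, hζ⟩ : ∃ ζ : ℂˣ, orderOf ζ = 2 * T - 1 := by
    have h := Complex.isPrimitiveRoot_exp (2 * T - 1) hm
    exact ⟨(h.isUnit hm).unit, by rw [← orderOf_units, IsUnit.unit_spec, ← h.eq_orderOf]⟩
  refine ⟨monoidHomOfForallMemZpowers (g := ⟨S.D.a, mem_zpowers _⟩) (g' := ζ) ?_ ?_, ?_⟩
  · rintro ⟨x, hx⟩
    obtain ⟨k, rfl⟩ := mem_zpowers_iff.mp hx
    exact mem_zpowers_iff.mpr ⟨k, Subtype.ext (by simp)⟩
  · rw [hζ, orderOf_mk, S.D.orderOf_a]
  · rw [monoidHomOfForallMemZpowers_apply_gen, hζ]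

/-- A faithful linear character of the split torus. -/
noncomputable def chi : zpowers S.D.a →* ℂˣ := S.exists_chi.choose

theorem orderOf_chi : orderOf (S.chi ⟨S.D.a, mem_zpowers _⟩) = 2 * T - 1 := S.exists_chi.choose_spec

theorem chi_eq_one {s : zpowers S.D.a} (h : S.chi s = 1) : s = 1 := by
  obtain ⟨s, hs⟩ := s
  obtain ⟨k, rfl⟩ := mem_zpowers_iff.mp hs
  rw [show (⟨S.D.a ^ k, hs⟩ : zpowers S.D.a) = ⟨S.D.a, mem_zpowers _⟩ ^ k from Subtype.ext (by simp),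
    map_zpow, ← orderOf_dvd_iff_zpow_eq_one, S.orderOf_chi, ← S.D.orderOf_a,
    orderOf_dvd_iff_zpow_eq_one] at h
  exact Subtype.ext h

/-- The component in the split torus. -/
noncomputable def tor (b : L) : zpowers S.D.a := by
  classical
  exact if h : ∃ u ∈ S.D.U, ∃ s : zpowers S.D.a, b = u * s then h.choose_spec.2.choose else 1

theorem tor_eq {u : L} (hu : u ∈ S.D.U) (s : zpowers S.D.a) : S.tor (u * s) = s := by
  have h : ∃ v ∈ S.D.U, ∃ r : zpowers S.D.a, u * (s : L) = v * r := ⟨u, hu, s, rfl⟩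
  rw [tor, dif_pos h]
  have e := h.choose_spec.2.choose_spec
  have hv := h.choose_spec.1
  generalize h.choose_spec.2.choose = r at e ⊢
  generalize h.choose = v at e hv
  have hm : v⁻¹ * u = (r : L) * (s : L)⁻¹ := by
    calc v⁻¹ * u = v⁻¹ * (u * s) * (s : L)⁻¹ := by group
      _ = (r : L) * (s : L)⁻¹ := by rw [e]; group
  have h1 : (r : L) * (s : L)⁻¹ = 1 := by
    have hr : (r : L) * (s : L)⁻¹ ∈ zpowers S.D.a := mul_mem r.2 (inv_mem s.2)
    have h1 : orderOf ((r : L) * (s : L)⁻¹) ∣ 2 * T - 1 := S.D.orderOf_a ▸ orderOf_dvd_of_mem_zpowers hr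
    have h2 : orderOf ((r : L) * (s : L)⁻¹) ∣ 3 := orderOf_dvd_of_pow_eq_one
      (S.D.U_cube _ (hm ▸ mul_mem (inv_mem hv) hu))
    rw [← orderOf_eq_one_iff]
    rcases (Nat.dvd_prime Nat.prime_three).mp h2 with h | h
    · exact h
    · exfalso
      rw [h] at h1
      have := S.hT
      have := S.q_facts
      omega
  exact Subtype.ext (mul_inv_eq_one.mp h1)

theorem tor_mul {b c : L} (hb : b ∈ S.D.B) (hc : c ∈ S.D.B) :
    S.tor (b * c) = S.tor b * S.tor c := by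
  obtain ⟨u, hu, s, hs, rfl⟩ := S.B_decomp hb
  obtain ⟨v, hv, r, hr, rfl⟩ := S.B_decomp hc
  rw [S.tor_eq hu ⟨s, hs⟩, S.tor_eq hv ⟨r, hr⟩]
  have e : u * s * (v * r) = u * (s * v * s⁻¹) * ((⟨s, hs⟩ * ⟨r, hr⟩ : zpowers S.D.a) : L) := by
    simp only [Subgroup.coe_mul]; group
  rw [e, S.tor_eq (mul_mem hu (S.D.U_normal s (zpowers_le.mpr S.D.a_mem hs) v hv))]

/-- The linear character of `B` with index `k`. -/
noncomputable def kap (k : ℕ) (b : L) : ℂ := ((S.chi (S.tor b) : ℂˣ) : ℂ) ^ k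

theorem kap_mul (k : ℕ) {b c : L} (hb : b ∈ S.D.B) (hc : c ∈ S.D.B) :
    S.kap k (b * c) = S.kap k b * S.kap k c := by
  rw [kap, S.tor_mul hb hc, map_mul, Units.val_mul, mul_pow]; rfl

theorem kap_U (k : ℕ) {u : L} (hu : u ∈ S.D.U) : S.kap k u = 1 := by
  have := S.tor_eq hu 1
  rw [Subgroup.coe_one, mul_one] at this
  rw [kap, this, map_one, Units.val_one, one_pow]

theorem kap_torus (k : ℕ) (s : zpowers S.D.a) : S.kap k (s : L) = ((S.chi s : ℂˣ) : ℂ) ^ k := by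
  have := S.tor_eq (one_mem S.D.U) s
  rw [one_mul] at this
  rw [kap, this]

theorem kap_conj (k : ℕ) {b c : L} (hb : b ∈ S.D.B) (hc : c ∈ S.D.B) :
    S.kap k (b * c * b⁻¹) = S.kap k c := by
  have h1 : S.kap k b * S.kap k b⁻¹ = 1 := by
    rw [← S.kap_mul k hb (inv_mem hb), mul_inv_cancel, S.kap_U k (one_mem _)]
  rw [S.kap_mul k (mul_mem hb hc) (inv_mem hb), S.kap_mul k hb hc, mul_comm (S.kap k b), mul_assoc,
    h1, mul_one]

/-- The subgroup `⟨t⟩ × B`. -/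
def Bt : Subgroup G where
  carrier := {g | ∃ b ∈ S.D.B, g = S.φ b ∨ g = S.t * S.φ b}
  one_mem' := ⟨1, one_mem _, Or.inl (map_one _).symm⟩
  mul_mem' := by
    rintro a b ⟨l, hl, ha⟩ ⟨l', hl', hb⟩
    refine ⟨l * l', mul_mem hl hl', ?_⟩
    rcases ha with rfl | rfl <;> rcases hb with rfl | rfl
    · exact Or.inl (map_mul _ _ _).symm
    · exact Or.inr (by rw [map_mul, ← mul_assoc, ← S.comm, mul_assoc])
    · exact Or.inr (by rw [map_mul, mul_assoc])
    · exact Or.inl (S.t_φ_mul _ _)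
  inv_mem' := by
    rintro a ⟨l, hl, ha⟩
    refine ⟨l⁻¹, inv_mem hl, ha.imp (fun h => ?_) (fun h => ?_)⟩
    · rw [h, map_inv]
    · rw [h, mul_inv_rev, S.t_inv, ← map_inv, S.comm]

/-- The component in `L` of an element of the centralizer of `t`. -/
noncomputable def bp (g : G) : L := by
  classical
  exact if h : ∃ l, g = S.φ l then h.choose else if h' : ∃ l, g = S.t * S.φ l then h'.choose else 1

/-- The sign of an element of the centralizer of `t`. -/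
noncomputable def sg (g : G) : ℂˣ := by
  classical
  exact if ∃ l, g = S.φ l then 1 else -1

theorem bp_φ (l : L) : S.bp (S.φ l) = l ∧ S.sg (S.φ l) = 1 := by
  have h : ∃ m, S.φ l = S.φ m := ⟨l, rfl⟩
  refine ⟨?_, by rw [sg, if_pos h]⟩
  rw [bp, dif_pos h]
  exact (S.inj h.choose_spec).symm

theorem bp_tφ (l : L) : S.bp (S.t * S.φ l) = l ∧ S.sg (S.t * S.φ l) = -1 := by
  have h : ¬ ∃ m, S.t * S.φ l = S.φ m := fun ⟨m, e⟩ => S.t_mul_φ_ne l m e
  have h' : ∃ m, S.t * S.φ l = S.t * S.φ m := ⟨l, rfl⟩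
  refine ⟨?_, by rw [sg, if_neg h]⟩
  rw [bp, dif_neg h, dif_pos h']
  exact (S.inj (mul_left_cancel h'.choose_spec)).symm

theorem bp_mul {g h : G} (hg : g ∈ S.Bt) (hh : h ∈ S.Bt) :
    S.bp (g * h) = S.bp g * S.bp h ∧ S.sg (g * h) = S.sg g * S.sg h ∧ S.bp g ∈ S.D.B := by
  obtain ⟨b, hb, rfl | rfl⟩ := hg <;> obtain ⟨c, hc, rfl | rfl⟩ := hh <;>
    simp only [(S.bp_φ _).1, (S.bp_φ _).2, (S.bp_tφ _).1, (S.bp_tφ _).2]
  · rw [← map_mul, (S.bp_φ _).1, (S.bp_φ _).2, one_mul]; exact ⟨rfl, rfl, hb⟩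
  · rw [show S.φ b * (S.t * S.φ c) = S.t * S.φ (b * c) by rw [map_mul, ← mul_assoc, ← S.comm, mul_assoc],
      (S.bp_tφ _).1, (S.bp_tφ _).2, one_mul]; exact ⟨rfl, rfl, hb⟩
  · rw [mul_assoc, ← map_mul, (S.bp_tφ _).1, (S.bp_tφ _).2, mul_one]; exact ⟨rfl, rfl, hb⟩
  · rw [S.t_φ_mul, (S.bp_φ _).1, (S.bp_φ _).2, neg_mul_neg, one_mul]; exact ⟨rfl, rfl, hb⟩

/-- The function `(1 - sgn) κ` on `⟨t⟩ × B`. -/
noncomputable def fk (k : ℕ) : S.Bt → ℂ :=
  fun h => S.kap k (S.bp h) - (S.sg h : ℂ) * S.kap k (S.bp h)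

theorem fk_φ (k : ℕ) (h : S.Bt) (l : L) (e : (h : G) = S.φ l) : S.fk k h = 0 := by
  simp [fk, e, (S.bp_φ l).1, (S.bp_φ l).2]

theorem fk_tφ (k : ℕ) (h : S.Bt) (l : L) (e : (h : G) = S.t * S.φ l) :
    S.fk k h = 2 * S.kap k l := by
  simp [fk, e, (S.bp_tφ l).1, (S.bp_tφ l).2]; ring

theorem isGen_fk (k : ℕ) : IsGeneralizedCharacter S.Bt (S.fk k) := by
  let hom₁ : S.Bt →* ℂˣ := MonoidHom.mk' (fun h => S.chi (S.tor (S.bp h)) ^ k) fun a b => by
    simp only [Subgroup.coe_mul, (S.bp_mul a.2 b.2).1]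
    rw [S.tor_mul (S.bp_mul a.2 b.2).2.2 (S.bp_mul b.2 a.2).2.2, map_mul, mul_pow]
  let σ : S.Bt →* ℂˣ := MonoidHom.mk' (fun h => S.sg h) fun a b => by
    simp only [Subgroup.coe_mul, (S.bp_mul a.2 b.2).2.1]
  refine ⟨fun h => (hom₁ h : ℂ), fun h => ((σ * hom₁) h : ℂ), (isIrrCharacter_linear hom₁).isCharacter,
    (isIrrCharacter_linear (σ * hom₁)).isCharacter, ?_⟩
  funext h
  simp [fk, kap, hom₁, σ]

/-- The induced function. -/
noncomputable def theta (k : ℕ) : G → ℂ := indFun S.Bt (S.fk k)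

theorem isGen_theta (k : ℕ) : IsGeneralizedCharacter G (S.theta k) :=
  isGeneralizedCharacter_indFun S.Bt (S.isGen_fk k)

theorem theta_one (k : ℕ) : S.theta k 1 = 0 := by
  rw [theta, indFun_apply_one, S.fk_φ k 1 1 (by simp), mul_zero]

theorem card_Bt : Nat.card S.Bt = 3 ^ (2 * n + 1) * (3 ^ (2 * n + 1) - 1) := by
  haveI := S.finite_L
  rw [← S.D.card_B, two_mul, ← Nat.card_sum]
  symm
  refine Nat.card_eq_of_bijective (Sum.elim (fun b => ⟨S.φ b.1, b.1, b.2, Or.inl rfl⟩)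
    (fun b => ⟨S.t * S.φ b.1, b.1, b.2, Or.inr rfl⟩)) ⟨?_, ?_⟩
  · rintro (⟨a, ha⟩ | ⟨a, ha⟩) (⟨b, hb⟩ | ⟨b, hb⟩) h <;> have h' := congrArg Subtype.val h <;>
      simp only [Sum.elim_inl, Sum.elim_inr] at h'
    · obtain rfl := S.inj h'; rfl
    · exact absurd h'.symm (S.t_mul_φ_ne _ _)
    · exact absurd h' (S.t_mul_φ_ne _ _)
    · obtain rfl := S.inj (mul_left_cancel h'); rfl
  · rintro ⟨g, b, hb, rfl | rfl⟩
    · exact ⟨Sum.inl ⟨b, hb⟩, rfl⟩
    · exact ⟨Sum.inr ⟨b, hb⟩, rfl⟩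

/-- Reciprocity for the induced function. -/
theorem inner_theta [Fintype S.D.B] (k : ℕ) {χ : G → ℂ} (hχ : IsClassFunction G χ) :
    classInner (S.theta k) χ =
      (Nat.card S.Bt : ℂ)⁻¹ * ∑ b : S.D.B, 2 * S.kap k b * conj (χ (S.t * S.φ b)) := by
  classical
  haveI := Fintype.ofFinite S.Bt
  rw [theta, classInner_indFun S.Bt (S.fk k) hχ, classInner]
  congr 1
  refine (Finset.sum_of_injOn (fun b : S.D.B => (⟨S.t * S.φ b, b, b.2, Or.inr rfl⟩ : S.Bt)) ?_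
    (fun b _ => Finset.mem_univ _) ?_ ?_).symm
  · intro a _ b _ e
    exact Subtype.ext (S.inj (mul_left_cancel (congrArg Subtype.val e)))
  · rintro ⟨g, b, hb, rfl | rfl⟩ _ hn
    · rw [S.fk_φ k _ b rfl, zero_mul]
    · exact absurd ⟨⟨b, hb⟩, Finset.mem_coe.mpr (Finset.mem_univ _), rfl⟩ hn
  · intro b _
    rw [S.fk_tφ k _ b rfl]

/-- A sum over `B` of a function invariant under conjugation by `U`. -/
theorem sum_B [Fintype S.D.B] [Fintype S.D.U] [Fintype (zpowers S.D.a)] (F : L → ℂ)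
    (hF : ∀ v ∈ S.D.U, ∀ s ∈ zpowers S.D.a, F (v * s * v⁻¹) = F s) :
    ∑ b : S.D.B, F b = (∑ u : S.D.U, F u) +
      ((3 ^ (2 * n + 1) : ℕ) : ℂ) * ((∑ s : zpowers S.D.a, F s) - F 1) := by
  classical
  let f : S.D.U × zpowers S.D.a → S.D.B := fun p =>
    if p.2 = 1 then ⟨p.1, S.D.U_le p.1.2⟩
    else ⟨p.1 * p.2 * (p.1 : L)⁻¹, mul_mem (mul_mem (S.D.U_le p.1.2) (zpowers_le.mpr S.D.a_mem p.2.2))
      (inv_mem (S.D.U_le p.1.2))⟩
  have hsurj : Function.Surjective f := by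
    rintro ⟨b, hb⟩
    by_cases hbU : b ∈ S.D.U
    · exact ⟨(⟨b, hbU⟩, 1), by simp [f]⟩
    · obtain ⟨v, hv, s, hs, hs1, rfl⟩ := S.B_conj hb hbU
      refine ⟨(⟨v, hv⟩, ⟨s, hs⟩), ?_⟩
      simp only [f]
      rw [if_neg (fun e => hs1 (congrArg Subtype.val e))]
  have hcard : Fintype.card (S.D.U × zpowers S.D.a) = Fintype.card S.D.B := by
    rw [Fintype.card_prod, ← Nat.card_eq_fintype_card, ← Nat.card_eq_fintype_card,
      ← Nat.card_eq_fintype_card, S.D.card_U, Nat.card_zpowers, S.D.orderOf_a]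
    have h := S.D.card_B
    have hT := S.hT
    have : 3 ^ (2 * n + 1) - 1 = 2 * (2 * T - 1) := by omega
    rw [this, ← mul_assoc, mul_comm _ 2, mul_assoc] at h
    omega
  rw [← ((Fintype.bijective_iff_surjective_and_card f).mpr ⟨hsurj, hcard⟩).sum_comp fun b => F b,
    Fintype.sum_prod_type, Finset.sum_comm, ← Finset.add_sum_erase _ _ (Finset.mem_univ (1 : zpowers S.D.a))]
  congr 1
  · refine Finset.sum_congr rfl fun u _ => ?_
    simp [f]
  · rw [← Finset.add_sum_erase _ (fun s : zpowers S.D.a => F s) (Finset.mem_univ (1 : zpowers S.D.a)),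
      Subgroup.coe_one, add_sub_cancel_left, Finset.mul_sum]
    refine Finset.sum_congr rfl fun s hs => ?_
    rw [show ((3 ^ (2 * n + 1) : ℕ) : ℂ) = ((Finset.univ : Finset S.D.U).card : ℂ) by
      rw [Finset.card_univ, ← Nat.card_eq_fintype_card, S.D.card_U], ← nsmul_eq_mul, ← Finset.sum_const]
    refine Finset.sum_congr rfl fun u _ => ?_
    simp only [f, if_neg (Finset.ne_of_mem_erase hs)]
    exact hF u u.2 s s.2

theorem B_pow {b : L} (hb : b ∈ S.D.B) : b ^ (3 * (2 * T - 1)) = 1 := by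
  haveI := S.finite_L
  by_cases hbU : b ∈ S.D.U
  · rw [pow_mul, S.D.U_cube b hbU, one_pow]
  · obtain ⟨v, hv, s, hs, hs1, rfl⟩ := S.B_conj hb hbU
    rw [conj_pow, mul_comm 3, pow_mul, (S.torus_a_facts hs hs1).2.2, one_pow]; group

/-- The values on `t B`. -/
theorem theta_tφ [Fintype L] [DecidablePred (· ∈ S.D.B)] (k : ℕ) {b : L} (hb : b ∈ S.D.B) :
    S.theta k (S.t * S.φ b) = 4 * (Nat.card S.Bt : ℂ)⁻¹ *
      ∑ l : L, if l⁻¹ * b * l ∈ S.D.B then S.kap k (l⁻¹ * b * l) else 0 := by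
  classical
  rw [theta, indFun, mul_comm (4 : ℂ), mul_assoc]
  congr 1
  have hval : ∀ l : L, ∀ g : G, g = S.φ l ∨ g = S.t * S.φ l →
      extendByZero S.Bt (S.fk k) (g⁻¹ * (S.t * S.φ b) * g) =
        if l⁻¹ * b * l ∈ S.D.B then 2 * S.kap k (l⁻¹ * b * l) else 0 := by
    intro l g hg
    have e : g⁻¹ * (S.t * S.φ b) * g = S.t * S.φ (l⁻¹ * b * l) := by
      have e0 : (S.φ l)⁻¹ * (S.t * S.φ b) * S.φ l = S.t * S.φ (l⁻¹ * b * l) := by
        rw [map_mul, map_mul, ← mul_assoc (S.φ l)⁻¹, ← map_inv, ← S.comm]; group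
      rcases hg with rfl | rfl
      · exact e0
      · rw [show (S.t * S.φ l)⁻¹ * (S.t * S.φ b) * (S.t * S.φ l) =
          (S.φ l)⁻¹ * (S.φ b * S.t) * S.φ l by rw [mul_inv_rev]; group, ← S.comm]
        exact e0
    rw [e]
    split_ifs with h
    · rw [extendByZero_of_mem S.Bt _ ⟨_, h, Or.inr rfl⟩]
      exact S.fk_tφ k _ _ rfl
    · refine extendByZero_of_notMem S.Bt _ ?_
      rintro ⟨c, hc, h' | h'⟩
      · exact S.t_mul_φ_ne _ _ h'
      · exact h (S.inj (mul_left_cancel h') ▸ hc)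
  have hzero : ∀ g : G, g ∉ centralizer ({S.t} : Set G) →
      extendByZero S.Bt (S.fk k) (g⁻¹ * (S.t * S.φ b) * g) = 0 := by
    intro g hg
    by_cases hm : g⁻¹ * (S.t * S.φ b) * g ∈ S.Bt
    · rw [extendByZero_of_mem S.Bt _ hm]
      obtain ⟨c, hc, h | h⟩ := id hm
      · exact S.fk_φ k _ c h
      · exfalso
        apply hg
        have hodd : ∀ c ∈ S.D.B, (S.t * S.φ c) ^ (3 * (2 * T - 1)) = S.t := by
          intro c hc
          obtain ⟨d, hd⟩ : Odd (3 * (2 * T - 1)) := by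
            have := S.q_facts; rw [Nat.odd_iff]; omega
          rw [(show Commute S.t (S.φ c) from S.comm c).mul_pow, ← map_pow, S.B_pow hc, map_one,
            mul_one, hd, pow_succ, pow_mul, sq, S.t_sq, one_pow, one_mul]
        have h2 : g⁻¹ * S.t * g = S.t := by
          have h3 := hodd c hc
          rw [← h] at h3
          nth_rewrite 1 [show g⁻¹ * (S.t * S.φ b) * g = g⁻¹ * (S.t * S.φ b) * g⁻¹⁻¹ by group] at h3
          rw [conj_pow, hodd b hb, inv_inv] at h3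
          exact h3
        rw [mem_centralizer_singleton_iff]
        calc g * S.t = g * (g⁻¹ * S.t * g) := by rw [h2]
          _ = S.t * g := by group
    · exact extendByZero_of_notMem S.Bt _ hm
  rw [← Finset.sum_subset (Finset.subset_univ
    (Finset.univ.filter fun g : G => g ∈ centralizer ({S.t} : Set G)))
    (fun g _ hg => hzero g (by simpa using hg)),
    Finset.sum_subtype (Finset.univ.filter fun g : G => g ∈ centralizer ({S.t} : Set G))
      (p := fun g => g ∈ centralizer ({S.t} : Set G)) (fun g => by simp)]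
  rw [← Equiv.sum_comp S.centEquiv, Fintype.sum_sum_type, Finset.mul_sum, ← Finset.sum_add_distrib]
  refine Finset.sum_congr rfl fun l _ => ?_
  rw [hval l ((S.centEquiv (Sum.inl l)) : G) (Or.inl rfl),
    hval l ((S.centEquiv (Sum.inr l)) : G) (Or.inr rfl)]
  split_ifs <;> ring

theorem theta_t (k : ℕ) : S.theta k S.t = 2 * ((3 ^ (2 * n + 1) : ℕ) + 1) := by
  classical
  haveI := S.finite_L
  haveI := Fintype.ofFinite L
  have h := S.theta_tφ k (b := 1) (one_mem _)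
  rw [map_one, mul_one] at h
  rw [h, Finset.sum_congr rfl fun l _ => show (if l⁻¹ * 1 * l ∈ S.D.B then S.kap k (l⁻¹ * 1 * l) else 0)
    = (1 : ℂ) by rw [show l⁻¹ * 1 * l = 1 by group, if_pos (one_mem _), S.kap_U k (one_mem _)],
    Finset.sum_const, Finset.card_univ, nsmul_eq_mul, mul_one, ← Nat.card_eq_fintype_card, S.card_Bt]
  have hq : 2 ≤ 3 ^ (2 * n + 1) := by have := S.q_facts; omega
  have h2 := congrArg (fun x : ℕ => (x : ℂ)) S.D.card_L
  have hqq : 1 ≤ 3 ^ (2 * n + 1) * 3 ^ (2 * n + 1) := Nat.one_le_iff_ne_zero.mpr (by positivity)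
  simp only [Nat.cast_mul, Nat.cast_sub hqq, Nat.cast_ofNat, Nat.cast_one] at h2
  rw [Nat.cast_mul, Nat.cast_sub (by omega : 1 ≤ 3 ^ (2 * n + 1)), Nat.cast_one]
  set Q : ℂ := ((3 ^ (2 * n + 1) : ℕ) : ℂ)
  have hQ0 : Q ≠ 0 := Nat.cast_ne_zero.mpr (by omega)
  have hQ1 : Q - 1 ≠ 0 := by
    rw [sub_ne_zero]; exact fun e => absurd (Nat.cast_eq_one.mp e) (by omega)
  field_simp
  linear_combination 2 * h2

theorem theta_three (k : ℕ) {u : L} (hu : u ∈ S.D.U) (hu1 : u ≠ 1) :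
    S.theta k (S.t * S.φ u) = 2 := by
  classical
  haveI := S.finite_L
  haveI := Fintype.ofFinite L
  have key : ∀ l : L, (l⁻¹ * u * l ∈ S.D.B ↔ l ∈ S.D.B) := by
    intro l
    refine ⟨fun h => ?_, fun h => mul_mem (mul_mem (inv_mem h) (S.D.U_le hu)) h⟩
    have hmU : l⁻¹ * u * l ∈ S.D.U := by
      by_contra hn
      obtain ⟨v, hv, s, hs, hs1, e⟩ := S.B_conj h hn
      have h3 : s ^ 3 = 1 := by
        have e3 : (v * s * v⁻¹) ^ 3 = 1 := by
          rw [← e, show l⁻¹ * u * l = l⁻¹ * u * l⁻¹⁻¹ by group, conj_pow, S.D.U_cube u hu]; group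
        rw [conj_pow] at e3
        exact conj_eq_one_iff.mp e3
      have h1 := (S.torus_a_facts hs hs1).2.2
      obtain ⟨c, hc⟩ : ∃ c, 2 * T - 1 = 3 * c + 1 ∨ 2 * T - 1 = 3 * c + 2 := by
        have h4 := S.hT
        have := S.q_facts
        exact ⟨(2 * T - 1) / 3, by omega⟩
      rcases hc with hc | hc <;> rw [hc, pow_add, pow_mul, h3, one_pow, one_mul] at h1
      · exact hs1 (by simpa using h1)
      · exact hs1 (by rw [← h3, pow_succ, h1, one_mul])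
    refine S.D.norm_U l fun w hw => ?_
    have h1 : (l * w * l⁻¹) * u = u * (l * w * l⁻¹) := by
      calc l * w * l⁻¹ * u = l * (w * (l⁻¹ * u * l)) * l⁻¹ := by group
        _ = u * (l * w * l⁻¹) := by rw [S.D.U_comm w hw _ hmU]; group
    exact S.D.cent_U u hu hu1 _ h1
  rw [S.theta_tφ k (S.D.U_le hu), Finset.sum_congr rfl fun l _ =>
    show (if l⁻¹ * u * l ∈ S.D.B then S.kap k (l⁻¹ * u * l) else 0) = if l ∈ S.D.B then (1 : ℂ) else 0 by
      by_cases hl : l ∈ S.D.B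
      · rw [if_pos ((key l).mpr hl), if_pos hl]
        have := S.kap_conj k (inv_mem hl) (S.D.U_le hu)
        rw [inv_inv] at this
        rw [this, S.kap_U k hu]
      · rw [if_neg (fun h => hl ((key l).mp h)), if_neg hl],
    Finset.sum_boole, ← Fintype.card_subtype, ← Nat.card_eq_fintype_card, S.card_Bt]
  have h2 : (2 : ℂ) * (Nat.card {l // l ∈ S.D.B} : ℕ) =
      ((3 ^ (2 * n + 1) * (3 ^ (2 * n + 1) - 1) : ℕ) : ℂ) := by
    exact_mod_cast S.D.card_B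
  rw [← h2]
  have h0 : (Nat.card {l // l ∈ S.D.B} : ℂ) ≠ 0 := by
    haveI : Nonempty {l // l ∈ S.D.B} := ⟨⟨1, one_mem _⟩⟩
    exact Nat.cast_ne_zero.mpr Nat.card_pos.ne'
  field_simp
  norm_num

theorem w_notMem : S.D.w ∉ S.D.B := fun h => by
  haveI := S.finite_L
  have hs1 : S.D.a ≠ 1 := fun e => by
    have := S.D.orderOf_a
    rw [e, orderOf_one] at this
    have := S.q_facts
    omega
  have hs := mem_zpowers S.D.a
  obtain ⟨hss, -, -⟩ := S.torus_a_facts hs hs1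
  have h1 := S.kap_conj 1 h S.D.a_mem
  rw [S.D.w_inv] at h1
  have h2 := S.kap_mul 1 (inv_mem S.D.a_mem) S.D.a_mem
  rw [inv_mul_cancel, S.kap_U 1 (one_mem _), h1, ← S.kap_mul 1 S.D.a_mem S.D.a_mem] at h2
  have h3 := S.kap_torus 1 ⟨S.D.a * S.D.a, mul_mem hs hs⟩
  rw [← h2, pow_one] at h3
  exact hss (congrArg Subtype.val (S.chi_eq_one (Units.ext h3.symm)))

theorem theta_torus (k : ℕ) (s : zpowers S.D.a) (hs1 : s ≠ 1) :
    S.theta k (S.t * S.φ s) =
      2 * (((S.chi s : ℂˣ) : ℂ) ^ k + ((S.chi s⁻¹ : ℂˣ) : ℂ) ^ k) := by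
  classical
  haveI := S.finite_L
  haveI := Fintype.ofFinite L
  obtain ⟨s, hs⟩ := s
  have hs1' : s ≠ 1 := fun e => hs1 (Subtype.ext e)
  have hww : S.D.w⁻¹ = S.D.w := inv_eq_of_mul_eq_one_right S.D.w_sq
  obtain ⟨-, hws, -⟩ := S.torus_a_facts hs hs1'
  have hsB : s ∈ S.D.B := zpowers_le.mpr S.D.a_mem hs
  have key : ∀ l : L, l⁻¹ * s * l ∈ S.D.B ↔ (l ∈ S.D.B ∨ S.D.w * l ∈ S.D.B) := by
    intro l
    constructor
    · intro h
      rcases S.D.into_B s hs hs1' l⁻¹ (by rwa [inv_inv]) with h' | h'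
      · exact Or.inl (by simpa using inv_mem h')
      · exact Or.inr (by simpa [mul_inv_rev, hww] using inv_mem h')
    · rintro (h | h)
      · exact mul_mem (mul_mem (inv_mem h) hsB) h
      · have : l⁻¹ * s * l = (S.D.w * l)⁻¹ * s⁻¹ * (S.D.w * l) := by
          rw [← hws]; group
        rw [this]
        exact mul_mem (mul_mem (inv_mem h) (inv_mem hsB)) h
  have hex : ∀ l, l ∈ S.D.B → S.D.w * l ∉ S.D.B := fun l hl h =>
    S.w_notMem (by simpa using mul_mem h (inv_mem hl))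
  have hsum : ∀ l : L, (if l⁻¹ * s * l ∈ S.D.B then S.kap k (l⁻¹ * s * l) else 0) =
      (if l ∈ S.D.B then S.kap k s else 0) + (if S.D.w * l ∈ S.D.B then S.kap k s⁻¹ else 0) := by
    intro l
    by_cases hl : l ∈ S.D.B
    · rw [if_pos ((key l).mpr (Or.inl hl)), if_pos hl, if_neg (hex l hl), add_zero]
      have := S.kap_conj k (inv_mem hl) hsB
      rwa [inv_inv] at this
    · by_cases hwl : S.D.w * l ∈ S.D.B
      · rw [if_pos ((key l).mpr (Or.inr hwl)), if_neg hl, if_pos hwl, zero_add]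
        have := S.kap_conj k (inv_mem hwl) (inv_mem hsB)
        rw [inv_inv] at this
        rw [← this]
        congr 1
        rw [← hws]; group
      · rw [if_neg (fun h => (key l).mp h |>.elim hl hwl), if_neg hl, if_neg hwl, add_zero]
  have hshift : ∀ c : ℂ, (∑ l : L, if S.D.w * l ∈ S.D.B then c else 0) =
      ∑ l : L, if l ∈ S.D.B then c else 0 :=
    fun c => Fintype.sum_equiv (Equiv.mulLeft S.D.w) _ _ fun l => rfl
  have hcount : ∀ c : ℂ, (∑ l : L, if l ∈ S.D.B then c else 0) = (Nat.card S.D.B : ℂ) * c := by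
    intro c
    rw [← Finset.sum_filter, Finset.sum_const, nsmul_eq_mul, ← Fintype.card_subtype,
      ← Nat.card_eq_fintype_card]
  rw [S.theta_tφ k hsB, Finset.sum_congr rfl fun l _ => hsum l, Finset.sum_add_distrib, hshift,
    hcount, hcount, ← mul_add, S.kap_torus k ⟨s, hs⟩,
    show s⁻¹ = ((⟨s, hs⟩⁻¹ : zpowers S.D.a) : L) from rfl, S.kap_torus k, S.card_Bt]
  have h2 : (2 : ℂ) * (Nat.card S.D.B : ℕ) =
      ((3 ^ (2 * n + 1) * (3 ^ (2 * n + 1) - 1) : ℕ) : ℂ) := by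
    exact_mod_cast S.D.card_B
  rw [← h2]
  have h0 : (Nat.card S.D.B : ℂ) ≠ 0 := Nat.cast_ne_zero.mpr Nat.card_pos.ne'
  field_simp
  ring

end Setup

end Cfsg.Lib.ReeType
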