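import Cfsg.Agent.Lib.ReeType.Theta
import Cfsg.Agent.Lib.Char.SignedTriples

/-!
# The three exceptional constituents
-/

set_option autoImplicit false
set_option linter.unusedSectionVars false
set_option linter.unusedVariables false
set_option linter.style.haveILetI false

namespace Cfsg.Lib.ReeType

open Subgroup Cfsg Cfsg.Lib.Char
open scoped ComplexConjugate Matrix

universe u

/-- The degree and the value at an involution are integers of equal parity. -/
theorem invol_value {G : Type u} [Group G] [Finite G] {χ : G → ℂ} (hχ : IsCharacter G χ) {x : G}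
    (hx : x * x = 1) : ∃ d e : ℤ, χ 1 = d ∧ χ x = (d - 2 * e : ℤ) := by
  classical
  obtain ⟨m, ρ, rfl⟩ := hχ
  obtain ⟨μ, hμ, hsum, -, hpow, -⟩ := character_eq_sum_roots ρ x
  have hsq : ∀ i, μ i = 1 ∨ μ i = -1 := fun i => by
    have h2 : μ i ^ 2 = 1 := by
      obtain ⟨c, hc⟩ := orderOf_dvd_of_pow_eq_one (show x ^ 2 = 1 by rw [sq, hx])
      rw [hc, pow_mul, hμ i, one_pow]
    exact sq_eq_one_iff.mp h2
  refine ⟨m, (Finset.univ.filter fun i => μ i = -1).card, ?_, ?_⟩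
  · have h0 := hpow 0
    simpa using h0
  · rw [hsum, ← Finset.sum_filter_add_sum_filter_not Finset.univ (fun i => μ i = -1),
      Finset.sum_congr rfl fun i hi => (Finset.mem_filter.mp hi).2,
      Finset.sum_congr rfl fun i hi => (hsq i).resolve_right (Finset.mem_filter.mp hi).2,
      Finset.sum_const, Finset.sum_const, nsmul_eq_mul, nsmul_eq_mul]
    have h := Finset.card_filter_add_card_filter_not (s := (Finset.univ : Finset (Fin _)))
      (fun i => μ i = -1)
    rw [Finset.card_univ, Fintype.card_fin] at h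
    have h' : ((Finset.univ.filter fun i => μ i = -1).card : ℂ) +
        ((Finset.univ.filter fun i => ¬ μ i = -1).card : ℂ) = (m : ℂ) := by
      rw [← Nat.cast_add, h]; simp
    push_cast
    linear_combination h'

/-- Integrality descends along multiplication by an integer. -/
theorem exists_int_of_mul_eq {z : ℂ} (hz : IsIntegral ℤ z) {a b : ℤ} (ha : a ≠ 0)
    (h : (a : ℂ) * z = b) : ∃ j : ℤ, z = j := by
  have e : z = (((b : ℚ) / a : ℚ) : ℂ) := by
    push_cast
    rw [eq_div_iff (by exact_mod_cast ha), mul_comm, h]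
  obtain ⟨j, hj⟩ := exists_int_of_isIntegral_rat (e ▸ hz)
  exact ⟨j, by rw [e, hj]; norm_cast⟩

namespace Setup

variable {G L : Type u} [Group G] [Group L] [Fintype G] {n T : ℕ} (S : Setup G L n T)
include S

theorem m_facts : 2 * T - 1 ≠ 0 ∧ 13 ≤ 2 * T - 1 ∧
    3 ^ (2 * n + 1) = 2 * (2 * T - 1) + 1 := by
  have := S.q_facts
  have := S.hT
  omega

theorem sum_chi_pow [Fintype (zpowers S.D.a)] (k : ℕ) :
    ∑ s : zpowers S.D.a, ((S.chi s : ℂˣ) : ℂ) ^ k =
      if 2 * T - 1 ∣ k then ((2 * T - 1 : ℕ) : ℂ) else 0 := by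
  split_ifs with h
  · rw [Finset.sum_congr rfl fun s _ => show ((S.chi s : ℂˣ) : ℂ) ^ k = 1 by
      obtain ⟨c, rfl⟩ := h
      have hs : s ^ (2 * T - 1) = 1 := Subtype.ext (by
        show (s : L) ^ (2 * T - 1) = 1
        exact orderOf_dvd_iff_pow_eq_one.mp (S.D.orderOf_a ▸ orderOf_dvd_of_mem_zpowers s.2))
      rw [pow_mul, ← Units.val_pow_eq_pow_val, ← map_pow, hs, map_one, Units.val_one, one_pow],
      Finset.sum_const, Finset.card_univ, ← Nat.card_eq_fintype_card, Nat.card_zpowers,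
      S.D.orderOf_a, nsmul_eq_mul, mul_one]
  · set a : zpowers S.D.a := ⟨S.D.a, mem_zpowers _⟩
    have hne : ((S.chi a : ℂˣ) : ℂ) ^ k ≠ 1 := fun e => h (by
      rw [← S.orderOf_chi]
      exact orderOf_dvd_of_pow_eq_one (Units.ext (by rw [Units.val_pow_eq_pow_val, e, Units.val_one])))
    have hs : ((S.chi a : ℂˣ) : ℂ) ^ k * ∑ s : zpowers S.D.a, ((S.chi s : ℂˣ) : ℂ) ^ k =
        ∑ s : zpowers S.D.a, ((S.chi s : ℂˣ) : ℂ) ^ k := by
      rw [Finset.mul_sum]
      exact Fintype.sum_equiv (Equiv.mulLeft a) _ _ fun s => by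
        rw [← mul_pow, ← Units.val_mul, ← map_mul]; rfl
    rcases eq_or_ne (∑ s : zpowers S.D.a, ((S.chi s : ℂˣ) : ℂ) ^ k) 0 with h0 | h0
    · exact h0
    · exact absurd (mul_right_cancel₀ h0 (hs.trans (one_mul _).symm)) hne

theorem chi_inv_pow (s : zpowers S.D.a) :
    ((S.chi s⁻¹ : ℂˣ) : ℂ) = ((S.chi s : ℂˣ) : ℂ) ^ (2 * T - 1 - 1) := by
  have hm := S.m_facts
  have hs : s ^ (2 * T - 1) = 1 := Subtype.ext (by
    show (s : L) ^ (2 * T - 1) = 1
    exact orderOf_dvd_iff_pow_eq_one.mp (S.D.orderOf_a ▸ orderOf_dvd_of_mem_zpowers s.2))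
  rw [← Units.val_pow_eq_pow_val, ← map_pow]
  congr 2
  refine inv_eq_of_mul_eq_one_right ?_
  rw [← pow_succ', Nat.sub_add_cancel (by omega), hs]

theorem conj_chi (s : zpowers S.D.a) :
    conj ((S.chi s : ℂˣ) : ℂ) = ((S.chi s⁻¹ : ℂˣ) : ℂ) := by
  have hm := S.m_facts
  have h1 : ‖((S.chi s : ℂˣ) : ℂ)‖ = 1 := by
    refine Complex.norm_eq_one_of_pow_eq_one (n := 2 * T - 1) ?_ (by omega)
    have hs : s ^ (2 * T - 1) = 1 := Subtype.ext (by
      show (s : L) ^ (2 * T - 1) = 1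
      exact orderOf_dvd_iff_pow_eq_one.mp (S.D.orderOf_a ▸ orderOf_dvd_of_mem_zpowers s.2))
    rw [← Units.val_pow_eq_pow_val, ← map_pow, hs, map_one, Units.val_one]
  rw [map_inv, Units.val_inv_eq_inv_val, Complex.inv_eq_conj h1]

/-- A sum against the functions on `t B`, split into classes. -/
theorem inner_theta_split [Fintype S.D.U] [Fintype (zpowers S.D.a)] (k : ℕ) {χ : G → ℂ}
    (hχ : IsClassFunction G χ) :
    classInner (S.theta k) χ = ((3 ^ (2 * n + 1) * (3 ^ (2 * n + 1) - 1) : ℕ) : ℂ)⁻¹ *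
      ((∑ u : S.D.U, 2 * conj (χ (S.t * S.φ u))) + ((3 ^ (2 * n + 1) : ℕ) : ℂ) *
        ((∑ s : zpowers S.D.a, 2 * ((S.chi s : ℂˣ) : ℂ) ^ k * conj (χ (S.t * S.φ s))) -
          2 * conj (χ S.t))) := by
  haveI := S.finite_L
  haveI := Fintype.ofFinite S.D.B
  rw [S.inner_theta k hχ, S.card_Bt,
    S.sum_B (fun b => 2 * S.kap k b * conj (χ (S.t * S.φ b)))]
  · congr 2
    · exact Finset.sum_congr rfl fun u _ => by rw [S.kap_U k u.2, mul_one]
    · congr 2
      · exact Finset.sum_congr rfl fun s _ => by rw [S.kap_torus k s]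
      · rw [S.kap_U k (one_mem _), map_one, mul_one, mul_one]
  · intro v hv s hs
    rw [S.kap_conj k (S.D.U_le hv) (zpowers_le.mpr S.D.a_mem hs)]
    congr 2
    rw [show S.t * S.φ (v * s * v⁻¹) = S.φ v * (S.t * S.φ s) * (S.φ v)⁻¹ by
      rw [map_mul, map_mul, map_inv, ← mul_assoc (S.φ v), ← S.comm v]; group, hχ]

theorem q_cast : ((3 ^ (2 * n + 1) * (3 ^ (2 * n + 1) - 1) : ℕ) : ℂ) =
    2 * ((3 ^ (2 * n + 1) : ℕ) : ℂ) * ((2 * T - 1 : ℕ) : ℂ) ∧
    ((3 ^ (2 * n + 1) : ℕ) : ℂ) ≠ 0 ∧ ((2 * T - 1 : ℕ) : ℂ) ≠ 0 ∧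
    ((3 ^ (2 * n + 1) : ℕ) : ℂ) = 2 * ((2 * T - 1 : ℕ) : ℂ) + 1 := by
  obtain ⟨h0, h1, h2⟩ := S.m_facts
  refine ⟨?_, Nat.cast_ne_zero.mpr (by omega), Nat.cast_ne_zero.mpr h0, by exact_mod_cast h2⟩
  rw [show 3 ^ (2 * n + 1) - 1 = 2 * (2 * T - 1) by omega]
  push_cast
  ring

theorem inner_theta_one (k : ℕ) :
    classInner (S.theta k) (fun _ => 1) = if 2 * T - 1 ∣ k then 1 else 0 := by
  haveI := S.finite_L
  haveI := Fintype.ofFinite S.D.U
  haveI := Fintype.ofFinite (zpowers S.D.a)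
  obtain ⟨hq, hq0, hm0, hqm⟩ := S.q_cast
  rw [S.inner_theta_split k (fun _ _ => rfl), hq]
  simp only [map_one, mul_one, Finset.sum_const, Finset.card_univ, ← Finset.mul_sum, S.sum_chi_pow]
  rw [← Nat.card_eq_fintype_card, S.D.card_U, nsmul_eq_mul]
  split_ifs
  · field_simp; ring
  · field_simp; ring

theorem inner_theta_theta (k j : ℕ) :
    classInner (S.theta k) (S.theta j) =
      2 * ((if 2 * T - 1 ∣ k + j then 1 else 0) +
        (if 2 * T - 1 ∣ k + (2 * T - 1 - 1) * j then 1 else 0)) := by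
  classical
  haveI := S.finite_L
  haveI := Fintype.ofFinite S.D.U
  haveI := Fintype.ofFinite (zpowers S.D.a)
  obtain ⟨hq, hq0, hm0, hqm⟩ := S.q_cast
  rw [S.inner_theta_split k (S.isGen_theta j).isClassFunction, hq]
  have hU : ∑ u : S.D.U, 2 * conj (S.theta j (S.t * S.φ u)) =
      8 * ((3 ^ (2 * n + 1) : ℕ) : ℂ) := by
    rw [← Finset.add_sum_erase _ _ (Finset.mem_univ (1 : S.D.U)),
      Finset.sum_congr rfl fun (u : S.D.U) (hu : u ∈ Finset.univ.erase (1 : S.D.U)) =>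
        show 2 * conj (S.theta j (S.t * S.φ u)) = 4 by
        rw [S.theta_three j u.2 (fun e => Finset.ne_of_mem_erase hu (Subtype.ext e))]
        simp only [map_ofNat]; norm_num,
      Finset.sum_const, Finset.card_erase_of_mem (Finset.mem_univ _), Finset.card_univ,
      ← Nat.card_eq_fintype_card, S.D.card_U, Subgroup.coe_one, map_one, mul_one, S.theta_t,
      nsmul_eq_mul, Nat.cast_sub (by have := S.m_facts; omega)]
    simp only [map_mul, map_add, map_natCast, map_ofNat, map_one, Nat.cast_one]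
    ring
  have hS : ∑ s : zpowers S.D.a, 2 * ((S.chi s : ℂˣ) : ℂ) ^ k * conj (S.theta j (S.t * S.φ s)) =
      2 * conj (S.theta j S.t) + 4 * ((∑ s : zpowers S.D.a, ((S.chi s : ℂˣ) : ℂ) ^ (k + j)) - 1) +
        4 * ((∑ s : zpowers S.D.a, ((S.chi s : ℂˣ) : ℂ) ^ (k + (2 * T - 1 - 1) * j)) - 1) := by
    rw [← Finset.add_sum_erase _ _ (Finset.mem_univ (1 : zpowers S.D.a)),
      ← Finset.add_sum_erase _ (fun s : zpowers S.D.a => ((S.chi s : ℂˣ) : ℂ) ^ (k + j))
        (Finset.mem_univ (1 : zpowers S.D.a)),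
      ← Finset.add_sum_erase _ (fun s : zpowers S.D.a => ((S.chi s : ℂˣ) : ℂ) ^ (k + (2 * T - 1 - 1) * j))
        (Finset.mem_univ (1 : zpowers S.D.a))]
    simp only [Subgroup.coe_one, map_one, mul_one, Units.val_one, one_pow, add_sub_cancel_left,
      Finset.mul_sum]
    rw [add_assoc, ← Finset.sum_add_distrib]
    congr 1
    refine Finset.sum_congr rfl fun s hs => ?_
    rw [S.theta_torus j s (Finset.ne_of_mem_erase hs)]
    simp only [map_mul, map_add, map_pow, map_ofNat, S.conj_chi, inv_inv]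
    rw [S.chi_inv_pow, ← pow_mul]
    ring
  rw [hU, hS, S.sum_chi_pow, S.sum_chi_pow, S.theta_t]
  simp only [map_mul, map_add, map_natCast, map_ofNat, map_one]
  split_ifs <;> field_simp <;> ring

theorem pc_theta (hI : NoInv G) (k : ℕ) :
    ∑ g : G, (pc g : ℂ) * S.theta k g =
      (Nat.card G : ℂ) * if 2 * T - 1 ∣ k then 2 * ((2 * T - 1 : ℕ) : ℂ) else 0 := by
  classical
  haveI := S.finite_L
  haveI := Fintype.ofFinite S.D.U
  haveI := Fintype.ofFinite (zpowers S.D.a)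
  obtain ⟨hq, hq0, hm0, hqm⟩ := S.q_cast
  have hcf : IsClassFunction G (fun g => (pc g : ℂ)) := fun g h => by
    show (pc (h * g * h⁻¹) : ℂ) = pc g
    rw [pc_conj]
  have e : ∑ g : G, (pc g : ℂ) * S.theta k g =
      (Nat.card G : ℂ) * classInner (S.theta k) (fun g => (pc g : ℂ)) := by
    rw [classInner, ← mul_assoc, mul_inv_cancel₀ card_cast_ne_zero, one_mul]
    exact Finset.sum_congr rfl fun g _ => by rw [Complex.conj_natCast]; ring
  rw [e, S.inner_theta_split k hcf, hq]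
  congr 1
  have hU : ∑ u : S.D.U, 2 * conj (pc (S.t * S.φ u) : ℂ) =
      2 * ((3 ^ (2 * n + 1) * (3 ^ (2 * n + 1) - 1) : ℕ) : ℂ) := by
    rw [Finset.sum_eq_single (1 : S.D.U) (fun u _ hu => by
      rw [S.pc_t_three hI u.2 (fun e => hu (Subtype.ext e))]; simp) (by simp),
      Subgroup.coe_one, map_one, mul_one, S.pc_t, Complex.conj_natCast]
  have hS : ∑ s : zpowers S.D.a, 2 * ((S.chi s : ℂˣ) : ℂ) ^ k * conj (pc (S.t * S.φ s) : ℂ) =
      2 * conj (pc S.t : ℂ) + 2 * (2 * ((2 * T - 1 : ℕ) : ℂ)) *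
        ((∑ s : zpowers S.D.a, ((S.chi s : ℂˣ) : ℂ) ^ k) - 1) := by
    rw [← Finset.add_sum_erase _ _ (Finset.mem_univ (1 : zpowers S.D.a)),
      ← Finset.add_sum_erase _ (fun s : zpowers S.D.a => ((S.chi s : ℂˣ) : ℂ) ^ k)
        (Finset.mem_univ (1 : zpowers S.D.a))]
    simp only [Subgroup.coe_one, map_one, mul_one, Units.val_one, one_pow, add_sub_cancel_left,
      Finset.mul_sum]
    congr 1
    refine Finset.sum_congr rfl fun s hs => ?_
    rw [S.pc_t_torus s.2 (fun e => Finset.ne_of_mem_erase hs (Subtype.ext e)), Complex.conj_natCast]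
    push_cast
    ring
  rw [hU, hq, hS, S.sum_chi_pow, S.pc_t, Complex.conj_natCast, hq]
  split_ifs <;> field_simp <;> ring

theorem inner_theta_sum_U [Fintype S.D.U] {χ : G → ℂ} (hχ : IsClassFunction G χ) :
    ((3 ^ (2 * n + 1) : ℕ) : ℂ) * ∑ k ∈ Finset.range (2 * T - 1), classInner (S.theta k) χ =
      ∑ u : S.D.U, conj (χ (S.t * S.φ u)) := by
  classical
  haveI := S.finite_L
  haveI := Fintype.ofFinite (zpowers S.D.a)
  obtain ⟨hq, hq0, hm0, hqm⟩ := S.q_cast
  simp_rw [S.inner_theta_split _ hχ]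
  rw [← Finset.mul_sum, Finset.sum_add_distrib, Finset.sum_const, Finset.card_range, nsmul_eq_mul,
    ← Finset.mul_sum (Finset.range (2 * T - 1)), Finset.sum_sub_distrib, Finset.sum_comm, Finset.sum_const,
    Finset.card_range,
    nsmul_eq_mul]
  have hS : ∀ s : zpowers S.D.a,
      ∑ k ∈ Finset.range (2 * T - 1), 2 * ((S.chi s : ℂˣ) : ℂ) ^ k * conj (χ (S.t * S.φ s)) =
        if s = 1 then 2 * ((2 * T - 1 : ℕ) : ℂ) * conj (χ S.t) else 0 := by
    intro s
    split_ifs with hs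
    · subst hs
      simp
      ring
    · rw [← Finset.sum_mul, ← Finset.mul_sum]
      have hne : ((S.chi s : ℂˣ) : ℂ) ≠ 1 := fun e => hs (S.chi_eq_one (Units.ext e))
      rw [geom_sum_eq hne, show ((S.chi s : ℂˣ) : ℂ) ^ (2 * T - 1) = 1 by
        have hp : s ^ (2 * T - 1) = 1 := Subtype.ext (by
          show (s : L) ^ (2 * T - 1) = 1
          exact orderOf_dvd_iff_pow_eq_one.mp (S.D.orderOf_a ▸ orderOf_dvd_of_mem_zpowers s.2))
        rw [← Units.val_pow_eq_pow_val, ← map_pow, hp, map_one, Units.val_one]]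
      simp
  rw [Finset.sum_congr rfl fun s _ => hS s, Finset.sum_ite_eq', if_pos (Finset.mem_univ _), hq,
    ← Finset.mul_sum]
  field_simp
  ring

theorem odd_three_mul : Odd (3 * (2 * T - 1)) := by
  have := S.q_facts
  rw [Nat.odd_iff]
  omega

theorem inverter_trivial {u : L} (hu : u ∈ S.D.U) {s : L} (hs : s ∈ S.D.B)
    (h : s * u * s⁻¹ = u⁻¹) : u = 1 := by
  by_contra hu1
  have h2 : s * s ∈ S.D.U := S.D.cent_U u hu hu1 _ (mul_inv_eq_iff_eq_mul.mp (by
    rw [show s * s * u * (s * s)⁻¹ = s * (s * u * s⁻¹) * s⁻¹ by group, h,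
      show s * u⁻¹ * s⁻¹ = (s * u * s⁻¹)⁻¹ by group, h, inv_inv]))
  obtain ⟨c, hc⟩ := S.odd_three_mul
  have hsU : s ∈ S.D.U := by
    have e : s = (s * s) ^ (c + 1) := by
      have hp := S.B_pow hs
      rw [hc] at hp
      rw [← sq, ← pow_mul, show 2 * (c + 1) = 2 * c + 1 + 1 by ring, pow_succ, hp, one_mul]
    rw [e]; exact pow_mem h2 _
  rw [S.D.U_comm s hsU u hu, mul_inv_cancel_right] at h
  refine hu1 ?_
  calc u = u ^ 3 * (u * u)⁻¹ := by group
    _ = 1 := by
      rw [S.D.U_cube u hu, one_mul, inv_eq_one]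
      nth_rewrite 1 [h]
      exact inv_mul_cancel u

theorem conj_mem_B {u : L} (hu : u ∈ S.D.U) (hu1 : u ≠ 1) {l : L}
    (h : l⁻¹ * u * l ∈ S.D.U) : l ∈ S.D.B :=
  S.D.norm_U l fun w hw => S.D.cent_U u hu hu1 _ (by
    calc l * w * l⁻¹ * u = l * (w * (l⁻¹ * u * l)) * l⁻¹ := by group
      _ = u * (l * w * l⁻¹) := by rw [S.D.U_comm w hw _ h]; group)

theorem exists_u : ∃ u ∈ S.D.U, u ≠ 1 := by
  haveI := S.finite_L
  by_contra h
  push Not at h
  have h1 : S.D.U = ⊥ := (eq_bot_iff_forall _).mpr h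
  have h2 := S.D.card_U
  have := S.q_facts.2.1
  rw [h1, card_bot] at h2
  omega

/-- The element of order three used for the classes of elements of order six. -/
noncomputable def u₀ : L := S.exists_u.choose

theorem u₀_mem : S.u₀ ∈ S.D.U ∧ S.u₀ ≠ 1 := S.exists_u.choose_spec

/-- The sum of the values at the two classes of elements of order six. -/
noncomputable def sval (χ : G → ℂ) : ℂ := χ (S.t * S.φ S.u₀) + χ (S.t * S.φ S.u₀⁻¹)

theorem sum_U_eq [Fintype S.D.U] {χ : G → ℂ} (hχ : IsCharacter G χ) :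
    ∑ u : S.D.U, conj (χ (S.t * S.φ u)) = χ S.t + ((2 * T - 1 : ℕ) : ℂ) * S.sval χ := by
  classical
  haveI := S.finite_L
  haveI := Fintype.ofFinite (zpowers S.D.a)
  obtain ⟨hu, hu1⟩ := S.u₀_mem
  set u := S.u₀
  have hui : u⁻¹ ≠ 1 := inv_ne_one.mpr hu1
  have haB : zpowers S.D.a ≤ S.D.B := zpowers_le.mpr S.D.a_mem
  let f : zpowers S.D.a × Bool → {v : S.D.U // v ≠ 1} := fun p =>
    ⟨⟨p.1 * (if p.2 then u else u⁻¹) * (p.1 : L)⁻¹, S.D.U_normal _ (haB p.1.2) _ (by
        split_ifs; exacts [hu, inv_mem hu])⟩,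
      fun e => by
        have e' := conj_eq_one_iff.mp (congrArg Subtype.val e)
        split_ifs at e' <;> [exact hu1 e'; exact hui e']⟩
  have hinj : Function.Injective f := by
    rintro ⟨⟨s, hs⟩, b⟩ ⟨⟨r, hr⟩, c⟩ e
    have e' : s * (if b then u else u⁻¹) * s⁻¹ = r * (if c then u else u⁻¹) * r⁻¹ :=
      congrArg (fun z => ((z : S.D.U) : L)) (Subtype.ext_iff.mp e)
    have hcs : r⁻¹ * s * (if b then u else u⁻¹) * (r⁻¹ * s)⁻¹ = if c then u else u⁻¹ := by
      calc r⁻¹ * s * (if b then u else u⁻¹) * (r⁻¹ * s)⁻¹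
          = r⁻¹ * (s * (if b then u else u⁻¹) * s⁻¹) * r := by group
        _ = if c then u else u⁻¹ := by rw [e']; group
    set d := r⁻¹ * s with hd
    have hdm : d ∈ zpowers S.D.a := mul_mem (inv_mem hr) hs
    have hcent : ∀ w ∈ S.D.U, w ≠ 1 → d * w * d⁻¹ = w → s = r := by
      intro w hw hw1 h
      have hdU := S.D.cent_U w hw hw1 d (mul_inv_eq_iff_eq_mul.mp h)
      have h1 := S.kap_torus 1 ⟨d, hdm⟩
      rw [S.kap_U 1 hdU, pow_one] at h1
      have := congrArg Subtype.val (S.chi_eq_one (Units.ext h1.symm))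
      exact (inv_mul_eq_one.mp this).symm
    cases b <;> cases c
    · obtain rfl := hcent _ (inv_mem hu) hui (by simpa using hcs)
      rfl
    · exfalso
      exact hui (S.inverter_trivial (inv_mem hu) (haB hdm) (by simpa using hcs))
    · exfalso
      exact hu1 (S.inverter_trivial hu (haB hdm) (by simpa using hcs))
    · obtain rfl := hcent _ hu hu1 (by simpa using hcs)
      rfl
  have hcard : Fintype.card (zpowers S.D.a × Bool) = Fintype.card {v : S.D.U // v ≠ 1} := by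
    rw [Fintype.card_prod, ← Nat.card_eq_fintype_card, Nat.card_zpowers, S.D.orderOf_a,
      Fintype.card_bool, Fintype.card_subtype_compl, Fintype.card_subtype_eq, ← Nat.card_eq_fintype_card,
      S.D.card_U]
    have := S.m_facts
    omega
  have hbij := (Fintype.bijective_iff_injective_and_card f).mpr ⟨hinj, hcard⟩
  rw [← Finset.add_sum_erase _ _ (Finset.mem_univ (1 : S.D.U)),
    Finset.sum_subtype (p := fun v : S.D.U => v ≠ 1) _ (fun v => by simp),
    ← hbij.sum_comp, Fintype.sum_prod_type]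
  congr 1
  · rw [Subgroup.coe_one, map_one, mul_one, ← hχ.apply_inv, S.t_inv]
  · have hc : ∀ (s : zpowers S.D.a) (v : L),
        χ (S.t * S.φ ((s : L) * v * (s : L)⁻¹)) = χ (S.t * S.φ v) := by
      intro s v
      rw [show S.t * S.φ ((s : L) * v * (s : L)⁻¹) =
        S.φ (s : L) * (S.t * S.φ v) * (S.φ (s : L))⁻¹ by
          rw [map_mul, map_mul, map_inv, ← mul_assoc (S.φ (s : L)), ← S.comm (s : L)]; group,
        hχ.isClassFunction]
    have hconj : ∀ v : L, conj (χ (S.t * S.φ v)) = χ (S.t * S.φ v⁻¹) := fun v => by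
      rw [← hχ.apply_inv, mul_inv_rev, S.t_inv, ← map_inv, S.comm]
    simp only [f, Fintype.sum_bool, if_true, Bool.false_eq_true, if_false, hc, hconj, inv_inv]
    rw [Finset.sum_const, Finset.card_univ, ← Nat.card_eq_fintype_card, Nat.card_zpowers,
      S.D.orderOf_a, nsmul_eq_mul, sval, add_comm (χ (S.t * S.φ u)), mul_comm]

/-- The value relation. -/
theorem value_relation {χ : G → ℂ} (hχ : IsCharacter G χ) :
    ((3 ^ (2 * n + 1) : ℕ) : ℂ) * ∑ k ∈ Finset.range (2 * T - 1), classInner (S.theta k) χ =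
      χ S.t + ((2 * T - 1 : ℕ) : ℂ) * S.sval χ := by
  haveI := S.finite_L
  haveI := Fintype.ofFinite S.D.U
  rw [S.inner_theta_sum_U hχ.isClassFunction, S.sum_U_eq hχ]

theorem sum_invol_char [IsSimpleGroup G] [DecidableEq G] (hna : ¬ IsMulCommutative G) {χ : G → ℂ}
    (hχ : IsClassFunction G χ) : ∑ x ∈ involFinset G, χ x = (numInvol G : ℂ) * χ S.t := by
  classical
  rw [Finset.sum_congr rfl fun x hx => show χ x = χ S.t by
    obtain ⟨h1, h2⟩ := mem_involFinset.mp hx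
    obtain ⟨g, rfl⟩ := S.exists_conj_t hna h2 h1
    exact hχ _ _, Finset.sum_const, nsmul_eq_mul]
  congr 2
  rw [numInvol, Nat.card_eq_fintype_card, Fintype.card_subtype]
  exact congrArg Finset.card (Finset.ext fun x => by
    simp only [mem_involFinset, Finset.mem_filter, Finset.mem_univ, true_and]; rfl)

theorem pair_equation [IsSimpleGroup G] (hna : ¬ IsMulCommutative G) (hI : NoInv G) (k : ℕ) :
    (numInvol G : ℂ) * ∑ χ : IrrCharacter G, classInner (S.theta k) (χ : G → ℂ) *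
        ((χ : G → ℂ) S.t ^ 2 / (χ : G → ℂ) 1) =
      ((3 ^ (2 * n + 1) : ℕ) : ℂ) * (((3 ^ (2 * n + 1) : ℕ) : ℂ) * ((3 ^ (2 * n + 1) : ℕ) : ℂ) - 1) *
        if 2 * T - 1 ∣ k then 2 * ((2 * T - 1 : ℕ) : ℂ) else 0 := by
  classical
  have h := S.pc_theta hI k
  rw [← sum_pairs_eq_pc, sum_invol_pair_eq (S.isGen_theta k).isClassFunction,
    ← S.N_mul hna] at h
  have hN : (numInvol G : ℂ) ≠ 0 := by
    haveI : Nonempty {x : G // IsInvol x} := ⟨⟨S.t, S.t_invol⟩⟩
    exact Nat.cast_ne_zero.mpr Nat.card_pos.ne'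
  have hqq : 1 ≤ 3 ^ (2 * n + 1) * 3 ^ (2 * n + 1) := Nat.one_le_iff_ne_zero.mpr (by positivity)
  rw [Nat.cast_mul, Nat.cast_mul, Nat.cast_sub hqq, Nat.cast_mul, Nat.cast_one] at h
  refine mul_left_cancel₀ hN ?_
  rw [← mul_assoc (numInvol G : ℂ) (_ * _), ← h, Finset.mul_sum, Finset.mul_sum]
  refine Finset.sum_congr rfl fun χ _ => ?_
  rw [S.sum_invol_char hna χ.2.isClassFunction]
  ring

end Setup

end Cfsg.Lib.ReeType
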