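import Cfsg.Agent.Lib.ReeType.Three

/-!
# The torus `V × ⟨y⟩` of order `q + 1` and its normalizer

When no involution inverts an element of order three, `V × ⟨y⟩` is the centralizer of each
nontrivial element of `⟨y⟩`.
-/

set_option autoImplicit false
set_option linter.unusedSectionVars false
set_option linter.style.haveILetI false

namespace Cfsg.Lib.ReeType

open Subgroup

theorem commute_of_pow {G : Type*} [Group G] {x y : G} (h : x * y = y * x) (k : ℕ) :
    x * y ^ k = y ^ k * x :=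
  (Commute.pow_right h k).eq

namespace Setup

variable {G L : Type*} [Group G] [Group L] {n T : ℕ} (S : Setup G L n T)
include S

/-- The centralizer of `t` and `φ y`. -/
def K : Subgroup G := centralizer ({S.t} : Set G) ⊓ centralizer ({S.φ S.D.y} : Set G)

theorem mem_K {g : G} : g ∈ S.K ↔ g * S.t = S.t * g ∧ g * S.φ S.D.y = S.φ S.D.y * g := by
  rw [K, mem_inf, mem_centralizer_singleton_iff, mem_centralizer_singleton_iff]

/-- The image of `⟨y⟩`. -/
def Tsub : Subgroup G := zpowers (S.φ S.D.y)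

theorem mem_Tsub {g : G} : g ∈ S.Tsub ↔ ∃ s ∈ zpowers S.D.y, g = S.φ s := by
  rw [Tsub, ← MonoidHom.map_zpowers]
  exact ⟨fun ⟨s, hs, e⟩ => ⟨s, hs, e.symm⟩, fun ⟨s, hs, e⟩ => ⟨s, hs, e.symm⟩⟩

theorem orderOf_φy : orderOf (S.φ S.D.y) = T := by
  rw [orderOf_injective _ S.inj, S.D.orderOf_y]

theorem y_ne : S.D.y ≠ 1 := fun h => by
  have := S.D.orderOf_y
  rw [h, orderOf_one] at this
  have := S.q_facts.2.2.2.1
  omega

theorem Tsub_le : S.Tsub ≤ S.K := by
  rw [Tsub, zpowers_le, mem_K]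
  exact ⟨(S.comm _).symm, rfl⟩

theorem card_Tsub : Nat.card S.Tsub = T := by rw [Tsub, Nat.card_zpowers, S.orderOf_φy]

theorem Tsub_pow {g : G} (hg : g ∈ S.Tsub) : g ^ T = 1 := by
  obtain ⟨k, rfl⟩ := mem_zpowers_iff.mp hg
  have h := pow_orderOf_eq_one (S.φ S.D.y)
  rw [S.orderOf_φy] at h
  rw [← zpow_natCast, zpow_comm, zpow_natCast, h, one_zpow]

theorem Tsub_sq_eq_one {g : G} (hg : g ∈ S.Tsub) (h2 : g * g = 1) : g = 1 := by
  have h := S.Tsub_pow hg
  obtain ⟨c, hc⟩ : Odd T := Nat.odd_iff.mpr S.q_facts.2.2.1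
  rw [hc, pow_succ, pow_mul, sq, h2, one_pow, one_mul] at h
  exact h

theorem t_mem_K : S.t ∈ S.K := S.mem_K.mpr ⟨rfl, S.comm _⟩

theorem φz_mem_K : S.φ S.D.z ∈ S.K := S.mem_K.mpr
  ⟨(S.comm _).symm, by rw [← map_mul, ← map_mul, S.D.y_z]⟩

theorem eq_of_mem_K {g : G} (hg : g ∈ S.K) : ∃ s ∈ zpowers S.D.y,
    g = S.φ s ∨ g = S.φ (s * S.D.z) ∨ g = S.t * S.φ s ∨ g = S.t * S.φ (s * S.D.z) := by
  obtain ⟨hgt, hgy⟩ := S.mem_K.mp hg
  obtain ⟨l, hl⟩ := S.cent g hgt
  have hly : l * S.D.y = S.D.y * l := by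
    apply S.inj
    rcases hl with rfl | rfl
    · rwa [map_mul, map_mul]
    · rw [map_mul, map_mul]
      rw [mul_assoc, ← mul_assoc (S.φ S.D.y), ← S.comm, mul_assoc] at hgy
      exact mul_left_cancel hgy
  rcases S.D.cent_y _ (mem_zpowers _) S.y_ne l hly with h | h
  · rcases hl with e | e
    · exact ⟨l, h, Or.inl e⟩
    · exact ⟨l, h, Or.inr (Or.inr (Or.inl e))⟩
  · rcases hl with e | e
    · exact ⟨_, h, Or.inr (Or.inl (by rw [e, mul_assoc, S.D.z_sq, mul_one]))⟩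
    · exact ⟨_, h, Or.inr (Or.inr (Or.inr (by rw [e, mul_assoc l, S.D.z_sq, mul_one])))⟩

/-- The four-group `{1, t, φ z, t φ z}`. -/
def InV (g : G) : Prop := g = 1 ∨ g = S.t ∨ g = S.φ S.D.z ∨ g = S.t * S.φ S.D.z

theorem exists_mul_of_mem_K {g : G} (hg : g ∈ S.K) : ∃ v, S.InV v ∧ ∃ τ ∈ S.Tsub, g = v * τ := by
  obtain ⟨s, hs, h⟩ := S.eq_of_mem_K hg
  have hsz : s * S.D.z = S.D.z * s := by
    obtain ⟨k, rfl⟩ := mem_zpowers_iff.mp hs
    exact (Commute.zpow_left S.D.y_z k).eq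
  have hτ : S.φ s ∈ S.Tsub := S.mem_Tsub.mpr ⟨s, hs, rfl⟩
  rcases h with h | h | h | h
  · exact ⟨1, Or.inl rfl, _, hτ, by rw [h, one_mul]⟩
  · exact ⟨_, Or.inr (Or.inr (Or.inl rfl)), _, hτ, by rw [h, hsz, map_mul]⟩
  · exact ⟨_, Or.inr (Or.inl rfl), _, hτ, h⟩
  · exact ⟨_, Or.inr (Or.inr (Or.inr rfl)), _, hτ, by rw [h, hsz, map_mul, mul_assoc]⟩

theorem InV.mem_K {g : G} (h : S.InV g) : g ∈ S.K := by
  rcases h with rfl | rfl | rfl | rfl
  · exact one_mem _
  · exact S.t_mem_K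
  · exact S.φz_mem_K
  · exact mul_mem S.t_mem_K S.φz_mem_K

theorem InV.sq {g : G} (h : S.InV g) : g * g = 1 := by
  rcases h with rfl | rfl | rfl | rfl
  · exact one_mul 1
  · exact S.t_sq
  · rw [← map_mul, S.D.z_sq, map_one]
  · rw [S.t_φ_pow_two, S.D.z_sq, map_one]

theorem K_comm {a b : G} (ha : a ∈ S.K) (hb : b ∈ S.K) : a * b = b * a := by
  have hK : ∀ x ∈ S.K, ∀ τ ∈ S.Tsub, x * τ = τ * x := by
    intro x hx τ hτ
    obtain ⟨k, rfl⟩ := mem_zpowers_iff.mp hτ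
    exact (Commute.zpow_right (S.mem_K.mp hx).2 k).eq
  obtain ⟨v, hv, τ, hτ, rfl⟩ := S.exists_mul_of_mem_K ha
  obtain ⟨w, hw, σ, hσ, rfl⟩ := S.exists_mul_of_mem_K hb
  have hzt : S.φ S.D.z * S.t = S.t * S.φ S.D.z := (S.comm _).symm
  have hvw : Commute v w := by
    rcases hv with rfl | rfl | rfl | rfl <;> rcases hw with rfl | rfl | rfl | rfl <;>
      first
        | exact Commute.one_left _
        | exact Commute.one_right _
        | exact Commute.refl _
        | exact hzt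
        | exact hzt.symm
        | exact (Commute.refl _).mul_right hzt.symm
        | exact ((Commute.refl _).mul_right hzt.symm).symm
        | exact Commute.mul_right hzt (Commute.refl _)
        | exact (Commute.mul_right hzt (Commute.refl _)).symm
  have h1 : Commute v σ := hK v hv.mem_K σ hσ
  have h2 : Commute τ w := (hK w hw.mem_K τ hτ).symm
  have h3 : Commute τ σ := hK τ (S.Tsub_le hτ) σ hσ
  exact ((hvw.mul_right h1).mul_left (h2.mul_right h3)).eq

theorem inV_iff {g : G} : S.InV g ↔ g ∈ S.K ∧ g * g = 1 := by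
  refine ⟨fun h => ⟨h.mem_K, h.sq⟩, fun ⟨hg, h2⟩ => ?_⟩
  obtain ⟨v, hv, τ, hτ, rfl⟩ := S.exists_mul_of_mem_K hg
  have : τ * τ = 1 := by
    calc τ * τ = v * v * (τ * τ) := by rw [hv.sq, one_mul]
      _ = v * τ * (v * τ) := by
        rw [mul_assoc v τ, ← mul_assoc τ v, ← S.K_comm hv.mem_K (S.Tsub_le hτ)]; group
      _ = 1 := h2
  rw [S.Tsub_sq_eq_one hτ this, mul_one]
  exact hv

/-- The four-group as a subgroup. -/
def Vsub : Subgroup G where
  carrier := {g | g ∈ S.K ∧ g * g = 1}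
  one_mem' := ⟨one_mem _, one_mul 1⟩
  mul_mem' := by
    rintro a b ⟨ha, ha2⟩ ⟨hb, hb2⟩
    refine ⟨mul_mem ha hb, ?_⟩
    calc a * b * (a * b) = a * (b * a) * b := by group
      _ = a * a * (b * b) := by rw [S.K_comm hb ha]; group
      _ = 1 := by rw [ha2, hb2, mul_one]
  inv_mem' := by
    rintro a ⟨ha, ha2⟩
    exact ⟨inv_mem ha, by rw [← mul_inv_rev, ha2, inv_one]⟩

theorem mem_Vsub {g : G} : g ∈ S.Vsub ↔ S.InV g := (S.inV_iff).symm

theorem Vsub_le : S.Vsub ≤ S.K := fun _ hg => hg.1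

theorem tz_facts : S.t ≠ 1 ∧ S.φ S.D.z ≠ 1 ∧ S.t * S.φ S.D.z ≠ 1 ∧ S.φ S.D.z ≠ S.t ∧
    S.t * S.φ S.D.z ≠ S.t ∧ S.t * S.φ S.D.z ≠ S.φ S.D.z := by
  have hz : S.φ S.D.z ≠ 1 := fun e => S.D.z_ne (S.inj (by rw [e, map_one]))
  refine ⟨S.t_ne, hz, fun e => S.t_mul_φ_ne S.D.z 1 (by rw [e, map_one]), S.not_mem _,
    fun e => hz (mul_left_cancel (e.trans (mul_one _).symm)), S.t_mul_φ_ne _ _⟩

theorem card_Vsub : Nat.card S.Vsub = 4 := by
  classical
  obtain ⟨h1, h2, h3, h4, h5, h6⟩ := S.tz_facts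
  have hX : (S.Vsub : Set G) = ↑({1, S.t, S.φ S.D.z, S.t * S.φ S.D.z} : Finset G) := by
    ext g
    rw [SetLike.mem_coe, S.mem_Vsub]
    simp [InV]
  show Nat.card (S.Vsub : Set G) = 4
  rw [hX, Nat.card_coe_set_eq, Set.ncard_coe_finset]
  simp [h1.symm, h2.symm, h3.symm, h4.symm, h5.symm, h6.symm]

theorem card_K : Nat.card S.K = 4 * T := by
  have e : Nat.card S.K = Nat.card (S.Vsub × S.Tsub) := by
    refine (Nat.card_eq_of_bijective (fun p : S.Vsub × S.Tsub =>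
      (⟨p.1 * p.2, mul_mem (S.Vsub_le p.1.2) (S.Tsub_le p.2.2)⟩ : S.K)) ⟨?_, ?_⟩).symm
    · rintro ⟨⟨v, hv⟩, ⟨τ, hτ⟩⟩ ⟨⟨w, hw⟩, ⟨σ, hσ⟩⟩ h
      have h' : v * τ = w * σ := congrArg Subtype.val h
      have hm : w⁻¹ * v = σ * τ⁻¹ := by
        calc w⁻¹ * v = w⁻¹ * (v * τ) * τ⁻¹ := by group
          _ = σ * τ⁻¹ := by rw [h']; group
      have h1 : w⁻¹ * v = 1 := S.Tsub_sq_eq_one (hm ▸ mul_mem hσ (inv_mem hτ))
        (mul_mem (inv_mem hw) hv : w⁻¹ * v ∈ S.Vsub).2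
      have hvw : v = w := (inv_mul_eq_one.mp h1).symm
      subst hvw
      have : τ = σ := mul_left_cancel h'
      subst this
      rfl
    · rintro ⟨g, hg⟩
      obtain ⟨v, hv, τ, hτ, rfl⟩ := S.exists_mul_of_mem_K hg
      exact ⟨⟨⟨v, S.mem_Vsub.mpr hv⟩, ⟨τ, hτ⟩⟩, rfl⟩
  rw [e, Nat.card_prod, S.card_Vsub, S.card_Tsub]

theorem sq_mem_Tsub {g : G} (hg : g ∈ S.K) : g * g ∈ S.Tsub := by
  obtain ⟨v, hv, τ, hτ, rfl⟩ := S.exists_mul_of_mem_K hg
  have : v * τ * (v * τ) = τ * τ := by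
    calc v * τ * (v * τ) = v * (τ * v) * τ := by group
      _ = v * v * (τ * τ) := by rw [← S.K_comm hv.mem_K (S.Tsub_le hτ)]; group
      _ = τ * τ := by rw [hv.sq, one_mul]
  rw [this]
  exact mul_mem hτ hτ

variable [Finite G]

theorem cent_r_abelian {r : ℕ} [Fact r.Prime] (hr : r ∣ T) {x g h : G}
    (hxt : x * S.t = S.t * x) (hxr : x ^ r = 1) (hx1 : x ≠ 1)
    (hgt : g * S.t = S.t * g) (hgx : g * x = x * g) (hht : h * S.t = S.t * h)
    (hhx : h * x = x * h) : g * h = h * g := by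
  haveI := S.finite_L
  obtain ⟨hq8, hq27, hTodd, hT7, h3T, h3q⟩ := S.q_facts
  have hrp : r.Prime := Fact.out
  have hr2 : r ≠ 2 := fun e => by rw [e] at hr; omega
  have hr3 : r ≠ 3 := fun e => h3T (e ▸ hr)
  obtain ⟨l, hl⟩ := S.cent x hxt
  have hl' : x = S.φ l := by
    rcases hl with e | e
    · exact e
    · exfalso
      rw [e, (show Commute S.t (S.φ l) from S.comm l).mul_pow] at hxr
      obtain ⟨c, hc⟩ := hrp.odd_of_ne_two hr2
      rw [← map_pow, hc, pow_succ, pow_mul, sq, S.t_sq, one_pow, one_mul] at hxr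
      exact S.t_mul_φ_ne (l ^ (2 * c + 1)) 1 (by rw [map_one]; exact hxr)
  subst hl'
  have hlr : l ^ r = 1 := S.inj (by rw [map_pow, hxr, map_one])
  have hl1 : l ≠ 1 := fun e => hx1 (by rw [e, map_one])
  obtain ⟨P⟩ : Nonempty (Sylow r (zpowers S.D.y)) := inferInstance
  set P' : Subgroup L := (P : Subgroup (zpowers S.D.y)).map (zpowers S.D.y).subtype
  have hP' : IsPGroup r P' := P.isPGroup'.map _
  have hPc : Nat.card P' = Nat.card (P : Subgroup (zpowers S.D.y)) :=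
    (Nat.card_congr (equivMapOfInjective _ _ (Subgroup.subtype_injective _)).toEquiv).symm
  obtain ⟨R, hR⟩ := hP'.exists_le_sylow
  have hfac : (Nat.card L).factorization r = T.factorization r := by
    have h2L : 2 * Nat.card L = 4 * T * ((2 * T - 1) * (2 * 3 ^ (2 * n + 1))) := by
      have hT := S.hT
      rw [S.D.card_L, show 3 ^ (2 * n + 1) * 3 ^ (2 * n + 1) - 1 =
        (3 ^ (2 * n + 1) + 1) * (3 ^ (2 * n + 1) - 1) by rw [← sq]; simpa using Nat.sq_sub_sq (3 ^ (2 * n + 1)) 1,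
        ← hT, show 3 ^ (2 * n + 1) - 1 = 2 * (2 * T - 1) by omega]
      ring
    have hL : Nat.card L = T * (4 * ((2 * T - 1) * 3 ^ (2 * n + 1))) := by linarith [h2L]
    have hnd : ¬ r ∣ 4 * ((2 * T - 1) * 3 ^ (2 * n + 1)) := by
      intro h
      rcases hrp.dvd_mul.mp h with h | h
      · exact hr2 ((Nat.prime_dvd_prime_iff_eq hrp Nat.prime_two).mp
          (hrp.dvd_of_dvd_pow (show r ∣ 2 ^ 2 by norm_num; exact h)))
      rcases hrp.dvd_mul.mp h with h | h
      · have h' := Nat.dvd_sub (dvd_mul_of_dvd_right hr 2) h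
        rw [show 2 * T - (2 * T - 1) = 1 by omega, Nat.dvd_one] at h'
        exact hrp.ne_one h'
      · exact hr3 ((Nat.prime_dvd_prime_iff_eq hrp Nat.prime_three).mp (hrp.dvd_of_dvd_pow h))
    have h0 : 4 * ((2 * T - 1) * 3 ^ (2 * n + 1)) ≠ 0 := fun e => hnd (e ▸ dvd_zero r)
    rw [hL, Nat.factorization_mul (by omega) h0, Finsupp.add_apply,
      Nat.factorization_eq_zero_of_not_dvd hnd, add_zero]
  have hRP : (R : Subgroup L) = P' := by
    refine (eq_of_le_of_card_ge hR ?_).symm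
    rw [hPc, P.card_eq_multiplicity, R.card_eq_multiplicity, Nat.card_zpowers, S.D.orderOf_y, hfac]
  obtain ⟨R', hR'⟩ := (IsPGroup.of_card (n := 1) (show Nat.card (zpowers l) = r ^ 1 by
    rw [Nat.card_zpowers, orderOf_eq_prime hlr hl1, pow_one])).exists_le_sylow
  obtain ⟨c, rfl⟩ := MulAction.exists_smul_eq L R R'
  have hmem := hR' (mem_zpowers l)
  rw [Sylow.coe_subgroup_smul, hRP] at hmem
  obtain ⟨s, ⟨⟨s', hs'⟩, -, rfl⟩, hsl⟩ := hmem
  have hsl' : c * s' * c⁻¹ = l := hsl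
  have hs1 : s' ≠ 1 := fun e => hl1 (by rw [← hsl', e]; group)
  have key : ∀ g : G, g * S.t = S.t * g → g * S.φ l = S.φ l * g →
      ∃ k, Commute k s' ∧ (g = S.φ (c * k * c⁻¹) ∨ g = S.t * S.φ (c * k * c⁻¹)) := by
    intro g hgt hgx
    obtain ⟨m, hm⟩ := S.cent g hgt
    have hml : m * l = l * m := by
      apply S.inj
      rcases hm with rfl | rfl
      · rwa [map_mul, map_mul]
      · rw [map_mul, map_mul]
        rw [mul_assoc, ← mul_assoc (S.φ l), ← S.comm, mul_assoc] at hgx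
        exact mul_left_cancel hgx
    refine ⟨c⁻¹ * m * c, ?_, ?_⟩
    · show c⁻¹ * m * c * s' = s' * (c⁻¹ * m * c)
      rw [← hsl'] at hml
      calc c⁻¹ * m * c * s' = c⁻¹ * (m * (c * s' * c⁻¹)) * c := by group
        _ = s' * (c⁻¹ * m * c) := by rw [hml]; group
    · rwa [show c * (c⁻¹ * m * c) * c⁻¹ = m by group]
  obtain ⟨k, hk, hgk⟩ := key g hgt hgx
  obtain ⟨j, hj, hhj⟩ := key h hht hhx
  have hz : Commute S.D.y S.D.z := S.D.y_z
  have cy : ∀ k, Commute k s' → ∃ i : ℤ, k = S.D.y ^ i ∨ k = S.D.y ^ i * S.D.z := by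
    intro k hk
    rcases S.D.cent_y s' hs' hs1 k hk.eq with h | h <;> obtain ⟨i, hi⟩ := mem_zpowers_iff.mp h
    · exact ⟨i, Or.inl hi.symm⟩
    · exact ⟨i, Or.inr (by rw [hi, mul_assoc, S.D.z_sq, mul_one])⟩
  have hkj : Commute k j := by
    obtain ⟨i, hi⟩ := cy k hk
    obtain ⟨i', hi'⟩ := cy j hj
    have h1 : Commute (S.D.y ^ i) (S.D.y ^ i') := Commute.zpow_zpow_self _ _ _
    rcases hi with rfl | rfl <;> rcases hi' with rfl | rfl
    · exact h1
    · exact h1.mul_right (hz.zpow_left i)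
    · exact h1.mul_left (hz.zpow_left i').symm
    · exact (h1.mul_right (hz.zpow_left i)).mul_left ((hz.zpow_left i').symm.mul_right (Commute.refl _))
  have hc : Commute (S.φ (c * k * c⁻¹)) (S.φ (c * j * c⁻¹)) := ((Commute.conj_iff c).mpr hkj).map S.φ
  have ht1 : ∀ m, Commute S.t (S.φ m) := S.comm
  rcases hgk with rfl | rfl <;> rcases hhj with rfl | rfl
  · exact hc.eq
  · exact ((ht1 _).symm.mul_right hc).eq
  · exact ((ht1 _).mul_left hc).eq
  · exact (((Commute.refl _).mul_right (ht1 _)).mul_left ((ht1 _).symm.mul_right hc)).eq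

variable [IsSimpleGroup G]

theorem cent_inV (hna : ¬ IsMulCommutative G) {r : ℕ} [Fact r.Prime] (hr : r ∣ T) {a : G}
    (ha : a ∈ S.Tsub) (har : a ^ r = 1) (ha1 : a ≠ 1) {v : G} (hv : S.InV v) (hv1 : v ≠ 1)
    {g : G} (hgv : g * v = v * g) (hga : g * a = a * g) : g ∈ S.K := by
  have hgt : g * S.t = S.t * g := by
    obtain ⟨h, hh⟩ := S.exists_conj_t hna hv.sq hv1
    exact (S.conj h).cent_r_abelian hr (x := a)
      (by rw [S.conj_t, hh]; exact S.K_comm (S.Tsub_le ha) hv.mem_K) har ha1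
      (by rw [S.conj_t, hh]; exact hgv) hga
      (by rw [S.conj_t, hh]; exact S.K_comm S.t_mem_K hv.mem_K)
      (S.K_comm S.t_mem_K (S.Tsub_le ha))
  obtain ⟨s, hs, rfl⟩ := S.mem_Tsub.mp ha
  have hs1 : s ≠ 1 := fun e => ha1 (by rw [e, map_one])
  refine S.mem_K.mpr ⟨hgt, ?_⟩
  obtain ⟨l, hl⟩ := S.cent g hgt
  have hls : l * s = s * l := by
    apply S.inj
    rcases hl with rfl | rfl
    · rwa [map_mul, map_mul]
    · rw [map_mul, map_mul]
      rw [mul_assoc, ← mul_assoc (S.φ s), ← S.comm, mul_assoc] at hga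
      exact mul_left_cancel hga
  have hly : Commute l S.D.y := by
    rcases S.D.cent_y s hs hs1 l hls with h | h <;> obtain ⟨i, hi⟩ := mem_zpowers_iff.mp h
    · rw [← hi]; exact (Commute.self_zpow _ i).symm
    · have : l = S.D.y ^ i * S.D.z := by rw [hi, mul_assoc, S.D.z_sq, mul_one]
      rw [this]; exact (Commute.self_zpow _ i).symm.mul_left (Commute.symm S.D.y_z)
  rcases hl with rfl | rfl
  · exact (hly.map S.φ).eq
  · exact (Commute.mul_left (S.comm _) (hly.map S.φ)).eq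

/-- The centralizer of an element of prime order in the torus. -/
theorem cent_prime_torus (hna : ¬ IsMulCommutative G) (hI : NoInv G) {r : ℕ} [Fact r.Prime]
    (hr : r ∣ T) {a : G} (ha : a ∈ S.Tsub) (har : a ^ r = 1) (ha1 : a ≠ 1) {g : G}
    (hga : g * a = a * g) : g ∈ S.K := by
  classical
  haveI := S.finite_L
  haveI : Fact (Nat.Prime 2) := ⟨Nat.prime_two⟩
  obtain ⟨hq8, hq27, hTodd, hT7, h3T, h3q⟩ := S.q_facts
  have hrp : r.Prime := Fact.out
  have hr2 : r ≠ 2 := fun e => by rw [e] at hr; omega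
  have hr3 : r ≠ 3 := fun e => h3T (e ▸ hr)
  set H := centralizer ({a} : Set G) with hHdef
  have hKH : S.K ≤ H := fun x hx => mem_centralizer_singleton_iff.mpr (S.K_comm hx (S.Tsub_le ha))
  have hVH : S.Vsub ≤ H := S.Vsub_le.trans hKH
  have hcv : ∀ v ∈ S.Vsub, v ≠ 1 → ∀ x ∈ H, x * v = v * x → x ∈ S.K := fun v hv hv1 x hx hxv =>
    S.cent_inV hna hr ha har ha1 (S.mem_Vsub.mp hv) hv1 hxv (mem_centralizer_singleton_iff.mp hx)
  -- the four-group is a Sylow two-subgroup of `H`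
  have hV2 : IsPGroup 2 (S.Vsub.subgroupOf H) := IsPGroup.of_card (n := 2) (by
    rw [Nat.card_congr (subgroupOfEquivOfLe hVH).toEquiv, S.card_Vsub]; norm_num)
  obtain ⟨P, hP⟩ := hV2.exists_le_sylow
  have hPV : (P : Subgroup H) = S.Vsub.subgroupOf H := by
    refine le_antisymm (fun x hx => ?_) hP
    obtain ⟨hsq, hcomm, -⟩ := S.isPGroup_sq (P.isPGroup'.map H.subtype)
    have hxG : (x : G) ∈ (P : Subgroup H).map H.subtype := ⟨x, hx, rfl⟩
    have htG : S.t ∈ (P : Subgroup H).map H.subtype := ⟨⟨S.t, hKH S.t_mem_K⟩,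
      hP (mem_subgroupOf.mpr ⟨S.t_mem_K, S.t_sq⟩), rfl⟩
    exact mem_subgroupOf.mpr ⟨hcv S.t ⟨S.t_mem_K, S.t_sq⟩ S.t_ne x x.2 (hcomm _ hxG _ htG), hsq _ hxG⟩
  have hfus : ∀ v : G, v ∈ H → v * v = 1 → ∃ h ∈ H, ∃ w ∈ S.Vsub, v = h * w * h⁻¹ := by
    intro v hv h2
    obtain ⟨i, -, hi⟩ := (Nat.dvd_prime_pow Nat.prime_two).mp
      (orderOf_dvd_of_pow_eq_one (show (⟨v, hv⟩ : H) ^ 2 ^ 1 = 1 from Subtype.ext (by
        show v ^ 2 ^ 1 = 1; rw [pow_one, sq, h2])))
    obtain ⟨R, hR⟩ := (IsPGroup.of_card (n := i) (show Nat.card (zpowers (⟨v, hv⟩ : H)) = 2 ^ i by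
      rw [Nat.card_zpowers, hi])).exists_le_sylow
    obtain ⟨c, rfl⟩ := MulAction.exists_smul_eq H P R
    have hmem := hR (mem_zpowers _)
    rw [Sylow.coe_subgroup_smul, hPV] at hmem
    obtain ⟨w, hw, hwe⟩ := hmem
    exact ⟨c, c.2, w, mem_subgroupOf.mp hw, (congrArg Subtype.val hwe).symm⟩
  set M := H ⊓ normalizer (S.Vsub : Set G) with hMdef
  have hKM : S.K ≤ M := fun x hx => ⟨hKH hx, mem_normalizer_iff.mpr fun y =>
    ⟨fun hy => by rwa [S.K_comm hx (S.Vsub_le hy), mul_inv_cancel_right],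
     fun hy => by
      have h := S.K_comm (inv_mem hx) (S.Vsub_le hy)
      rw [show y = x⁻¹ * (x * y * x⁻¹) * x by group, h]
      simpa using hy⟩⟩
  -- Burnside
  have hburn : ∀ h ∈ H, ∀ v ∈ S.Vsub, v ≠ 1 → h * v * h⁻¹ ∈ S.Vsub → h ∈ M := by
    intro h hh v hv hv1 hv'
    refine mem_inf.mpr ⟨hh, ?_⟩
    have hv'1 : h * v * h⁻¹ ≠ 1 := fun e => hv1 (conj_eq_one_iff.mp e)
    have hmap : ∀ w ∈ S.Vsub, h * w * h⁻¹ ∈ S.Vsub := by
      intro w hw
      refine ⟨hcv _ hv' hv'1 _ (mul_mem (mul_mem hh (hVH hw)) (inv_mem hh)) ?_, ?_⟩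
      · rw [← conj_mul', ← conj_mul', S.K_comm (S.Vsub_le hw) (S.Vsub_le hv)]
      · rw [← conj_mul', hw.2]; group
    have heq : S.Vsub.map (MulAut.conj h).toMonoidHom = S.Vsub := by
      refine eq_of_le_of_card_ge ?_ (le_of_eq (Nat.card_congr
        (equivMapOfInjective _ _ (MulAut.conj h).injective).toEquiv))
      rintro _ ⟨w, hw, rfl⟩
      exact hmap w hw
    rw [mem_normalizer_iff]
    intro w
    refine ⟨hmap w, fun hw => ?_⟩
    rw [← heq] at hw
    obtain ⟨w', hw', e⟩ := hw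
    have e' : h * w' * h⁻¹ = h * w * h⁻¹ := e
    rwa [← mul_left_cancel (mul_right_cancel e')]
  have hstab : ∀ m ∈ M, ∀ v ∈ S.Vsub, v ≠ 1 → m * v * m⁻¹ = v → m ∈ S.K := fun m hm v hv hv1 e =>
    hcv v hv hv1 m hm.1 (mul_inv_eq_iff_eq_mul.mp e)
  obtain ⟨h1, h2, h3, h4, h5, h6⟩ := S.tz_facts
  have hcube : ∀ m ∈ M, m * m * m ∈ S.K := by
    intro m hm
    by_contra hc
    have hm3 : ∀ v ∈ S.Vsub, v ≠ 1 → m * m * m * v * (m * m * m)⁻¹ ≠ v := fun v hv hv1 e =>
      hc (hstab _ (mul_mem (mul_mem hm hm) hm) v hv hv1 e)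
    have hmK : ∀ v ∈ S.Vsub, v ≠ 1 → m * v * m⁻¹ ≠ v := fun v hv hv1 e =>
      hc (mul_mem (mul_mem (hstab m hm v hv hv1 e) (hstab m hm v hv hv1 e)) (hstab m hm v hv hv1 e))
    set v₁ := m * S.t * m⁻¹ with hv₁
    have htV : S.t ∈ S.Vsub := ⟨S.t_mem_K, S.t_sq⟩
    have hv₁V : v₁ ∈ S.Vsub := (mem_normalizer_iff.mp hm.2 _).mp htV
    have hv₁1 : v₁ ≠ 1 := fun e => S.t_ne (conj_eq_one_iff.mp e)
    set v₂ := m * v₁ * m⁻¹ with hv₂
    have hv₂V : v₂ ∈ S.Vsub := (mem_normalizer_iff.mp hm.2 _).mp hv₁V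
    have hv₂1 : v₂ ≠ 1 := fun e => hv₁1 (conj_eq_one_iff.mp e)
    set v₃ := m * v₂ * m⁻¹ with hv₃
    have hv₃V : v₃ ∈ S.Vsub := (mem_normalizer_iff.mp hm.2 _).mp hv₂V
    have hv₃1 : v₃ ≠ 1 := fun e => hv₂1 (conj_eq_one_iff.mp e)
    have e3 : v₃ = m * m * m * S.t * (m * m * m)⁻¹ := by rw [hv₃, hv₂, hv₁]; group
    have a1 : v₁ ≠ S.t := hmK _ htV S.t_ne
    have a2 : v₂ ≠ v₁ := hmK _ hv₁V hv₁1
    have a3 : v₃ ≠ v₂ := hmK _ hv₂V hv₂1
    have a4 : v₃ ≠ S.t := e3 ▸ hm3 _ htV S.t_ne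
    have a5 : v₂ ≠ S.t := fun e => by
      -- `m²` fixes `t`, so it lies in `K`; then it fixes everything
      have hmm : m * m ∈ S.K := hstab _ (mul_mem hm hm) _ htV S.t_ne
        (by
          calc m * m * S.t * (m * m)⁻¹ = m * v₁ * m⁻¹ := by rw [hv₁]; group
            _ = S.t := e)
      have f3 : v₃ = v₁ := by rw [hv₃, e, hv₁]
      rcases S.mem_Vsub.mp hv₁V with f | f | f | f
      · exact hv₁1 f
      · exact a1 f
      all_goals
        have fix : ∀ w ∈ S.Vsub, m * (m * w * m⁻¹) * m⁻¹ = w := fun w hw => by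
          calc m * (m * w * m⁻¹) * m⁻¹ = m * m * w * (m * m)⁻¹ := by group
            _ = w := mul_inv_eq_iff_eq_mul.mpr (S.K_comm hmm (S.Vsub_le hw))
        have hm2 : m * (S.t * v₁) * m⁻¹ = S.t * v₁ := by
          rw [conj_mul', ← hv₁, ← hv₂, e, S.K_comm (S.Vsub_le hv₁V) S.t_mem_K]
        refine hmK _ (mul_mem htV hv₁V) (fun e' => a1 ?_) hm2
        rw [← S.t_mul_t_mul v₁, e', mul_one]
    have a6 : v₃ ≠ v₁ := fun e => by
      have hmm : m * m ∈ S.K := hstab _ (mul_mem hm hm) _ hv₁V hv₁1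
        (by conv_rhs => rw [← e, hv₃, hv₂]
            group)
      exact a5 (by
        rw [hv₂, hv₁]
        calc m * (m * S.t * m⁻¹) * m⁻¹ = m * m * S.t * (m * m)⁻¹ := by group
          _ = S.t := mul_inv_eq_iff_eq_mul.mpr (S.K_comm hmm S.t_mem_K))
    rcases S.mem_Vsub.mp hv₁V with f1 | f1 | f1 | f1 <;> try contradiction
    all_goals
      rcases S.mem_Vsub.mp hv₂V with f2 | f2 | f2 | f2 <;> try contradiction
      all_goals
        first
          | exact a2 (f2.trans f1.symm)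
          | (rcases S.mem_Vsub.mp hv₃V with f3 | f3 | f3 | f3 <;>
              first
                | contradiction
                | exact a6 (f3.trans f1.symm)
                | exact a3 (f3.trans f2.symm))
  have hinvM : ∀ m ∈ M, m * m = 1 → m ∈ S.Vsub := by
    intro m hm h2
    have h := hcube m hm
    rw [h2, one_mul] at h
    exact ⟨h, h2⟩
  -- each nonbase coset contains at most one involution
  have hone : ∀ u ∈ H, u * u = 1 → u ∉ M → ∀ m ∈ M, (u * m) * (u * m) = 1 → m = 1 := by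
    intro u hu hu2 huM m hm hum
    have huinv : u⁻¹ = u := inv_eq_of_mul_eq_one_right hu2
    have hinv : u * m * u⁻¹ = m⁻¹ := by
      rw [huinv]
      exact eq_inv_of_mul_eq_one_left (by rw [mul_assoc, hum])
    by_contra hm1
    set k := m * m * m with hk
    have hkK : k ∈ S.K := hcube m hm
    have hkinv : u * k * u⁻¹ = k⁻¹ := by
      rw [hk, conj_mul', conj_mul', hinv]; group
    by_cases hk1 : k = 1
    · exact hm1 (hI u m hu2 hinv (by rw [show m ^ 3 = m * m * m by simp [pow_succ]]; exact hk1))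
    set τ := k * k with hτdef
    have hτT : τ ∈ S.Tsub := S.sq_mem_Tsub hkK
    by_cases hτ1 : τ = 1
    · have hkV : k ∈ S.Vsub := ⟨hkK, hτ1⟩
      refine huM (hKM (hcv k hkV hk1 u hu ?_))
      rw [inv_eq_of_mul_eq_one_right hτ1] at hkinv
      exact mul_inv_eq_iff_eq_mul.mp hkinv
    have hτinv : u * τ * u⁻¹ = τ⁻¹ := by rw [hτdef, conj_mul', hkinv]; group
    set C := centralizer ({τ} : Set G) ⊓ H with hC
    have hVC : S.Vsub ≤ C := fun x hx =>
      ⟨mem_centralizer_singleton_iff.mpr (S.K_comm (S.Vsub_le hx) (S.Tsub_le hτT)), hVH hx⟩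
    have huC : ∀ x ∈ C, u * x * u⁻¹ ∈ C := by
      intro x hx
      refine mem_inf.mpr ⟨mem_centralizer_singleton_iff.mpr ?_,
        mul_mem (mul_mem hu (mem_inf.mp hx).2) (inv_mem hu)⟩
      have hτ' : u * τ⁻¹ * u⁻¹ = τ := by
        calc u * τ⁻¹ * u⁻¹ = (u * τ * u⁻¹)⁻¹ := by group
          _ = τ := by rw [hτinv, inv_inv]
      have hx' := mem_centralizer_singleton_iff.mp (mem_inf.mp hx).1
      calc u * x * u⁻¹ * τ = u * (x * τ⁻¹) * u⁻¹ := by
            conv_lhs => rw [← hτ']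
            group
        _ = u * (τ⁻¹ * x) * u⁻¹ := by rw [(Commute.inv_right hx').eq]
        _ = τ * (u * x * u⁻¹) := by
            conv_rhs => rw [← hτ']
            group
    set W := S.Vsub.map (MulAut.conj u).toMonoidHom with hW
    have hWC : W ≤ C := by rintro _ ⟨x, hx, rfl⟩; exact huC x (hVC hx)
    have hW2 : IsPGroup 2 (W.subgroupOf C) := IsPGroup.of_card (n := 2) (by
      rw [Nat.card_congr (subgroupOfEquivOfLe hWC).toEquiv, hW,
        ← Nat.card_congr (equivMapOfInjective _ _ (MulAut.conj u).injective).toEquiv, S.card_Vsub]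
      norm_num)
    have hVC2 : IsPGroup 2 (S.Vsub.subgroupOf C) := IsPGroup.of_card (n := 2) (by
      rw [Nat.card_congr (subgroupOfEquivOfLe hVC).toEquiv, S.card_Vsub]; norm_num)
    obtain ⟨Q, hQ⟩ := hVC2.exists_le_sylow
    obtain ⟨Q', hQ'⟩ := hW2.exists_le_sylow
    have hQV : ∀ x : C, x ∈ (Q : Subgroup C) → (x : G) ∈ S.Vsub := by
      intro x hx
      obtain ⟨hsq, hcomm, -⟩ := S.isPGroup_sq (Q.isPGroup'.map C.subtype)
      have hxG : (x : G) ∈ (Q : Subgroup C).map C.subtype := ⟨x, hx, rfl⟩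
      have htV : S.t ∈ S.Vsub := ⟨S.t_mem_K, S.t_sq⟩
      have htG : S.t ∈ (Q : Subgroup C).map C.subtype :=
        ⟨⟨S.t, hVC htV⟩, hQ (mem_subgroupOf.mpr htV), rfl⟩
      exact ⟨hcv S.t htV S.t_ne x x.2.2 (hcomm _ hxG _ htG), hsq _ hxG⟩
    obtain ⟨c, hc⟩ := MulAction.exists_smul_eq C Q' Q
    have hnM : (c : G) * u ∈ M := by
      have hv : ∀ v ∈ S.Vsub, (c : G) * u * v * ((c : G) * u)⁻¹ ∈ S.Vsub := by
        intro v hv
        have hmem : c * ⟨u * v * u⁻¹, huC v (hVC hv)⟩ * c⁻¹ ∈ (Q : Subgroup C) := by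
          rw [← hc, Sylow.coe_subgroup_smul]
          exact ⟨_, hQ' (mem_subgroupOf.mpr ⟨v, hv, rfl⟩), rfl⟩
        have := hQV _ hmem
        simp only [Subgroup.coe_mul, Subgroup.coe_inv] at this
        rwa [mul_inv_rev, show (c : G) * u * v * (u⁻¹ * (c : G)⁻¹) =
          (c : G) * (u * v * u⁻¹) * (c : G)⁻¹ by group]
      exact hburn _ (mul_mem c.2.2 hu) S.t ⟨S.t_mem_K, S.t_sq⟩ S.t_ne (hv _ ⟨S.t_mem_K, S.t_sq⟩)
    set n₀ := (c : G) * u with hn₀
    have hnτ : n₀ * τ * n₀⁻¹ = τ⁻¹ := by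
      rw [hn₀, show (c : G) * u * τ * ((c : G) * u)⁻¹ = c * (u * τ * u⁻¹) * (c : G)⁻¹ by group, hτinv]
      exact mul_inv_eq_iff_eq_mul.mpr (Commute.inv_right (mem_centralizer_singleton_iff.mp c.2.1)).eq
    have h3 : τ⁻¹ = τ := by
      have e1 : n₀ * τ⁻¹ * n₀⁻¹ = τ := by
        calc n₀ * τ⁻¹ * n₀⁻¹ = (n₀ * τ * n₀⁻¹)⁻¹ := by group
          _ = τ := by rw [hnτ, inv_inv]
      have e2 : n₀ * n₀ * n₀ * τ * (n₀ * n₀ * n₀)⁻¹ = τ⁻¹ := by
        rw [show n₀ * n₀ * n₀ * τ * (n₀ * n₀ * n₀)⁻¹ =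
          n₀ * (n₀ * (n₀ * τ * n₀⁻¹) * n₀⁻¹) * n₀⁻¹ by group, hnτ, e1, hnτ]
      rw [← e2]
      exact mul_inv_eq_iff_eq_mul.mpr (S.K_comm (hcube _ hnM) (S.Tsub_le hτT))
    exact hτ1 (S.Tsub_sq_eq_one hτT (by nth_rewrite 1 [← h3]; exact inv_mul_cancel τ))
  -- count involutions
  haveI := Fintype.ofFinite (H ⧸ M.subgroupOf H)
  haveI := Fintype.ofFinite G
  set M' := M.subgroupOf H
  set I := (Finset.univ : Finset G).filter fun x => x ∈ H ∧ x * x = 1 ∧ x ≠ 1 with hIdef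
  set V' := ({S.t, S.φ S.D.z, S.t * S.φ S.D.z} : Finset G) with hV'
  have hV'mem : ∀ v ∈ V', v ∈ S.Vsub ∧ v ≠ 1 := by
    intro v hv
    simp only [hV', Finset.mem_insert, Finset.mem_singleton] at hv
    rcases hv with rfl | rfl | rfl <;> exact ⟨S.mem_Vsub.mpr (by simp [InV]), by assumption⟩
  have hV'card : V'.card = 3 := by simp [hV', h4.symm, h5.symm, h6.symm]
  have hlow : Fintype.card (H ⧸ M') * 3 ≤ I.card := by
    rw [← Finset.card_univ, ← hV'card, ← Finset.card_product]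
    refine Finset.card_le_card_of_injOn (fun p => (p.1.out : G) * p.2 * (p.1.out : G)⁻¹) ?_ ?_
    · rintro ⟨c, v⟩ hp
      obtain ⟨hv, hv1⟩ := hV'mem v (Finset.mem_product.mp hp).2
      simp only [hIdef, Finset.coe_filter, Finset.mem_univ, true_and, Set.mem_ofPred_eq]
      refine ⟨mul_mem (mul_mem c.out.2 (hVH hv)) (inv_mem c.out.2), ?_, fun e => hv1 (conj_eq_one_iff.mp e)⟩
      rw [← conj_mul', hv.2]; group
    · rintro ⟨c, v⟩ hp ⟨d, w⟩ hq e
      obtain ⟨hv, hv1⟩ := hV'mem v (Finset.mem_product.mp (Finset.mem_coe.mp hp)).2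
      obtain ⟨hw, -⟩ := hV'mem w (Finset.mem_product.mp (Finset.mem_coe.mp hq)).2
      have e' : (c.out : G) * v * (c.out : G)⁻¹ = (d.out : G) * w * (d.out : G)⁻¹ := e
      have hcd : c = d := by
        rw [← QuotientGroup.out_eq' c, ← QuotientGroup.out_eq' d, QuotientGroup.eq]
        refine inv_mem_iff.mp (mem_subgroupOf.mpr (hburn _ ?_ v hv hv1 ?_))
        · exact SetLike.coe_mem _
        · convert hw using 1
          simp only [mul_inv_rev, inv_inv, Subgroup.coe_mul, Subgroup.coe_inv]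
          calc (d.out : G)⁻¹ * (c.out : G) * v * ((c.out : G)⁻¹ * (d.out : G)) =
              (d.out : G)⁻¹ * ((c.out : G) * v * (c.out : G)⁻¹) * d.out := by group
            _ = w := by rw [e']; group
      subst hcd
      rw [mul_left_cancel (mul_right_cancel e')]
  have hupp : I.card ≤ 3 + (Fintype.card (H ⧸ M') - 1) := by
    rw [← Finset.card_filter_add_card_filter_not (s := I) (fun x => x ∈ M)]
    refine Nat.add_le_add ?_ ?_
    · rw [← hV'card]
      refine Finset.card_le_card fun x hx => ?_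
      simp only [hIdef, Finset.mem_filter, Finset.mem_univ, true_and] at hx
      obtain ⟨⟨-, hx2, hx1⟩, hxM⟩ := hx
      rcases S.mem_Vsub.mp (hinvM x hxM hx2) with h | h | h | h
      · exact absurd h hx1
      all_goals simp [hV', h]
    · have hcard : (Finset.univ.erase (QuotientGroup.mk (1 : H) : H ⧸ M')).card =
          Fintype.card (H ⧸ M') - 1 := by
        rw [Finset.card_erase_of_mem (Finset.mem_univ _), Finset.card_univ]
      rw [← hcard]
      refine Finset.card_le_card_of_injOn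
        (fun x => if hx : x ∈ H then QuotientGroup.mk ⟨x, hx⟩ else QuotientGroup.mk 1) ?_ ?_
      · intro x hx
        simp only [hIdef, Finset.coe_filter, Finset.mem_filter, Finset.mem_univ, true_and,
          Set.mem_ofPred_eq] at hx
        obtain ⟨⟨hxH, -, -⟩, hxM⟩ := hx
        rw [Finset.coe_erase, Set.mem_sdiff]
        simp only [dif_pos hxH, Set.mem_singleton_iff, QuotientGroup.eq]
        refine ⟨Finset.mem_coe.mpr (Finset.mem_univ _), fun hc => hxM ?_⟩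
        rw [mul_one] at hc
        simpa using mem_subgroupOf.mp (inv_mem hc)
      · intro x hx y hy e
        simp only [hIdef, Finset.coe_filter, Finset.mem_filter, Finset.mem_univ, true_and,
          Set.mem_ofPred_eq] at hx hy
        obtain ⟨⟨hxH, hx2, -⟩, hxM⟩ := hx
        obtain ⟨⟨hyH, hy2, -⟩, -⟩ := hy
        simp only [dif_pos hxH, dif_pos hyH, QuotientGroup.eq] at e
        have hm : x⁻¹ * y ∈ M := by simpa using mem_subgroupOf.mp e
        have := hone x hxH hx2 hxM _ hm (by rw [mul_inv_cancel_left, hy2])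
        exact inv_mul_eq_one.mp this
  have hHM : H ≤ M := by
    have hle : Fintype.card (H ⧸ M') ≤ 1 := by
      have : 0 < Fintype.card (H ⧸ M') := Fintype.card_pos
      omega
    haveI := Fintype.card_le_one_iff_subsingleton.mp hle
    intro x hx
    have := QuotientGroup.eq.mp (Subsingleton.elim (QuotientGroup.mk (1 : H) : H ⧸ M')
      (QuotientGroup.mk ⟨x, hx⟩))
    rw [inv_one, one_mul] at this
    exact mem_subgroupOf.mp this
  -- no element of order three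
  by_contra hgK
  have hcubeH : ∀ h ∈ H, h * h * h ∈ S.K := fun h hh => hcube h (hHM hh)
  have hgH : g ∈ H := mem_centralizer_singleton_iff.mpr hga
  have hK4 : ∀ x ∈ S.K, x ^ (4 * T) = 1 := by
    intro x hx
    have := pow_card_eq_one' (G := S.K) (x := ⟨x, hx⟩)
    rw [S.card_K] at this
    exact congrArg Subtype.val this
  set ρ := g ^ (4 * T) with hρ
  have hρ3 : ρ ^ 3 = 1 := by
    rw [hρ, ← pow_mul, mul_comm, pow_mul, show g ^ 3 = g * g * g by simp [pow_succ]]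
    exact hK4 _ (hcubeH g hgH)
  have hρK : ρ ∉ S.K := by
    intro h
    obtain ⟨i, j, hij⟩ : ∃ i j : ℤ, (4 * T : ℤ) * i + 3 * j = 1 := by
      rcases (by omega : T % 3 = 1 ∨ T % 3 = 2) with h | h
      · exact ⟨1, -((4 * T - 1) / 3 : ℤ), by omega⟩
      · exact ⟨2, -((8 * T - 1) / 3 : ℤ), by omega⟩
    apply hgK
    have : g = ρ ^ i * (g * g * g) ^ j := by
      rw [show g * g * g = g ^ (3 : ℤ) by simp [zpow_ofNat, pow_succ], hρ, ← zpow_natCast, ← zpow_mul,
        ← zpow_mul, ← zpow_add]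
      push_cast
      rw [hij, zpow_one]
    rw [this]
    exact mul_mem (zpow_mem h i) (zpow_mem (hcubeH g hgH) j)
  have hρ1 : ρ ≠ 1 := fun e => hρK (e ▸ one_mem _)
  haveI : Fact (Nat.Prime 3) := ⟨Nat.prime_three⟩
  obtain ⟨Q, hQ⟩ := S.exists_sylow_three hI
  obtain ⟨R, hR⟩ := (IsPGroup.of_card (n := 1) (show Nat.card (zpowers ρ) = 3 ^ 1 by
    rw [Nat.card_zpowers, orderOf_eq_prime hρ3 hρ1, pow_one])).exists_le_sylow
  obtain ⟨c, rfl⟩ := MulAction.exists_smul_eq G Q R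
  have hmem := hR (mem_zpowers ρ)
  rw [Sylow.coe_subgroup_smul, hQ] at hmem
  obtain ⟨w, ⟨u, hu, rfl⟩, hwρ⟩ := hmem
  have hwρ' : c * S.φ u * c⁻¹ = ρ := hwρ
  have hρa : ρ * a = a * ρ := (Commute.pow_left hga _).eq
  have hu1 : u ≠ 1 := fun e => hρ1 (by rw [← hwρ', e, map_one]; group)
  refine S.three_cent_contra hI hu hu1 (a := c⁻¹ * a * c) (r := r) hr2 hr3 ?_ ?_ ?_ ?_ ?_
  · rw [show (c⁻¹ * a * c) = c⁻¹ * a * (c⁻¹)⁻¹ by group, conj_pow, har]; group
  · intro e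
    apply ha1
    rw [show a = c * (c⁻¹ * a * c) * c⁻¹ by group, e]; group
  · rw [← hwρ'] at hρa
    calc c⁻¹ * a * c * S.φ u = c⁻¹ * (a * (c * S.φ u * c⁻¹)) * c := by group
      _ = S.φ u * (c⁻¹ * a * c) := by rw [← hρa]; group
  · intro h hha hhr
    have h'H : c * h * c⁻¹ ∈ H := mem_centralizer_singleton_iff.mpr (by
      calc c * h * c⁻¹ * a = c * (h * (c⁻¹ * a * c)) * c⁻¹ := by group
        _ = a * (c * h * c⁻¹) := by rw [hha]; group)
    have h'r : (c * h * c⁻¹) ^ r = 1 := by rw [conj_pow, hhr]; group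
    have hh'K : c * h * c⁻¹ ∈ S.K := by
      obtain ⟨i, j, hij⟩ : ∃ i j : ℤ, (r : ℤ) * i + 3 * j = 1 :=
        ⟨_, _, (Int.gcd_eq_gcd_ab (r : ℤ) 3).symm.trans (by
          rw [show Int.gcd (r : ℤ) 3 = Nat.gcd r 3 from rfl,
            (Nat.coprime_primes hrp Nat.prime_three).mpr hr3]; rfl)⟩
      have : c * h * c⁻¹ = (c * h * c⁻¹ * (c * h * c⁻¹) * (c * h * c⁻¹)) ^ j := by
        rw [show c * h * c⁻¹ * (c * h * c⁻¹) * (c * h * c⁻¹) = (c * h * c⁻¹) ^ (3 : ℤ) by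
          simp [zpow_ofNat, pow_succ], ← zpow_mul, show 3 * j = 1 + r * (-i) by linarith, zpow_add,
          zpow_one, zpow_mul, zpow_natCast, h'r, one_zpow, mul_one]
      rw [this]
      exact zpow_mem (hcubeH _ h'H) j
    obtain ⟨v, hv, τ, hτ, hvτ⟩ := S.exists_mul_of_mem_K hh'K
    have hv1 : v = 1 := by
      obtain ⟨m, hm⟩ := hrp.odd_of_ne_two hr2
      have h0 := h'r
      rw [hvτ, (show Commute v τ from S.K_comm hv.mem_K (S.Tsub_le hτ)).mul_pow] at h0
      have hvr : v ^ r = v := by rw [hm, pow_succ, pow_mul, sq, hv.sq, one_pow, one_mul]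
      rw [hvr] at h0
      have h1 : v ∈ S.Tsub := by rw [eq_inv_of_mul_eq_one_left h0]; exact inv_mem (pow_mem hτ r)
      exact S.Tsub_sq_eq_one h1 hv.sq
    rw [hv1, one_mul] at hvτ
    have hτr : τ ^ r = 1 := hvτ ▸ h'r
    have hτa : τ ∈ zpowers a := by
      have hcyc : zpowers a = (S.Tsub ⊓ zpowers a) := (inf_eq_right.mpr (zpowers_le.mpr ha)).symm
      by_cases hτ1 : τ = 1
      · rw [hτ1]; exact one_mem _
      have : IsCyclic S.Tsub := Subgroup.isCyclic_zpowers _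
      have h1 := IsCyclic.card_pow_eq_one_le (α := S.Tsub) hrp.pos
      by_contra hnot
      have hsub : (insert (⟨τ, hτ⟩ : S.Tsub)
          ((zpowers a).subgroupOf S.Tsub : Set S.Tsub).toFinite.toFinset) ⊆
          Finset.univ.filter fun x : S.Tsub => x ^ r = 1 := by
        intro x hx
        simp only [Finset.mem_insert, Set.Finite.mem_toFinset, SetLike.mem_coe] at hx
        simp only [Finset.mem_filter, Finset.mem_univ, true_and]
        refine Subtype.ext ?_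
        show (x : G) ^ r = 1
        rcases hx with rfl | hx
        · exact hτr
        · obtain ⟨i, hi⟩ := mem_zpowers_iff.mp (mem_subgroupOf.mp hx)
          rw [← hi, ← zpow_natCast, ← zpow_mul, mul_comm, zpow_mul, zpow_natCast, har, one_zpow]
      have h2 := (Finset.card_le_card hsub).trans h1
      rw [Finset.card_insert_of_notMem (fun hx => hnot
        (mem_subgroupOf.mp (SetLike.mem_coe.mp ((Set.Finite.mem_toFinset _).mp hx))))] at h2
      have h3 : Nat.card ((zpowers a).subgroupOf S.Tsub) = r := by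
        rw [Nat.card_congr (subgroupOfEquivOfLe (zpowers_le.mpr ha)).toEquiv, Nat.card_zpowers,
          orderOf_eq_prime har ha1]
      rw [← Set.ncard_eq_toFinset_card, ← Nat.card_coe_set_eq, SetLike.coe_sort_coe, h3] at h2
      omega
    obtain ⟨i, hi⟩ := mem_zpowers_iff.mp (hvτ ▸ hτa)
    refine mem_zpowers_iff.mpr ⟨i, ?_⟩
    rw [show c⁻¹ * a * c = c⁻¹ * a * (c⁻¹)⁻¹ by group, conj_zpow, hi]
    group
  · intro h9
    have hcard : Nat.card (centralizer ({c⁻¹ * a * c} : Set G)) = Nat.card H := by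
      refine Nat.card_congr (Equiv.subtypeEquiv (MulAut.conj c).toEquiv fun x => ?_)
      rw [mem_centralizer_singleton_iff, hHdef, mem_centralizer_singleton_iff]
      show _ ↔ c * x * c⁻¹ * a = a * (c * x * c⁻¹)
      constructor
      · intro h
        calc c * x * c⁻¹ * a = c * (x * (c⁻¹ * a * c)) * c⁻¹ := by group
          _ = a * (c * x * c⁻¹) := by rw [h]; group
      · intro h
        calc x * (c⁻¹ * a * c) = c⁻¹ * (c * x * c⁻¹ * a) * c := by group
          _ = c⁻¹ * a * c * x := by rw [h]; group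
    rw [hcard] at h9
    have hidx : (S.K.subgroupOf H).index ≤ 3 := by
      haveI := Fintype.ofFinite (H ⧸ S.K.subgroupOf H)
      rw [index_eq_card, Nat.card_eq_fintype_card, ← hV'card, ← Finset.card_univ]
      refine Finset.card_le_card_of_injOn (fun x => (x.out : G) * S.t * (x.out : G)⁻¹) ?_ ?_
      · intro x _
        have hV := (mem_normalizer_iff.mp (hHM x.out.2).2 S.t).mp ⟨S.t_mem_K, S.t_sq⟩
        rcases S.mem_Vsub.mp hV with h | h | h | h
        · exact absurd (conj_eq_one_iff.mp h) S.t_ne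
        all_goals simp [hV', h]
      · intro x _ y _ e
        rw [← QuotientGroup.out_eq' x, ← QuotientGroup.out_eq' y, QuotientGroup.eq]
        refine mem_subgroupOf.mpr (hstab _ (hHM (SetLike.coe_mem _)) S.t ⟨S.t_mem_K, S.t_sq⟩ S.t_ne ?_)
        simp only [Subgroup.coe_mul, Subgroup.coe_inv, mul_inv_rev, inv_inv]
        have e' : (x.out : G) * S.t * (x.out : G)⁻¹ = (y.out : G) * S.t * (y.out : G)⁻¹ := e
        calc (x.out : G)⁻¹ * (y.out : G) * S.t * ((y.out : G)⁻¹ * (x.out : G)) =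
            (x.out : G)⁻¹ * ((y.out : G) * S.t * (y.out : G)⁻¹) * x.out := by group
          _ = S.t := by rw [← e']; group
    rw [← (S.K.subgroupOf H).card_mul_index, Nat.card_congr (subgroupOfEquivOfLe hKH).toEquiv,
      S.card_K] at h9
    have h0 : (S.K.subgroupOf H).index ≠ 0 := index_ne_zero_of_finite
    interval_cases hj : (S.K.subgroupOf H).index <;> omega

/-- The centralizer of a nontrivial element of the torus. -/
theorem cent_torus (hna : ¬ IsMulCommutative G) (hI : NoInv G) {τ : G} (hτ : τ ∈ S.Tsub)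
    (hτ1 : τ ≠ 1) {g : G} (hg : g * τ = τ * g) : g ∈ S.K := by
  have ho : orderOf τ ≠ 1 := fun e => hτ1 (orderOf_eq_one_iff.mp e)
  obtain ⟨r, hrp, hr⟩ := Nat.exists_prime_and_dvd ho
  haveI : Fact r.Prime := ⟨hrp⟩
  obtain ⟨k, hk⟩ := hr
  have hrT : r ∣ T :=
    (Dvd.intro k hk.symm).trans (orderOf_dvd_of_pow_eq_one (S.Tsub_pow hτ))
  refine S.cent_prime_torus hna hI hrT (pow_mem hτ k) ?_ ?_ (commute_of_pow hg k)
  · rw [← pow_mul, mul_comm, ← hk, pow_orderOf_eq_one]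
  · intro e
    have h := orderOf_dvd_of_pow_eq_one e
    rw [hk] at h
    have hk0 : 0 < k := Nat.pos_of_mul_pos_left (hk ▸ orderOf_pos τ)
    have := Nat.le_of_dvd hk0 h
    nlinarith [hrp.two_le]

end Setup

end Cfsg.Lib.ReeType
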